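import Mathlib
import Cfsg.Agent.Lead.Quat
import Cfsg.Agent.Helper1.Class2

set_option autoImplicit false

namespace Cfsg.Agent.Helper1

open scoped commutatorElement

theorem closure_comm {G : Type*} [Group G] (S : Set G) (hS : ∀ s ∈ S, ∀ t ∈ S, s * t = t * s) :
    ∀ x ∈ Subgroup.closure S, ∀ y ∈ Subgroup.closure S, x * y = y * x := by
  intro s hs t ht
  have h1 : Subgroup.closure S ≤ Subgroup.centralizer (Subgroup.closure S : Set G) := by
    rw [Subgroup.closure_le]
    intro u hu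
    rw [SetLike.mem_coe, Subgroup.mem_centralizer_iff]
    intro v hv
    have h2 : Subgroup.closure S ≤ Subgroup.centralizer ({u} : Set G) := by
      rw [Subgroup.closure_le]
      intro w hw
      rw [SetLike.mem_coe, Subgroup.mem_centralizer_iff]
      intro u' hu'
      rw [Set.mem_singleton_iff] at hu'
      rw [hu']
      exact hS u hu w hw
    exact (Subgroup.mem_centralizer_iff.mp (h2 hv) u rfl).symm
  exact (Subgroup.mem_centralizer_iff.mp (h1 ht) s hs)

theorem closure_pow_eq_one {G : Type*} [Group G] (S : Set G)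
    (hS : ∀ s ∈ S, ∀ t ∈ S, s * t = t * s) (m : ℕ) (hm : ∀ s ∈ S, s ^ m = 1) :
    ∀ x ∈ Subgroup.closure S, x ^ m = 1 := by
  intro x hx
  induction hx using Subgroup.closure_induction with
  | mem y hy => exact hm y hy
  | one => exact one_pow _
  | mul y z hy hz ihy ihz =>
    have hc : Commute y z := closure_comm S hS y hy z hz
    rw [hc.mul_pow, ihy, ihz, one_mul]
  | inv y hy ih => rw [inv_pow, ih, inv_one]

theorem closure_normal_of_conj {G : Type*} [Group G] (S : Set G)
    (hS : ∀ g : G, ∀ s ∈ S, g * s * g⁻¹ ∈ Subgroup.closure S) : (Subgroup.closure S).Normal := by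
  constructor
  intro n hn g
  induction hn using Subgroup.closure_induction with
  | mem y hy => exact hS g y hy
  | one => simp
  | mul y z hy hz ihy ihz =>
    have h : g * (y * z) * g⁻¹ = (g * y * g⁻¹) * (g * z * g⁻¹) := by group
    rw [h]
    exact mul_mem ihy ihz
  | inv y hy ih =>
    have h : g * y⁻¹ * g⁻¹ = (g * y * g⁻¹)⁻¹ := by group
    rw [h]
    exact inv_mem ih

/-- a `p`-group `N` normalising a nontrivial subgroup `W` of a finite `p`-group centralises a
nontrivial element of `W` -/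
theorem exists_fixed_of_le_normalizer {G : Type*} [Group G] [Finite G] {p : ℕ} [Fact p.Prime]
    (hG : IsPGroup p G) (W N : Subgroup G) (hN : N ≤ Subgroup.normalizer (W : Set G))
    (hW : W ≠ ⊥) : ∃ w ∈ W, w ≠ 1 ∧ ∀ h ∈ N, h * w = w * h := by
  have hWK : W ≤ W ⊔ N := le_sup_left
  have hnorm : (W.subgroupOf (W ⊔ N)).Normal :=
    (Subgroup.normal_subgroupOf_iff_le_normalizer hWK).mpr (sup_le Subgroup.le_normalizer hN)
  have hne : W.subgroupOf (W ⊔ N) ≠ ⊥ := by
    intro h
    apply hW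
    rw [eq_bot_iff]
    intro w hw
    have h1 : (⟨w, hWK hw⟩ : (W ⊔ N : Subgroup G)) ∈ W.subgroupOf (W ⊔ N) :=
      Subgroup.mem_subgroupOf.mpr hw
    rw [h, Subgroup.mem_bot] at h1
    rw [Subgroup.mem_bot]
    exact congrArg Subtype.val h1
  obtain ⟨b, hb, hb1, hbc⟩ := Cfsg.Agent.Lead.normal_inf_center_ne_bot' p
    (hG.to_subgroup (W ⊔ N)) (W.subgroupOf (W ⊔ N)) hne
  refine ⟨(b : G), Subgroup.mem_subgroupOf.mp hb, fun h => hb1 (Subtype.ext h), ?_⟩
  intro h hh
  have h2 := Subgroup.mem_center_iff.mp hbc ⟨h, (le_sup_right : N ≤ W ⊔ N) hh⟩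
  exact congrArg Subtype.val h2

theorem exists_mul_pow_eq_of_mem_centralizer {G : Type*} [Group G] (A : Subgroup G) (u v : G)
    (hu : u ∈ Subgroup.centralizer (A : Set G)) (hv : v ∈ Subgroup.centralizer (A : Set G))
    (ha : ⁅v, u⁆ ∈ A) (m : ℕ) :
    ∃ t : ℕ, 2 * t = m * (m - 1) ∧ (u * v) ^ m = ⁅v, u⁆ ^ t * u ^ m * v ^ m := by
  have hc : ∀ g : Subgroup.centralizer (A : Set G),
      Commute ⁅(⟨v, hv⟩ : Subgroup.centralizer (A : Set G)), ⟨u, hu⟩⁆ g := by
    intro g
    apply Subtype.ext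
    show ⁅v, u⁆ * (g : G) = (g : G) * ⁅v, u⁆
    exact Subgroup.mem_centralizer_iff.mp g.2 _ ha
  obtain ⟨t, ht, h⟩ := exists_mul_pow_eq (⟨u, hu⟩ : Subgroup.centralizer (A : Set G)) ⟨v, hv⟩ hc m
  exact ⟨t, ht, congrArg Subtype.val h⟩

theorem dvd_of_two_mul_eq {p n t : ℕ} (hp : p.Prime) (hn0 : n ≠ 0) (hn : p ^ n ≠ 2)
    (ht : 2 * t = p ^ n * (p ^ n - 1)) : p ∣ t := by
  have h1 : p ∣ 2 * t := by
    rw [ht]
    exact dvd_mul_of_dvd_left (dvd_pow_self p hn0) _
  rcases (Nat.Prime.dvd_mul hp).mp h1 with h2 | h2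
  · have hp2 : p = 2 := (Nat.prime_dvd_prime_iff_eq hp Nat.prime_two).mp h2
    subst hp2
    have hn2 : 2 ≤ n := by
      rcases Nat.lt_or_ge n 2 with h | h
      · have h' : n = 1 := by omega
        subst h'
        exact absurd (pow_one 2) hn
      · exact h
    obtain ⟨k, rfl⟩ : ∃ k, n = k + 2 := ⟨n - 2, by omega⟩
    have h3 : 2 * t = 2 * (2 * (2 ^ k * (2 ^ (k + 2) - 1))) := by
      rw [ht]
      have h4 : 2 ^ (k + 2) = 2 * (2 * 2 ^ k) := by ring
      generalize 2 ^ (k + 2) - 1 = w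
      rw [h4]
      ring
    exact ⟨2 ^ k * (2 ^ (k + 2) - 1), Nat.eq_of_mul_eq_mul_left (by norm_num) h3⟩
  · exact h2

theorem conj_comm_iff {Q : Type*} [Group Q] (γ ν η : Q) :
    (γ * ν * γ⁻¹) * η = η * (γ * ν * γ⁻¹) ↔ ν * (γ⁻¹ * η * γ) = (γ⁻¹ * η * γ) * ν := by
  constructor
  · intro e
    calc ν * (γ⁻¹ * η * γ) = γ⁻¹ * ((γ * ν * γ⁻¹) * η) * γ := by group
      _ = γ⁻¹ * (η * (γ * ν * γ⁻¹)) * γ := by rw [e]
      _ = (γ⁻¹ * η * γ) * ν := by group
  · intro e
    calc (γ * ν * γ⁻¹) * η = γ * (ν * (γ⁻¹ * η * γ)) * γ⁻¹ := by group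
      _ = γ * ((γ⁻¹ * η * γ) * ν) * γ⁻¹ := by rw [e]
      _ = η * (γ * ν * γ⁻¹) := by group

/-- Alperin: a maximal normal abelian subgroup of exponent dividing `p ^ n` (`p ^ n ≠ 2`) of a
`p`-group contains all elements of order dividing `p ^ n` of its centralizer. -/
theorem mem_of_maximal_normal_abelian_exp {G : Type*} [Group G] [Finite G] {p : ℕ}
    [Fact p.Prime] (hG : IsPGroup p G) (n : ℕ) (hn : p ^ n ≠ 2) (A : Subgroup G) [hAn : A.Normal]
    (hA : IsMulCommutative A) (hAe : ∀ a ∈ A, a ^ p ^ n = 1)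
    (hmax : ∀ B : Subgroup G, B.Normal → IsMulCommutative B → (∀ b ∈ B, b ^ p ^ n = 1) →
      A ≤ B → B = A)
    (x : G) (hx : x ∈ Subgroup.centralizer (A : Set G)) (hxn : x ^ p ^ n = 1) : x ∈ A := by
  have hp : p.Prime := Fact.out
  by_contra hxA
  have hn0 : n ≠ 0 := by
    rintro rfl
    rw [pow_zero, pow_one] at hxn
    exact hxA (hxn ▸ A.one_mem)
  set C := Subgroup.centralizer (A : Set G) with hC
  have hCn : C.Normal := inferInstance
  set π := QuotientGroup.mk' A with hπ
  have hAcomm : ∀ a ∈ A, ∀ b ∈ A, a * b = b * a := fun a ha b hb =>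
    congrArg Subtype.val (hA.is_comm.comm ⟨a, ha⟩ ⟨b, hb⟩)
  have hAC : A ≤ C := fun a ha => Subgroup.mem_centralizer_iff.mpr (fun b hb => hAcomm b hb a ha)
  have hπA : ∀ a ∈ A, π a = 1 := fun a ha => (QuotientGroup.eq_one_iff a).mpr ha
  have hTdef : ∀ v h : G, h ∈ (Subgroup.centralizer {π v}).comap π ↔ π v * π h = π h * π v := by
    intro v h
    rw [Subgroup.mem_comap, Subgroup.mem_centralizer_iff]
    constructor
    · intro hh
      exact hh _ rfl
    · intro hh y hy
      rw [Set.mem_singleton_iff] at hy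
      rw [hy]
      exact hh
  have hex : ∃ y, (y ∈ C ∧ y ^ p ∈ A ∧ y ^ p ^ n = 1) ∧ y ∉ A := by
    have hfind : ∃ j, x ^ p ^ j ∈ A := ⟨n, by rw [hxn]; exact A.one_mem⟩
    classical
    have hj0 : Nat.find hfind ≠ 0 := by
      intro h0
      have h1 := Nat.find_spec hfind
      rw [h0, pow_zero, pow_one] at h1
      exact hxA h1
    refine ⟨x ^ p ^ (Nat.find hfind - 1), ⟨C.pow_mem hx _, ?_, ?_⟩, ?_⟩
    · rw [← pow_mul, ← pow_succ, Nat.sub_add_cancel (by omega)]
      exact Nat.find_spec hfind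
    · rw [← pow_mul, mul_comm, pow_mul, hxn, one_pow]
    · exact Nat.find_min hfind (by omega : Nat.find hfind - 1 < Nat.find hfind)
  obtain ⟨y, hyU, hyA⟩ := hex
  have hprod : ∀ u v : G, (u ∈ C ∧ u ^ p ∈ A ∧ u ^ p ^ n = 1) →
      (v ∈ C ∧ v ^ p ∈ A ∧ v ^ p ^ n = 1) → π u * π v = π v * π u →
      (u * v ∈ C ∧ (u * v) ^ p ∈ A ∧ (u * v) ^ p ^ n = 1) := by
    intro u v hu hv hcomm
    have ha : ⁅v, u⁆ ∈ A := by
      rw [← QuotientGroup.eq_one_iff, commutatorElement_def]
      show π (v * u * v⁻¹ * u⁻¹) = 1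
      rw [map_mul, map_mul, map_mul, map_inv, map_inv, ← hcomm]
      group
    have hap : ⁅v, u⁆ ^ p = 1 := by
      have hcv : Commute ⁅v, u⁆ v := Subgroup.mem_centralizer_iff.mp hv.1 _ ha
      rw [← commutatorElement_pow_left v u hcv p, commutatorElement_eq_one_iff_mul_comm]
      exact Subgroup.mem_centralizer_iff.mp hu.1 _ hv.2.1
    refine ⟨C.mul_mem hu.1 hv.1, ?_, ?_⟩
    · obtain ⟨t, -, h⟩ := exists_mul_pow_eq_of_mem_centralizer A u v hu.1 hv.1 ha p
      rw [h]
      exact A.mul_mem (A.mul_mem (A.pow_mem ha t) hu.2.1) hv.2.1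
    · obtain ⟨t, ht, h⟩ := exists_mul_pow_eq_of_mem_centralizer A u v hu.1 hv.1 ha (p ^ n)
      obtain ⟨s, rfl⟩ := dvd_of_two_mul_eq hp hn0 hn ht
      rw [h, pow_mul, hap, one_pow, hu.2.2, hv.2.2, one_mul, one_mul]
  obtain ⟨T₀, -, hT₀max⟩ := Finite.exists_le_maximal
    (p := fun S : Subgroup G => ∃ v, (v ∈ C ∧ v ^ p ∈ A ∧ v ^ p ^ n = 1) ∧ v ∉ A ∧
      (Subgroup.centralizer {π v}).comap π = S)
    (a := (Subgroup.centralizer {π y}).comap π) ⟨y, hyU, hyA, rfl⟩
  obtain ⟨⟨u, huU, huA, huT⟩, hmaxT⟩ := hT₀max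
  by_cases hTtop : T₀ = ⊤
  · have hucen : ∀ g : G, π u * π g = π g * π u := by
      intro g
      have h1 : g ∈ (Subgroup.centralizer {π u}).comap π := by
        rw [huT, hTtop]
        exact Subgroup.mem_top g
      exact (hTdef u g).mp h1
    have hScomm : ∀ s ∈ ((A : Set G) ∪ {u}), ∀ t ∈ ((A : Set G) ∪ {u}), s * t = t * s := by
      rintro s (hs | hs) t (ht | ht)
      · exact hAcomm s hs t ht
      · rw [Set.mem_singleton_iff] at ht
        rw [ht]
        exact Subgroup.mem_centralizer_iff.mp huU.1 s hs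
      · rw [Set.mem_singleton_iff] at hs
        rw [hs]
        exact (Subgroup.mem_centralizer_iff.mp huU.1 t ht).symm
      · rw [Set.mem_singleton_iff] at hs ht
        rw [hs, ht]
    have hSpow : ∀ s ∈ ((A : Set G) ∪ {u}), s ^ p ^ n = 1 := by
      rintro s (hs | hs)
      · exact hAe s hs
      · rw [Set.mem_singleton_iff] at hs
        rw [hs]
        exact huU.2.2
    have hSconj : ∀ g : G, ∀ s ∈ ((A : Set G) ∪ {u}),
        g * s * g⁻¹ ∈ Subgroup.closure ((A : Set G) ∪ {u}) := by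
      rintro g s (hs | hs)
      · exact Subgroup.subset_closure (Or.inl (hAn.conj_mem s hs g))
      · rw [Set.mem_singleton_iff] at hs
        rw [hs]
        have h1 : π (g * u * g⁻¹) = π u := by
          rw [map_mul, map_mul, map_inv, ← hucen g, mul_inv_cancel_right]
        have h2 : u⁻¹ * (g * u * g⁻¹) ∈ A := QuotientGroup.eq.mp h1.symm
        have h3 : g * u * g⁻¹ = u * (u⁻¹ * (g * u * g⁻¹)) := by group
        rw [h3]
        exact mul_mem (Subgroup.subset_closure (Or.inr rfl)) (Subgroup.subset_closure (Or.inl h2))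
    have hBn := closure_normal_of_conj _ hSconj
    have hBc : IsMulCommutative (Subgroup.closure ((A : Set G) ∪ {u})) :=
      ⟨⟨fun a b => Subtype.ext (closure_comm _ hScomm a a.2 b b.2)⟩⟩
    have hBA := hmax (Subgroup.closure ((A : Set G) ∪ {u})) hBn hBc
      (closure_pow_eq_one _ hScomm _ hSpow) (fun a ha => Subgroup.subset_closure (Or.inl ha))
    have hu1 : u ∈ Subgroup.closure ((A : Set G) ∪ {u}) := Subgroup.subset_closure (Or.inr rfl)
    rw [hBA] at hu1
    exact huA hu1
  · have hnil : Group.IsNilpotent G := hG.isNilpotent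
    have hlt : T₀ < Subgroup.normalizer (T₀ : Set G) :=
      Group.normalizerCondition_of_isNilpotent T₀ (lt_top_iff_ne_top.mpr hTtop)
    have hcomm_of : ∀ w : G, (w ∈ A ∨ (Subgroup.centralizer {π w}).comap π = T₀) →
        ∀ h ∈ T₀, π w * π h = π h * π w := by
      intro w hw h hh
      rcases hw with hw | hw
      · rw [hπA w hw, one_mul, mul_one]
      · rw [← hw] at hh
        exact (hTdef w h).mp hh
    let W : Subgroup G :=
      { carrier := {v | (v ∈ C ∧ v ^ p ∈ A ∧ v ^ p ^ n = 1) ∧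
          (v ∈ A ∨ (Subgroup.centralizer {π v}).comap π = T₀)}
        one_mem' := ⟨⟨C.one_mem, by rw [one_pow]; exact A.one_mem, one_pow _⟩, Or.inl A.one_mem⟩
        inv_mem' := by
          rintro v ⟨⟨hv1, hv2, hv3⟩, hv4⟩
          refine ⟨⟨C.inv_mem hv1, by rw [inv_pow]; exact A.inv_mem hv2, by rw [inv_pow, hv3, inv_one]⟩, ?_⟩
          rcases hv4 with hv4 | hv4
          · exact Or.inl (A.inv_mem hv4)
          · right
            rw [← hv4]
            ext h
            rw [hTdef, hTdef, map_inv]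
            exact Commute.inv_left_iff
        mul_mem' := by
          rintro a b ⟨ha1, ha2⟩ ⟨hb1, hb2⟩
          have hcomm : π a * π b = π b * π a := by
            rcases ha2 with ha2 | ha2
            · rw [hπA a ha2, one_mul, mul_one]
            · rcases hb2 with hb2 | hb2
              · rw [hπA b hb2, one_mul, mul_one]
              · have h1 : b ∈ (Subgroup.centralizer {π b}).comap π := (hTdef b b).mpr rfl
                rw [hb2, ← ha2] at h1
                exact (hTdef a b).mp h1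
          have hU := hprod a b ha1 hb1 hcomm
          refine ⟨hU, ?_⟩
          by_cases habA : a * b ∈ A
          · exact Or.inl habA
          · right
            have hle : T₀ ≤ (Subgroup.centralizer {π (a * b)}).comap π := by
              intro h hh
              rw [hTdef, map_mul]
              have e1 := hcomm_of a ha2 h hh
              have e2 := hcomm_of b hb2 h hh
              rw [mul_assoc, e2, ← mul_assoc, e1, mul_assoc]
            exact le_antisymm (hmaxT ⟨a * b, hU, habA, rfl⟩ hle) hle }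
    have huW : u ∈ W := ⟨huU, Or.inr huT⟩
    have hconjW : ∀ g ∈ Subgroup.normalizer (T₀ : Set G), ∀ v ∈ W, g * v * g⁻¹ ∈ W := by
      rintro g hg v ⟨⟨hv1, hv2, hv3⟩, hv4⟩
      refine ⟨⟨hCn.conj_mem v hv1 g, ?_, ?_⟩, ?_⟩
      · rw [conj_pow]
        exact hAn.conj_mem _ hv2 g
      · rw [conj_pow, hv3, mul_one, mul_inv_cancel]
      · rcases hv4 with hv4 | hv4
        · exact Or.inl (hAn.conj_mem v hv4 g)
        · right
          ext h
          rw [hTdef, map_mul, map_mul, map_inv, conj_comm_iff, ← map_inv, ← map_mul, ← map_mul,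
            ← hTdef, hv4]
          have h1 := Subgroup.mem_normalizer_iff.mp hg (g⁻¹ * h * g)
          have h2 : g * (g⁻¹ * h * g) * g⁻¹ = h := by group
          rw [h2] at h1
          exact h1
    have hN₂W : Subgroup.normalizer (T₀ : Set G) ≤ Subgroup.normalizer (W : Set G) := by
      intro g hg
      rw [Subgroup.mem_normalizer_iff]
      intro v
      constructor
      · exact hconjW g hg v
      · intro hv
        have h1 := hconjW g⁻¹ ((Subgroup.normalizer (T₀ : Set G)).inv_mem hg) _ hv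
        have h2 : g⁻¹ * (g * v * g⁻¹) * g⁻¹⁻¹ = v := by group
        rwa [h2] at h1
    have hNbar : (Subgroup.normalizer (T₀ : Set G)).map π ≤ Subgroup.normalizer ((W.map π : Subgroup (G ⧸ A)) : Set (G ⧸ A)) :=
      (Subgroup.map_mono hN₂W).trans (Subgroup.le_normalizer_map π)
    have hWbar : W.map π ≠ ⊥ := by
      intro hbot
      have h1 : π u ∈ W.map π := Subgroup.mem_map_of_mem π huW
      rw [hbot, Subgroup.mem_bot] at h1
      exact huA ((QuotientGroup.eq_one_iff u).mp h1)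
    obtain ⟨w, hw, hw1, hwfix⟩ := exists_fixed_of_le_normalizer (hG.to_quotient A) (W.map π)
      ((Subgroup.normalizer (T₀ : Set G)).map π) hNbar hWbar
    obtain ⟨v, hvW, rfl⟩ := hw
    have hvA : v ∉ A := fun h => hw1 (hπA v h)
    have hvT : (Subgroup.centralizer {π v}).comap π = T₀ := by
      rcases hvW.2 with h | h
      · exact absurd h hvA
      · exact h
    have hle : Subgroup.normalizer (T₀ : Set G) ≤ T₀ := by
      intro h hh
      rw [← hvT, hTdef]
      exact (hwfix (π h) (Subgroup.mem_map_of_mem π hh)).symm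
    exact lt_irrefl _ (lt_of_lt_of_le hlt hle)

end Cfsg.Agent.Helper1
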