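import Mathlib

set_option autoImplicit false

/-!
Helper library (seat helper1): building isomorphisms of central products and of groups of order
`p ^ 3` given by normal forms `x ^ a * y ^ b * z ^ c`.
-/

namespace Cfsg.Agent.Helper1

/-- two surjections with the same kernel give an isomorphism of their targets -/
theorem exists_mulEquiv_of_ker_eq {P E₁ E₂ : Type*} [Group P] [Group E₁] [Group E₂]
    (ψ₁ : P →* E₁) (ψ₂ : P →* E₂) (h₁ : Function.Surjective ψ₁) (h₂ : Function.Surjective ψ₂)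
    (hk : ψ₁.ker = ψ₂.ker) : ∃ φ : E₁ ≃* E₂, ∀ t : P, φ (ψ₁ t) = ψ₂ t := by
  let L : E₁ →* E₂ := ψ₁.liftOfSurjective h₁ ⟨ψ₂, hk.le⟩
  have hL : ∀ t : P, L (ψ₁ t) = ψ₂ t := fun t =>
    MonoidHom.liftOfRightInverse_comp_apply _ _ _ ⟨ψ₂, hk.le⟩ t
  have hbij : Function.Bijective L := by
    constructor
    · rw [injective_iff_map_eq_one]
      intro e he
      obtain ⟨t, rfl⟩ := h₁ e
      rw [hL] at he
      have : t ∈ ψ₁.ker := by rw [hk]; exact MonoidHom.mem_ker.mpr he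
      exact MonoidHom.mem_ker.mp this
    · intro e
      obtain ⟨t, rfl⟩ := h₂ e
      exact ⟨ψ₁ t, hL t⟩
  exact ⟨MulEquiv.ofBijective L hbij, hL⟩

/-- isomorphism of central products from isomorphisms of the factors agreeing on the
intersection -/
theorem central_product_iso {E₁ E₂ : Type*} [Group E₁] [Group E₂] (H₁ C₁ : Subgroup E₁)
    (H₂ C₂ : Subgroup E₂)
    (hcomm₁ : ∀ h ∈ H₁, ∀ c ∈ C₁, h * c = c * h) (hcomm₂ : ∀ h ∈ H₂, ∀ c ∈ C₂, h * c = c * h)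
    (hdec₁ : ∀ e : E₁, ∃ h ∈ H₁, ∃ c ∈ C₁, e = h * c)
    (hdec₂ : ∀ e : E₂, ∃ h ∈ H₂, ∃ c ∈ C₂, e = h * c)
    (φH : H₁ ≃* H₂) (φC : C₁ ≃* C₂)
    (hcompat : ∀ (h : H₁) (c : C₁), (h : E₁) = c → ((φH h : H₂) : E₂) = φC c)
    (hcompat' : ∀ (h : H₁) (c : C₁), ((φH h : H₂) : E₂) = φC c → (h : E₁) = c) :
    ∃ φ : E₁ ≃* E₂, (∀ h : H₁, φ h = φH h) ∧ (∀ c : C₁, φ c = φC c) := by
  let ψ₁ : H₁ × C₁ →* E₁ := MonoidHom.noncommCoprod H₁.subtype C₁.subtype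
    (fun h c => hcomm₁ h h.2 c c.2)
  let ψ₂ : H₁ × C₁ →* E₂ := MonoidHom.noncommCoprod (H₂.subtype.comp φH.toMonoidHom)
    (C₂.subtype.comp φC.toMonoidHom) (fun h c => hcomm₂ _ (φH h).2 _ (φC c).2)
  have hψ₁ : ∀ (h : H₁) (c : C₁), ψ₁ (h, c) = (h : E₁) * c := fun h c => rfl
  have hψ₂ : ∀ (h : H₁) (c : C₁), ψ₂ (h, c) = ((φH h : H₂) : E₂) * φC c := fun h c => rfl
  have hs₁ : Function.Surjective ψ₁ := by
    intro e
    obtain ⟨h, hh, c, hc, rfl⟩ := hdec₁ e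
    exact ⟨(⟨h, hh⟩, ⟨c, hc⟩), rfl⟩
  have hs₂ : Function.Surjective ψ₂ := by
    intro e
    obtain ⟨h, hh, c, hc, rfl⟩ := hdec₂ e
    refine ⟨(φH.symm ⟨h, hh⟩, φC.symm ⟨c, hc⟩), ?_⟩
    rw [hψ₂, MulEquiv.apply_symm_apply, MulEquiv.apply_symm_apply]
  have hk : ψ₁.ker = ψ₂.ker := by
    ext ⟨h, c⟩
    rw [MonoidHom.mem_ker, MonoidHom.mem_ker, hψ₁, hψ₂]
    constructor
    · intro h1
      have h2 : (h : E₁) = ((c⁻¹ : C₁) : E₁) := by
        rw [Subgroup.coe_inv]; exact eq_inv_of_mul_eq_one_left h1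
      have h3 := hcompat h c⁻¹ h2
      rw [h3, map_inv, Subgroup.coe_inv, inv_mul_cancel]
    · intro h1
      have h2 : ((φH h : H₂) : E₂) = φC c⁻¹ := by
        rw [map_inv, Subgroup.coe_inv]; exact eq_inv_of_mul_eq_one_left h1
      have h3 := hcompat' h c⁻¹ h2
      rw [h3, Subgroup.coe_inv, inv_mul_cancel]
  obtain ⟨φ, hφ⟩ := exists_mulEquiv_of_ker_eq ψ₁ ψ₂ hs₁ hs₂ hk
  refine ⟨φ, fun h => ?_, fun c => ?_⟩
  · have := hφ (h, 1)
    rw [hψ₁, hψ₂] at this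
    simpa using this
  · have := hφ (1, c)
    rw [hψ₁, hψ₂] at this
    simpa using this

section nf

variable {E : Type*} [Group E] {x y z : E}

theorem nf_comm_aux (hz : ∀ g : E, g * z = z * g) (hc : y * x = z * x * y) (a : ℕ) :
    y * x ^ a = z ^ a * x ^ a * y := by
  induction a with
  | zero => simp
  | succ a ih =>
    have hza : ∀ g : E, g * z ^ a = z ^ a * g := fun g => ((Commute.pow_right (hz g) a)).eq
    calc y * x ^ (a + 1) = y * x ^ a * x := by rw [pow_succ, mul_assoc]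
      _ = z ^ a * x ^ a * (y * x) := by rw [ih]; group
      _ = z ^ a * x ^ a * (z * x * y) := by rw [hc]
      _ = z ^ a * (x ^ a * z) * x * y := by group
      _ = z ^ a * (z * x ^ a) * x * y := by rw [hz (x ^ a)]
      _ = z ^ (a + 1) * x ^ (a + 1) * y := by rw [pow_succ, pow_succ]; group

theorem nf_comm (hz : ∀ g : E, g * z = z * g) (hc : y * x = z * x * y) (b a : ℕ) :
    y ^ b * x ^ a = z ^ (b * a) * x ^ a * y ^ b := by
  induction b with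
  | zero => simp
  | succ b ih =>
    have hzk : ∀ (k : ℕ) (g : E), g * z ^ k = z ^ k * g := fun k g =>
      ((Commute.pow_right (hz g) k)).eq
    calc y ^ (b + 1) * x ^ a = y * (y ^ b * x ^ a) := by rw [pow_succ']; group
      _ = y * (z ^ (b * a) * x ^ a * y ^ b) := by rw [ih]
      _ = (y * z ^ (b * a)) * x ^ a * y ^ b := by group
      _ = z ^ (b * a) * (y * x ^ a) * y ^ b := by rw [hzk (b * a) y]; group
      _ = z ^ (b * a) * (z ^ a * x ^ a * y) * y ^ b := by rw [nf_comm_aux hz hc a]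
      _ = z ^ ((b + 1) * a) * x ^ a * y ^ (b + 1) := by
        rw [add_mul, one_mul, pow_add, pow_succ' y b]; group

/-- product of two normal forms -/
theorem nf_mul (hz : ∀ g : E, g * z = z * g) (hc : y * x = z * x * y) (a b c a' b' c' : ℕ) :
    (x ^ a * y ^ b * z ^ c) * (x ^ a' * y ^ b' * z ^ c') =
      x ^ (a + a') * y ^ (b + b') * z ^ (c + c' + b * a') := by
  have hzk : ∀ (k : ℕ) (g : E), g * z ^ k = z ^ k * g := fun k g =>
    ((Commute.pow_right (hz g) k)).eq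
  calc (x ^ a * y ^ b * z ^ c) * (x ^ a' * y ^ b' * z ^ c')
      = x ^ a * y ^ b * (z ^ c * (x ^ a' * y ^ b')) * z ^ c' := by group
    _ = x ^ a * y ^ b * ((x ^ a' * y ^ b') * z ^ c) * z ^ c' := by rw [hzk c]
    _ = x ^ a * (y ^ b * x ^ a') * y ^ b' * z ^ c * z ^ c' := by group
    _ = x ^ a * (z ^ (b * a') * x ^ a' * y ^ b) * y ^ b' * z ^ c * z ^ c' := by
      rw [nf_comm hz hc b a']
    _ = (x ^ a * z ^ (b * a')) * x ^ a' * y ^ b * y ^ b' * z ^ c * z ^ c' := by group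
    _ = (z ^ (b * a') * x ^ a) * x ^ a' * y ^ b * y ^ b' * z ^ c * z ^ c' := by
      rw [hzk (b * a') (x ^ a)]
    _ = z ^ (b * a') * (x ^ (a + a') * y ^ (b + b') * z ^ (c + c')) := by
      rw [pow_add, pow_add, pow_add]; group
    _ = (x ^ (a + a') * y ^ (b + b') * z ^ (c + c')) * z ^ (b * a') := by rw [hzk (b * a')]
    _ = x ^ (a + a') * y ^ (b + b') * z ^ (c + c' + b * a') := by
      rw [pow_add z (c + c'), mul_assoc]

/-- reduction of a normal form modulo `p` -/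
theorem nf_reduce (hz : ∀ g : E, g * z = z * g) {p : ℕ} (hzp : z ^ p = 1) {α β : ℕ}
    (hx : x ^ p = z ^ α) (hy : y ^ p = z ^ β) (a b c : ℕ) :
    x ^ a * y ^ b * z ^ c =
      x ^ (a % p) * y ^ (b % p) * z ^ ((c + α * (a / p) + β * (b / p)) % p) := by
  have hzk : ∀ (k : ℕ) (g : E), g * z ^ k = z ^ k * g := fun k g =>
    ((Commute.pow_right (hz g) k)).eq
  have hxa : x ^ a = x ^ (a % p) * z ^ (α * (a / p)) := by
    conv_lhs => rw [← Nat.mod_add_div a p]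
    rw [pow_add, pow_mul, hx, ← pow_mul]
  have hyb : y ^ b = y ^ (b % p) * z ^ (β * (b / p)) := by
    conv_lhs => rw [← Nat.mod_add_div b p]
    rw [pow_add, pow_mul, hy, ← pow_mul]
  have hzc : ∀ k : ℕ, z ^ k = z ^ (k % p) := by
    intro k
    conv_lhs => rw [← Nat.mod_add_div k p]
    rw [pow_add, pow_mul, hzp, one_pow, mul_one]
  rw [← hzc, hxa, hyb]
  calc x ^ (a % p) * z ^ (α * (a / p)) * (y ^ (b % p) * z ^ (β * (b / p))) * z ^ c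
      = x ^ (a % p) * (z ^ (α * (a / p)) * y ^ (b % p)) * z ^ (β * (b / p)) * z ^ c := by group
    _ = x ^ (a % p) * (y ^ (b % p) * z ^ (α * (a / p))) * z ^ (β * (b / p)) * z ^ c := by
      rw [hzk (α * (a / p)) (y ^ (b % p))]
    _ = x ^ (a % p) * y ^ (b % p) * z ^ (c + α * (a / p) + β * (b / p)) := by
      rw [show c + α * (a / p) + β * (b / p) = α * (a / p) + β * (b / p) + c by omega,
        pow_add, pow_add]
      group

end nf

/-- two groups generated by `x, y` with `[y, x] = z` central of order dividing `p`,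
`x ^ p = z ^ α`, `y ^ p = z ^ β`, and of order at least `p ^ 3`, are isomorphic. -/
theorem p3_iso {E₁ E₂ : Type*} [Group E₁] [Group E₂] [Finite E₁] [Finite E₂] (p : ℕ)
    (hp : 0 < p) (α β : ℕ) (x₁ y₁ z₁ : E₁) (x₂ y₂ z₂ : E₂)
    (hz₁ : ∀ g : E₁, g * z₁ = z₁ * g) (hz₂ : ∀ g : E₂, g * z₂ = z₂ * g)
    (hzp₁ : z₁ ^ p = 1) (hzp₂ : z₂ ^ p = 1)
    (hc₁ : y₁ * x₁ = z₁ * x₁ * y₁) (hc₂ : y₂ * x₂ = z₂ * x₂ * y₂)
    (hx₁ : x₁ ^ p = z₁ ^ α) (hx₂ : x₂ ^ p = z₂ ^ α)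
    (hy₁ : y₁ ^ p = z₁ ^ β) (hy₂ : y₂ ^ p = z₂ ^ β)
    (hgen₁ : Subgroup.closure {x₁, y₁} = ⊤) (hgen₂ : Subgroup.closure {x₂, y₂} = ⊤)
    (hcard₁ : p ^ 3 ≤ Nat.card E₁) (hcard₂ : p ^ 3 ≤ Nat.card E₂) :
    ∃ φ : E₁ ≃* E₂, φ x₁ = x₂ ∧ φ y₁ = y₂ ∧ φ z₁ = z₂ := by
  classical
  let Γ : Subgroup (E₁ × E₂) := Subgroup.closure {(x₁, x₂), (y₁, y₂)}
  let f : Fin p × Fin p × Fin p → E₁ × E₂ := fun t =>
    (x₁ ^ (t.1 : ℕ) * y₁ ^ (t.2.1 : ℕ) * z₁ ^ (t.2.2 : ℕ),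
      x₂ ^ (t.1 : ℕ) * y₂ ^ (t.2.1 : ℕ) * z₂ ^ (t.2.2 : ℕ))
  let S : Set (E₁ × E₂) :=
    {t | ∃ a b c : ℕ, t = (x₁ ^ a * y₁ ^ b * z₁ ^ c, x₂ ^ a * y₂ ^ b * z₂ ^ c)}
  have hSmul : ∀ s t, s ∈ S → t ∈ S → s * t ∈ S := by
    rintro _ _ ⟨a, b, c, rfl⟩ ⟨a', b', c', rfl⟩
    refine ⟨a + a', b + b', c + c' + b * a', ?_⟩
    rw [Prod.mk_mul_mk, nf_mul hz₁ hc₁, nf_mul hz₂ hc₂]
  have hS1 : (1 : E₁ × E₂) ∈ S := ⟨0, 0, 0, Prod.ext (by simp) (by simp)⟩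
  have hSpow : ∀ s ∈ S, ∀ n : ℕ, s ^ n ∈ S := by
    intro s hs n
    induction n with
    | zero => rw [pow_zero]; exact hS1
    | succ n ih => rw [pow_succ]; exact hSmul _ _ ih hs
  have hSinv : ∀ s ∈ S, s⁻¹ ∈ S := by
    intro s hs
    have h2 : 0 < orderOf s := orderOf_pos s
    have h1 : s⁻¹ = s ^ (orderOf s - 1) := by
      apply inv_eq_of_mul_eq_one_left
      rw [← pow_succ, Nat.sub_add_cancel h2, pow_orderOf_eq_one]
    rw [h1]; exact hSpow s hs _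
  have hΓS : ∀ t ∈ Γ, t ∈ S := by
    intro t ht
    refine Subgroup.closure_induction (p := fun t _ => t ∈ S) ?_ hS1 ?_ ?_ ht
    · intro t ht
      rcases ht with rfl | rfl
      · exact ⟨1, 0, 0, Prod.ext (by simp) (by simp)⟩
      · exact ⟨0, 1, 0, Prod.ext (by simp) (by simp)⟩
    · intro s t _ _ hs ht
      exact hSmul _ _ hs ht
    · intro s _ hs
      exact hSinv _ hs
  have hSf : ∀ t ∈ S, t ∈ Set.range f := by
    rintro _ ⟨a, b, c, rfl⟩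
    refine ⟨(⟨a % p, Nat.mod_lt _ hp⟩, ⟨b % p, Nat.mod_lt _ hp⟩,
      ⟨(c + α * (a / p) + β * (b / p)) % p, Nat.mod_lt _ hp⟩), ?_⟩
    show (_, _) = (_, _)
    rw [nf_reduce hz₁ hzp₁ hx₁ hy₁ a b c, nf_reduce hz₂ hzp₂ hx₂ hy₂ a b c]
  have hΓcard : Nat.card Γ ≤ p ^ 3 := by
    have h1 : (Γ : Set (E₁ × E₂)) ⊆ Set.range f := fun t ht => hSf t (hΓS t ht)
    have h3 : (Set.range f).ncard ≤ Nat.card (Fin p × Fin p × Fin p) := by
      rw [← Set.image_univ]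
      calc (f '' Set.univ).ncard ≤ (Set.univ : Set (Fin p × Fin p × Fin p)).ncard :=
            Set.ncard_image_le (Set.toFinite _)
        _ = Nat.card (Fin p × Fin p × Fin p) := Set.ncard_univ _
    have h4 : Nat.card (Fin p × Fin p × Fin p) = p ^ 3 := by
      rw [Nat.card_prod, Nat.card_prod, Nat.card_fin]; ring
    calc Nat.card Γ = (Γ : Set (E₁ × E₂)).ncard := rfl
      _ ≤ (Set.range f).ncard := Set.ncard_le_ncard h1 (Set.toFinite _)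
      _ ≤ p ^ 3 := by rw [← h4]; exact h3
  let π₁ : Γ →* E₁ := (MonoidHom.fst E₁ E₂).comp Γ.subtype
  let π₂ : Γ →* E₂ := (MonoidHom.snd E₁ E₂).comp Γ.subtype
  have hx : ((x₁, x₂) : E₁ × E₂) ∈ Γ := Subgroup.subset_closure (by simp)
  have hy : ((y₁, y₂) : E₁ × E₂) ∈ Γ := Subgroup.subset_closure (by simp)
  have hs₁ : Function.Surjective π₁ := by
    rw [← MonoidHom.range_eq_top, eq_top_iff, ← hgen₁, Subgroup.closure_le]
    rintro e (rfl | rfl)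
    · exact ⟨⟨_, hx⟩, rfl⟩
    · exact ⟨⟨_, hy⟩, rfl⟩
  have hs₂ : Function.Surjective π₂ := by
    rw [← MonoidHom.range_eq_top, eq_top_iff, ← hgen₂, Subgroup.closure_le]
    rintro e (rfl | rfl)
    · exact ⟨⟨_, hx⟩, rfl⟩
    · exact ⟨⟨_, hy⟩, rfl⟩
  have hb₁ : Function.Bijective π₁ := hs₁.bijective_of_nat_card_le (hΓcard.trans hcard₁)
  have hb₂ : Function.Bijective π₂ := hs₂.bijective_of_nat_card_le (hΓcard.trans hcard₂)
  let e₁ : Γ ≃* E₁ := MulEquiv.ofBijective π₁ hb₁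
  let e₂ : Γ ≃* E₂ := MulEquiv.ofBijective π₂ hb₂
  let φ : E₁ ≃* E₂ := e₁.symm.trans e₂
  have hφ : ∀ t : Γ, φ (t.1.1) = t.1.2 := by
    intro t
    show e₂ (e₁.symm (e₁ t)) = π₂ t
    rw [e₁.symm_apply_apply t]; rfl
  have hφx : φ x₁ = x₂ := hφ ⟨_, hx⟩
  have hφy : φ y₁ = y₂ := hφ ⟨_, hy⟩
  refine ⟨φ, hφx, hφy, ?_⟩
  have h1 : z₁ = y₁ * x₁ * (x₁ * y₁)⁻¹ := by rw [hc₁]; group
  have h2 : z₂ = y₂ * x₂ * (x₂ * y₂)⁻¹ := by rw [hc₂]; group
  rw [h1, map_mul, map_mul, map_inv, map_mul, hφx, hφy, ← h2]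

end Cfsg.Agent.Helper1
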