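import Mathlib
import Cfsg.Agent.Helper1.Grp
import Cfsg.Agent.Helper1.Transfer

set_option autoImplicit false

namespace Cfsg.Agent.Helper1

open scoped Pointwise

/-- for a Sylow subgroup `P` and a subgroup `C` there is a Sylow subgroup `S ≥ P ∩ C` with
`S ∩ C` a Sylow subgroup of `C` -/
theorem exists_sylow_inf_le {G : Type*} [Group G] [Finite G] {p : ℕ} [Fact p.Prime]
    (P : Sylow p G) (C : Subgroup G) :
    ∃ S : Sylow p G, (P : Subgroup G) ⊓ C ≤ S ∧ ¬ p ∣ (S : Subgroup G).relIndex C := by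
  have h1 : IsPGroup p ((P : Subgroup G).subgroupOf C) := P.2.comap_subtype
  obtain ⟨S₀, hS₀⟩ := h1.exists_le_sylow
  have h2 : IsPGroup p ((S₀ : Subgroup C).map C.subtype) := S₀.2.map _
  obtain ⟨S, hS⟩ := h2.exists_le_sylow
  refine ⟨S, ?_, ?_⟩
  · intro z hz
    apply hS
    exact ⟨⟨z, hz.2⟩, hS₀ (Subgroup.mem_subgroupOf.mpr hz.1), rfl⟩
  · have h3 : (S₀ : Subgroup C) ≤ (S : Subgroup G).subgroupOf C := by
      intro z hz
      rw [Subgroup.mem_subgroupOf]
      exact hS ⟨z, hz, rfl⟩
    intro hdvd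
    exact S₀.not_dvd_index (dvd_trans hdvd (Subgroup.index_dvd_of_le h3))

/-- a Sylow subgroup meets a normal subgroup in a Sylow subgroup of it -/
theorem not_dvd_relIndex_normal {G : Type*} [Group G] [Finite G] {p : ℕ} [Fact p.Prime]
    (P : Sylow p G) (N : Subgroup G) [N.Normal] : ¬ p ∣ (P : Subgroup G).relIndex N := by
  obtain ⟨S, -, hS⟩ := exists_sylow_inf_le P N
  obtain ⟨g, hg⟩ := MulAction.exists_smul_eq G S P
  have h1 : (P : Subgroup G) = MulAut.conj g • (S : Subgroup G) := by
    rw [← hg, Sylow.coe_subgroup_smul]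
  have h2 : MulAut.conj g • N = N := Subgroup.Normal.conj_smul_eq_self g N
  have h3 : (P : Subgroup G).relIndex N = (S : Subgroup G).relIndex N := by
    conv_lhs => rw [h1, ← h2]
    exact Subgroup.relIndex_pointwise_smul (MulAut.conj g) _ _
  rw [h3]
  exact hS

/-- a "fully centralised" conjugate -/
theorem exists_conj_fully_centralized {G : Type*} [Group G] [Finite G] {p : ℕ} [Fact p.Prime]
    (P : Sylow p G) (x : G) (hx : x ∈ P) :
    ∃ g : G, g * x * g⁻¹ ∈ P ∧
      ¬ p ∣ (P : Subgroup G).relIndex (Subgroup.centralizer {g * x * g⁻¹}) := by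
  obtain ⟨S, hS1, hS2⟩ := exists_sylow_inf_le P (Subgroup.centralizer {x})
  have hxS : x ∈ S := hS1 ⟨hx, Subgroup.mem_centralizer_singleton_iff.mpr rfl⟩
  obtain ⟨g, hg⟩ := MulAction.exists_smul_eq G S P
  have h1 : (P : Subgroup G) = MulAut.conj g • (S : Subgroup G) := by
    rw [← hg, Sylow.coe_subgroup_smul]
  have h2 : Subgroup.centralizer {g * x * g⁻¹} = MulAut.conj g • Subgroup.centralizer {x} := by
    ext y
    rw [mem_conj_smul_iff, Subgroup.mem_centralizer_singleton_iff,
      Subgroup.mem_centralizer_singleton_iff]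
    constructor
    · intro h
      calc g⁻¹ * y * g * x = g⁻¹ * (y * (g * x * g⁻¹)) * g := by group
        _ = g⁻¹ * (g * x * g⁻¹ * y) * g := by rw [h]
        _ = x * (g⁻¹ * y * g) := by group
    · intro h
      calc y * (g * x * g⁻¹) = g * (g⁻¹ * y * g * x) * g⁻¹ := by group
        _ = g * (x * (g⁻¹ * y * g)) * g⁻¹ := by rw [h]
        _ = g * x * g⁻¹ * y := by group
  refine ⟨g, ?_, ?_⟩
  · show g * x * g⁻¹ ∈ (P : Subgroup G)
    rw [h1, mem_conj_smul_iff]
    have : g⁻¹ * (g * x * g⁻¹) * g = x := by group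
    rw [this]
    exact hxS
  · rw [h2]
    have h3 : (P : Subgroup G).relIndex (MulAut.conj g • Subgroup.centralizer {x}) =
        (S : Subgroup G).relIndex (Subgroup.centralizer {x}) := by
      conv_lhs => rw [h1]
      exact Subgroup.relIndex_pointwise_smul (MulAut.conj g) _ _
    rw [h3]
    exact hS2

/-- inheritance of control of fusion, fully centralised case -/
theorem exists_inf_conj_of_fully_centralized {G : Type*} [Group G] [Finite G] {p : ℕ}
    [hp : Fact p.Prime] (P N : Subgroup G) [N.Normal] (k : ℕ) (hN : N.index = p ^ k) (x : G)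
    (hx : ¬ p ∣ P.relIndex (Subgroup.centralizer {x})) (u : G) (hu : u ∈ P) (n : G) (hn : n ∈ N)
    (h : u * x * u⁻¹ = n * x * n⁻¹) : ∃ q ∈ P ⊓ N, q * x * q⁻¹ = u * x * u⁻¹ := by
  have hc : u⁻¹ * n ∈ Subgroup.centralizer {x} := by
    rw [Subgroup.mem_centralizer_singleton_iff]
    calc u⁻¹ * n * x = u⁻¹ * (n * x * n⁻¹) * n := by group
      _ = u⁻¹ * (u * x * u⁻¹) * n := by rw [h]
      _ = x * (u⁻¹ * n) := by group
  have hNn : (N.subgroupOf (Subgroup.centralizer {x})).Normal := inferInstance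
  have h1 : (P.subgroupOf (Subgroup.centralizer {x}) ⊔ N.subgroupOf (Subgroup.centralizer {x})).index
      = 1 := by
    have ha : (P.subgroupOf (Subgroup.centralizer {x}) ⊔
        N.subgroupOf (Subgroup.centralizer {x})).index ∣ p ^ k := by
      rw [← hN]
      exact dvd_trans (Subgroup.index_dvd_of_le le_sup_right)
        (Subgroup.relIndex_dvd_index_of_normal N _)
    have hb : (P.subgroupOf (Subgroup.centralizer {x}) ⊔
        N.subgroupOf (Subgroup.centralizer {x})).index ∣ P.relIndex (Subgroup.centralizer {x}) :=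
      Subgroup.index_dvd_of_le le_sup_left
    obtain ⟨j, -, hj⟩ := (Nat.dvd_prime_pow hp.out).mp ha
    rw [hj] at hb ⊢
    have hj0 : j = 0 := by
      by_contra hne
      exact hx (dvd_trans (dvd_pow_self p hne) hb)
    rw [hj0, pow_zero]
  rw [Subgroup.index_eq_one] at h1
  have h2 : (⟨u⁻¹ * n, hc⟩ : Subgroup.centralizer {x}) ∈
      ((P.subgroupOf (Subgroup.centralizer {x}) ⊔ N.subgroupOf (Subgroup.centralizer {x}) :
        Subgroup (Subgroup.centralizer {x})) : Set (Subgroup.centralizer {x})) := by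
    rw [h1]; trivial
  rw [Subgroup.mul_normal] at h2
  obtain ⟨d, hd, n', hn', hdn⟩ := Set.mem_mul.mp h2
  have hd' : (d : G) ∈ P := Subgroup.mem_subgroupOf.mp hd
  have hn'' : (n' : G) ∈ N := Subgroup.mem_subgroupOf.mp hn'
  have hdn' : (d : G) * (n' : G) = u⁻¹ * n := congrArg Subtype.val hdn
  have hdx : (d : G) * x = x * (d : G) := Subgroup.mem_centralizer_singleton_iff.mp d.2
  refine ⟨u * (d : G), Subgroup.mem_inf.mpr ⟨Subgroup.mul_mem _ hu hd', ?_⟩, ?_⟩
  · have : u * (d : G) = n * (n' : G)⁻¹ := by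
      have : (d : G) = u⁻¹ * n * (n' : G)⁻¹ := by rw [← hdn']; group
      rw [this]; group
    rw [this]
    exact Subgroup.mul_mem _ hn (Subgroup.inv_mem _ hn'')
  · calc u * (d : G) * x * (u * (d : G))⁻¹ = u * ((d : G) * x) * (d : G)⁻¹ * u⁻¹ := by group
      _ = u * (x * (d : G)) * (d : G)⁻¹ * u⁻¹ := by rw [hdx]
      _ = u * x * u⁻¹ := by group

/-- control of fusion passes to normal subgroups of `p`-power index -/
theorem control_inherit {G : Type*} [Group G] [Finite G] {p : ℕ} [hp : Fact p.Prime]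
    (P : Sylow p G)
    (hctrl : ∀ x ∈ P, ∀ y ∈ P, (∃ g : G, g * x * g⁻¹ = y) → ∃ u ∈ P, u * x * u⁻¹ = y)
    (N : Subgroup G) [N.Normal] (k : ℕ) (hN : N.index = p ^ k) (x : G) (hxP : x ∈ P)
    (n : G) (hn : n ∈ N) (hy : n * x * n⁻¹ ∈ P) :
    ∃ q ∈ (P : Subgroup G) ⊓ N, q * x * q⁻¹ = n * x * n⁻¹ := by
  obtain ⟨g, hg1, hg2⟩ := exists_conj_fully_centralized P x hxP
  obtain ⟨w, hw, hwx⟩ := hctrl x hxP _ hg1 ⟨g, rfl⟩
  have hwP : w ∈ (P : Subgroup G) := hw
  have hy' : w * (n * x * n⁻¹) * w⁻¹ ∈ (P : Subgroup G) :=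
    Subgroup.mul_mem _ (Subgroup.mul_mem _ hwP hy) (Subgroup.inv_mem _ hwP)
  have hn'' : w * n * w⁻¹ ∈ N := Subgroup.Normal.conj_mem inferInstance n hn w
  have heq : (w * n * w⁻¹) * (g * x * g⁻¹) * (w * n * w⁻¹)⁻¹ = w * (n * x * n⁻¹) * w⁻¹ := by
    rw [← hwx]; group
  obtain ⟨u, hu, hux⟩ := hctrl _ hg1 _ hy' ⟨w * n * w⁻¹, heq⟩
  obtain ⟨q, hq, hqx⟩ := exists_inf_conj_of_fully_centralized (P : Subgroup G) N k hN
    (g * x * g⁻¹) hg2 u hu (w * n * w⁻¹) hn'' (hux.trans heq.symm)
  have hq' := Subgroup.mem_inf.mp hq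
  refine ⟨w⁻¹ * q * w, Subgroup.mem_inf.mpr
    ⟨Subgroup.mul_mem _ (Subgroup.mul_mem _ (Subgroup.inv_mem _ hwP) hq'.1) hwP, ?_⟩, ?_⟩
  · have := Subgroup.Normal.conj_mem (inferInstance : N.Normal) q hq'.2 w⁻¹
    rwa [inv_inv] at this
  · have h1 : q * (w * x * w⁻¹) * q⁻¹ = w * (n * x * n⁻¹) * w⁻¹ := by
      rw [hwx, hqx, hux]
    calc w⁻¹ * q * w * x * (w⁻¹ * q * w)⁻¹ = w⁻¹ * (q * (w * x * w⁻¹) * q⁻¹) * w := by group
      _ = w⁻¹ * (w * (n * x * n⁻¹) * w⁻¹) * w := by rw [h1]
      _ = n * x * n⁻¹ := by group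

/-- a `p`-element outside the derived subgroup gives a proper normal subgroup of `p`-power
index -/
theorem exists_normal_pindex {G : Type*} [Group G] [Finite G] {p : ℕ} [hp : Fact p.Prime]
    (x : G) (hx : x ∉ commutator G) (j : ℕ) (hxp : x ^ p ^ j = 1) :
    ∃ N : Subgroup G, N.Normal ∧ N ≠ ⊤ ∧ ∃ k, N.index = p ^ k := by
  have hNn : ((powMonoidHom p : Abelianization G →* Abelianization G).range.comap
      Abelianization.of).Normal := (Subgroup.normal_of_isMulCommutative _).comap _
  refine ⟨(powMonoidHom p : Abelianization G →* Abelianization G).range.comap Abelianization.of,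
    hNn, ?_, ?_⟩
  · intro htop
    have hsurj : Function.Surjective (powMonoidHom p : Abelianization G →* Abelianization G) := by
      intro t
      obtain ⟨g, rfl⟩ := QuotientGroup.mk_surjective t
      have : g ∈ (powMonoidHom p : Abelianization G →* Abelianization G).range.comap
          Abelianization.of := by rw [htop]; trivial
      exact this
    have hinj : Function.Injective (powMonoidHom p : Abelianization G →* Abelianization G) :=
      Finite.injective_iff_surjective.mpr hsurj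
    have h1 : ∀ t : Abelianization G, t ^ p = 1 → t = 1 := by
      intro t ht
      apply hinj
      rw [map_one]; exact ht
    have h2 : ∀ j : ℕ, ∀ t : Abelianization G, t ^ p ^ j = 1 → t = 1 := by
      intro j
      induction j with
      | zero => intro t ht; simpa using ht
      | succ j ih =>
        intro t ht
        apply ih
        apply h1
        rw [← pow_mul, ← pow_succ]; exact ht
    have h3 : Abelianization.of x = 1 := h2 j _ (by rw [← map_pow, hxp, map_one])
    apply hx
    rw [← Abelianization.ker_of]; exact h3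
  · have hQ : IsPGroup p (G ⧸ (powMonoidHom p : Abelianization G →* Abelianization G).range.comap
        Abelianization.of) := by
      intro q
      obtain ⟨g, rfl⟩ := QuotientGroup.mk_surjective q
      refine ⟨1, ?_⟩
      rw [pow_one, ← QuotientGroup.mk_pow, QuotientGroup.eq_one_iff, Subgroup.mem_comap, map_pow]
      exact ⟨Abelianization.of g, rfl⟩
    obtain ⟨k, hk⟩ := IsPGroup.iff_card.mp hQ
    exact ⟨k, by rw [Subgroup.index_eq_card]; exact hk⟩

/-- Frobenius: if a Sylow `p`-subgroup controls its own fusion, the `p'`-elements form a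
subgroup -/
theorem exists_pprime_subgroup_of_control_aux.{u} (p : ℕ) [hp : Fact p.Prime] :
    ∀ n : ℕ, ∀ (G : Type u) [Group G] [Finite G], Nat.card G = n → ∀ P : Sylow p G,
      (∀ x ∈ P, ∀ y ∈ P, (∃ g : G, g * x * g⁻¹ = y) → ∃ u ∈ P, u * x * u⁻¹ = y) →
      ∃ K : Subgroup G, ∀ g : G, g ∈ K ↔ (orderOf g).Coprime p := by
  intro n
  induction n using Nat.strong_induction_on with
  | _ n ih =>
    intro G _ _ hcard P hctrl
    by_cases hPbot : (P : Subgroup G) = ⊥
    · refine ⟨⊤, fun g => ⟨fun _ => ?_, fun _ => Subgroup.mem_top g⟩⟩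
      have h1 : ¬ p ∣ Nat.card G := by
        have := P.not_dvd_index
        rwa [hPbot, Subgroup.index_bot] at this
      exact Nat.Coprime.coprime_dvd_left (orderOf_dvd_natCard g)
        ((Nat.Prime.coprime_iff_not_dvd hp.out).mpr h1).symm
    · have hfoc := commutator_inf_sylow_of_control P hctrl
      have hne := commutator_ne_self_of_isPGroup (P : Subgroup G) P.2 hPbot
      have hnle : ¬ (P : Subgroup G) ≤ commutator G := by
        intro hle
        apply hne
        rw [← hfoc]; exact inf_eq_right.mpr hle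
      obtain ⟨x, hxP, hxc⟩ := SetLike.not_le_iff_exists.mp hnle
      obtain ⟨j, hj⟩ := P.2 ⟨x, hxP⟩
      have hj' : x ^ p ^ j = 1 := by
        have := congrArg Subtype.val hj
        simpa using this
      obtain ⟨N, hNn, hNtop, k, hk⟩ := exists_normal_pindex (p := p) x hxc j hj'
      have hidx : ¬ p ∣ ((P : Subgroup G).subgroupOf N).index := not_dvd_relIndex_normal P N
      have hQp : IsPGroup p ((P : Subgroup G).subgroupOf N) := P.2.comap_subtype
      have hctrlQ : ∀ x ∈ hQp.toSylow hidx, ∀ y ∈ hQp.toSylow hidx,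
          (∃ g : N, g * x * g⁻¹ = y) → ∃ u ∈ hQp.toSylow hidx, u * x * u⁻¹ = y := by
        intro a ha b hb ⟨g, hg⟩
        rw [IsPGroup.mem_toSylow, Subgroup.mem_subgroupOf] at ha hb
        have hy : (g : G) * (a : G) * (g : G)⁻¹ ∈ P := by
          have : (g : G) * (a : G) * (g : G)⁻¹ = (b : G) := by rw [← hg]; rfl
          rw [this]; exact hb
        obtain ⟨q, hq, hqx⟩ := control_inherit P hctrl N k hk (a : G) ha (g : G) g.2 hy
        have hq' := Subgroup.mem_inf.mp hq
        refine ⟨⟨q, hq'.2⟩, ?_, ?_⟩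
        · rw [IsPGroup.mem_toSylow, Subgroup.mem_subgroupOf]
          exact hq'.1
        · apply Subtype.ext
          rw [← hg]
          exact hqx
      have hlt : Nat.card N < n := by
        rw [← hcard]
        apply lt_of_le_of_ne (Subgroup.card_le_card_group N)
        intro heq
        exact hNtop (Subgroup.eq_top_of_card_eq N heq)
      obtain ⟨K₀, hK₀⟩ := ih (Nat.card N) hlt N rfl (hQp.toSylow hidx) hctrlQ
      refine ⟨K₀.map N.subtype, fun g => ⟨?_, ?_⟩⟩
      · rintro ⟨a, ha, rfl⟩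
        have := (hK₀ a).mp ha
        rwa [← Subgroup.orderOf_coe] at this
      · intro hg
        have hgN : g ∈ N := by
          rw [← QuotientGroup.eq_one_iff]
          have h1 : (g : G ⧸ N) ^ p ^ k = 1 := by
            rw [← hk, Subgroup.index_eq_card]
            exact pow_card_eq_one'
          have h2 : (g : G ⧸ N) ^ orderOf g = 1 := by
            rw [← QuotientGroup.mk_pow, pow_orderOf_eq_one, QuotientGroup.mk_one]
          have h3 : orderOf (g : G ⧸ N) ∣ Nat.gcd (orderOf g) (p ^ k) :=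
            Nat.dvd_gcd (orderOf_dvd_of_pow_eq_one h2) (orderOf_dvd_of_pow_eq_one h1)
          rw [Nat.Coprime.gcd_eq_one (Nat.Coprime.pow_right k hg), Nat.dvd_one,
            orderOf_eq_one_iff] at h3
          exact h3
        refine ⟨⟨g, hgN⟩, (hK₀ _).mpr ?_, rfl⟩
        rw [Subgroup.orderOf_mk]
        exact hg

/-- the subgroup of `p'`-elements, when it exists, is a normal complement to each Sylow
`p`-subgroup -/
theorem normal_complement_of_pprime_subgroup {G : Type*} [Group G] [Finite G] {p : ℕ}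
    [hp : Fact p.Prime] (P : Sylow p G) (K : Subgroup G)
    (hK : ∀ g : G, g ∈ K ↔ (orderOf g).Coprime p) : K.Normal ∧ K.IsComplement' P := by
  have hKn : K.Normal := by
    constructor
    intro a ha g
    rw [hK] at ha ⊢
    have : orderOf (g * a * g⁻¹) = orderOf a := (MulAut.conj g).orderOf_eq a
    rw [this]; exact ha
  refine ⟨hKn, ?_⟩
  have hcop : Nat.Coprime (Nat.card K) p := by
    rw [Nat.coprime_comm, Nat.Prime.coprime_iff_not_dvd hp.out]
    intro hdvd
    obtain ⟨a, ha⟩ := exists_prime_orderOf_dvd_card' (G := K) p hdvd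
    have h1 := (hK (a : G)).mp a.2
    rw [Subgroup.orderOf_coe, ha] at h1
    exact hp.out.one_lt.ne' (Nat.coprime_self p |>.mp h1)
  have hQ : IsPGroup p (G ⧸ K) := by
    intro q
    obtain ⟨g, rfl⟩ := QuotientGroup.mk_surjective q
    refine ⟨(orderOf g).factorization p, ?_⟩
    rw [← QuotientGroup.mk_pow, QuotientGroup.eq_one_iff, hK]
    have ho : orderOf g ≠ 0 := (orderOf_pos g).ne'
    rw [orderOf_pow' g (pow_ne_zero _ hp.out.ne_zero),
      Nat.gcd_eq_right (Nat.ordProj_dvd (orderOf g) p)]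
    exact (Nat.coprime_ordCompl hp.out ho).symm
  obtain ⟨j, hj⟩ := IsPGroup.iff_card.mp hQ
  rw [← Subgroup.index_eq_card] at hj
  obtain ⟨v, hv⟩ := IsPGroup.iff_card.mp P.2
  have hPidx : Nat.Coprime (P : Subgroup G).index p := by
    rw [Nat.coprime_comm, Nat.Prime.coprime_iff_not_dvd hp.out]
    exact P.not_dvd_index
  have e1 : Nat.card K * p ^ j = Nat.card G := by rw [← hj]; exact Subgroup.card_mul_index K
  have e2 : Nat.card P * (P : Subgroup G).index = Nat.card G := Subgroup.card_mul_index _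
  rw [hv] at e2
  have d1 : Nat.card K ∣ (P : Subgroup G).index := by
    have : Nat.card K ∣ p ^ v * (P : Subgroup G).index := by
      rw [e2, ← e1]; exact dvd_mul_right _ _
    exact (Nat.Coprime.pow_right v hcop).dvd_of_dvd_mul_left this
  have d2 : (P : Subgroup G).index ∣ Nat.card K := by
    have : (P : Subgroup G).index ∣ Nat.card K * p ^ j := by
      rw [e1, ← e2]; exact dvd_mul_left _ _
    exact (Nat.Coprime.pow_right j hPidx).dvd_of_dvd_mul_right this
  have e3 : Nat.card K = (P : Subgroup G).index := Nat.dvd_antisymm d1 d2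
  apply Subgroup.isComplement'_of_coprime
  · rw [e3, hv, mul_comm]; exact e2
  · rw [hv]; exact Nat.Coprime.pow_right v hcop

/-- Frobenius: a Sylow `p`-subgroup controlling its own fusion has a normal complement, which
is the set of `p'`-elements -/
theorem exists_normal_complement_of_control {G : Type*} [Group G] [Finite G] {p : ℕ}
    [hp : Fact p.Prime] (P : Sylow p G)
    (hctrl : ∀ x ∈ P, ∀ y ∈ P, (∃ g : G, g * x * g⁻¹ = y) → ∃ u ∈ P, u * x * u⁻¹ = y) :
    ∃ K : Subgroup G, K.Normal ∧ K.IsComplement' P ∧ ∀ g : G, g ∈ K ↔ (orderOf g).Coprime p := by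
  obtain ⟨K, hK⟩ := exists_pprime_subgroup_of_control_aux p (Nat.card G) G rfl P hctrl
  obtain ⟨h1, h2⟩ := normal_complement_of_pprime_subgroup P K hK
  exact ⟨K, h1, h2, hK⟩

end Cfsg.Agent.Helper1
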