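import Mathlib
import Cfsg.Agent.S0016
import Cfsg.Agent.Helper1.Alperin

set_option autoImplicit false

namespace Cfsg.Agent.Helper1

/-- for odd `p` and `k ≡ 1 (mod p)`, `1 + k + ⋯ + k^(p-1) ≡ p (mod p²)` -/
theorem geom_sum_modEq {p : ℕ} (hp : p.Prime) (hp2 : p ≠ 2) (k : ℕ) (hk : k ≡ 1 [MOD p]) :
    (∑ j ∈ Finset.range p, k ^ j) ≡ p [MOD p ^ 2] := by
  obtain ⟨t, ht⟩ : ∃ t, k = 1 + p * t := by
    refine ⟨k / p, ?_⟩
    have h0 := Nat.div_add_mod k p
    have h1 : k % p = 1 := by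
      have h2 : k % p = 1 % p := hk
      rw [h2]
      exact Nat.mod_eq_of_lt hp.one_lt
    omega
  obtain ⟨s, hs⟩ : ∃ s, p = 2 * s + 1 := (hp.eq_two_or_odd'.resolve_left hp2)
  rw [← ZMod.natCast_eq_natCast_iff]
  push_cast
  have hpp : ((p : ZMod (p ^ 2))) ^ 2 = 0 := by
    have h := ZMod.natCast_self (p ^ 2)
    push_cast at h
    exact h
  have hk' : (k : ZMod (p ^ 2)) = 1 + (p : ZMod (p ^ 2)) * t := by
    rw [ht]; push_cast; ring
  have hpow : ∀ j : ℕ, ((k : ZMod (p ^ 2))) ^ j = 1 + j * p * t := by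
    intro j
    induction j with
    | zero => simp
    | succ j ih =>
      rw [pow_succ (k : ZMod (p ^ 2)) j, ih, hk']
      push_cast
      linear_combination (j : ZMod (p ^ 2)) * t ^ 2 * hpp
  rw [Finset.sum_congr rfl (fun j _ => hpow j)]
  have hsum : ∑ j ∈ Finset.range p, j = p * s := by
    have h := Finset.sum_range_id_mul_two p
    have h2 : p * (p - 1) = p * s * 2 := by
      have : p - 1 = 2 * s := by omega
      rw [this]; ring
    rw [h2] at h
    exact Nat.eq_of_mul_eq_mul_right (by norm_num) h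
  rw [Finset.sum_add_distrib, Finset.sum_const, Finset.card_range, ← Finset.sum_mul,
    ← Finset.sum_mul, ← Nat.cast_sum, hsum]
  push_cast
  simp only [nsmul_eq_mul, mul_one]
  linear_combination (s * t : ZMod (p ^ 2)) * hpp

/-- conjugation by `u` acts on a normal cyclic subgroup as a power map -/
theorem conj_pow_of_cyclic {R : Type*} [Group R] [Finite R] (C : Subgroup R) (hCn : C.Normal)
    (hC : IsCyclic C) (u : R) : ∃ k : ℕ, ∀ c ∈ C, u * c * u⁻¹ = c ^ k := by
  obtain ⟨g, hg⟩ := hC.exists_generator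
  have h1 : u * (g : R) * u⁻¹ ∈ C := hCn.conj_mem _ g.2 u
  have h2 : (⟨u * (g : R) * u⁻¹, h1⟩ : C) ∈ Submonoid.powers g := by
    rw [mem_powers_iff_mem_zpowers]
    exact hg _
  obtain ⟨k, hk⟩ := h2
  have hk' : (g : R) ^ k = u * (g : R) * u⁻¹ := by
    have := congrArg (Subtype.val) hk
    simpa using this
  refine ⟨k, fun c hc => ?_⟩
  obtain ⟨i, hi⟩ := hg ⟨c, hc⟩
  have hi' : (g : R) ^ i = c := by
    have := congrArg (Subtype.val) hi
    simpa using this
  rw [← hi', ← conj_zpow, ← hk', ← zpow_natCast, ← zpow_natCast, ← zpow_mul, ← zpow_mul, mul_comm]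

theorem conj_pow_iter {R : Type*} [Group R] (u c : R) (k : ℕ) (h : u * c * u⁻¹ = c ^ k) (m : ℕ) :
    u ^ m * c * (u ^ m)⁻¹ = c ^ (k ^ m) := by
  induction m with
  | zero => simp
  | succ m ih =>
    have h1 : u ^ (m + 1) * c * (u ^ (m + 1))⁻¹ = u * (u ^ m * c * (u ^ m)⁻¹) * u⁻¹ := by
      rw [pow_succ']; group
    rw [h1, ih, ← conj_pow, h, ← pow_mul, pow_succ']

theorem mul_pow_of_conj {R : Type*} [Group R] (u c : R) (k : ℕ) (h : u * c * u⁻¹ = c ^ k)
    (m : ℕ) : (c * u) ^ m = c ^ (∑ j ∈ Finset.range m, k ^ j) * u ^ m := by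
  induction m with
  | zero => simp
  | succ m ih =>
    have h1 := conj_pow_iter u c k h m
    rw [pow_succ, ih, Finset.sum_range_succ, pow_add, ← h1, pow_succ]
    group

theorem modEq_one_of_pow {R : Type*} [Group R] [Finite R] {p : ℕ} [hp : Fact p.Prime]
    (hR : IsPGroup p R) (x : R) (hx : x ≠ 1) (k : ℕ) (h : x ^ (k ^ p) = x) : k ≡ 1 [MOD p] := by
  have h1 : k ^ p ≡ 1 [MOD orderOf x] := by
    rw [← pow_eq_pow_iff_modEq, h, pow_one]
  obtain ⟨j, hj⟩ := hR x
  have h2 : p ∣ orderOf x := by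
    obtain ⟨i, -, hi⟩ := (Nat.dvd_prime_pow hp.out).mp (orderOf_dvd_of_pow_eq_one hj)
    rw [hi]
    have hi0 : i ≠ 0 := by
      rintro rfl
      rw [pow_zero, orderOf_eq_one_iff] at hi
      exact hx hi
    exact dvd_pow_self p hi0
  have h3 : k ^ p ≡ 1 [MOD p] := h1.of_dvd h2
  rw [← ZMod.natCast_eq_natCast_iff] at h3 ⊢
  push_cast at h3 ⊢
  rw [ZMod.pow_card] at h3
  exact h3

theorem comm_of_pow_eq_one_cyclic {R : Type*} [Group R] [Finite R] {p : ℕ} [hp : Fact p.Prime]
    (hR : IsPGroup p R) (C : Subgroup R) (hCn : C.Normal) (hC : IsCyclic C) (u c : R)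
    (hu : u ^ p = 1) (hc : c ∈ C) (hcp : c ^ p = 1) : u * c = c * u := by
  obtain ⟨k, hk⟩ := conj_pow_of_cyclic C hCn hC u
  by_cases hc1 : c = 1
  · rw [hc1, mul_one, one_mul]
  have h1 := conj_pow_iter u c k (hk c hc) p
  rw [hu, one_mul, inv_one, mul_one] at h1
  have h2 := modEq_one_of_pow hR c hc1 k h1.symm
  have h3 : c ^ k = c ^ 1 := pow_eq_pow_iff_modEq.mpr (h2.of_dvd (orderOf_dvd_of_pow_eq_one hcp))
  have h4 := hk c hc
  rw [h3, pow_one] at h4
  calc u * c = (u * c * u⁻¹) * u := by group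
    _ = c * u := by rw [h4]

theorem pow_eq_one_of_mul_pow_cyclic {R : Type*} [Group R] [Finite R] {p : ℕ}
    [hp : Fact p.Prime] (hp2 : p ≠ 2)
    (hR : IsPGroup p R) (C : Subgroup R) (hCn : C.Normal) (hC : IsCyclic C) (u c : R)
    (hu : u ^ p = 1) (hc : c ∈ C) (h : (c * u) ^ p = 1) : c ^ p = 1 := by
  obtain ⟨k, hk⟩ := conj_pow_of_cyclic C hCn hC u
  by_cases hc1 : c = 1
  · rw [hc1, one_pow]
  have h1 := conj_pow_iter u c k (hk c hc) p
  rw [hu, one_mul, inv_one, mul_one] at h1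
  have h2 := modEq_one_of_pow hR c hc1 k h1.symm
  have h3 := geom_sum_modEq hp.out hp2 k h2
  have h4 := mul_pow_of_conj u c k (hk c hc) p
  rw [h, hu, mul_one] at h4
  have h5 : orderOf c ∣ ∑ j ∈ Finset.range p, k ^ j := orderOf_dvd_of_pow_eq_one h4.symm
  by_contra hcp
  obtain ⟨j, hj⟩ := hR c
  obtain ⟨i, -, hi⟩ := (Nat.dvd_prime_pow hp.out).mp (orderOf_dvd_of_pow_eq_one hj)
  have hi2 : 2 ≤ i := by
    by_contra hlt
    apply hcp
    have : orderOf c ∣ p := by
      rw [hi]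
      have : i = 0 ∨ i = 1 := by omega
      rcases this with rfl | rfl
      · simp
      · simp
    exact orderOf_dvd_iff_pow_eq_one.mp this
  have h6 : p ^ 2 ∣ ∑ j ∈ Finset.range p, k ^ j := by
    refine dvd_trans ?_ h5
    rw [hi]
    exact pow_dvd_pow p hi2
  have h7 : p ^ 2 ∣ p := by
    have h8 : (∑ j ∈ Finset.range p, k ^ j) ≡ 0 [MOD p ^ 2] := (Nat.modEq_zero_iff_dvd).mpr h6
    exact (Nat.modEq_zero_iff_dvd).mp (h3.symm.trans h8)
  have h9 := Nat.le_of_dvd hp.out.pos h7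
  have h10 : p < p ^ 2 := by
    have := hp.out.one_lt
    nlinarith
  omega

/-- for odd `p`, in a non-cyclic `p`-group with a cyclic subgroup of index `p`, the elements of
order dividing `p` generate an elementary abelian subgroup of order `p²` -/
theorem omega_cyclic_index {R : Type*} [Group R] [Finite R] {p : ℕ} [hp : Fact p.Prime]
    (hp2 : p ≠ 2) (hR : IsPGroup p R) (hnc : ¬ IsCyclic R) (C : Subgroup R) (hC : IsCyclic C)
    (hCi : C.index = p) :
    (∀ x ∈ Subgroup.closure {x : R | x ^ p = 1}, ∀ y ∈ Subgroup.closure {x : R | x ^ p = 1},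
      x * y = y * x) ∧
    (∀ x ∈ Subgroup.closure {x : R | x ^ p = 1}, x ^ p = 1) ∧
    Nat.card (Subgroup.closure {x : R | x ^ p = 1}) = p ^ 2 := by
  have hCn : C.Normal := by
    apply Subgroup.normal_of_index_eq_minFac_card
    obtain ⟨n, hn⟩ := IsPGroup.iff_card.mp hR
    have hn0 : n ≠ 0 := by
      rintro rfl
      have h1 : C.index ∣ Nat.card R := Subgroup.index_dvd_card C
      rw [hCi, hn, pow_zero, Nat.dvd_one] at h1
      exact hp.out.one_lt.ne' h1
    rw [hn, Nat.pow_minFac hn0, Nat.Prime.minFac_eq hp.out]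
    exact hCi
  have key : ∀ x y : R, x ∉ C → x ^ p = 1 → y ^ p = 1 → x * y = y * x := by
    intro x y hxC hx hy
    have hcard : Nat.card (R ⧸ C) = p := by
      rw [← Subgroup.index_eq_card]; exact hCi
    have hx1 : (x : R ⧸ C) ≠ 1 := by
      rw [Ne, QuotientGroup.eq_one_iff]; exact hxC
    have htop := zpowers_eq_top_of_prime_card hcard hx1
    have hy' : (y : R ⧸ C) ∈ Subgroup.zpowers (x : R ⧸ C) := by rw [htop]; trivial
    obtain ⟨i, hi⟩ := hy'
    have hcC : y * (x ^ i)⁻¹ ∈ C := by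
      rw [← QuotientGroup.eq_one_iff, QuotientGroup.mk_mul, QuotientGroup.mk_inv,
        QuotientGroup.mk_zpow, ← hi]
      simp
    have hui : (x ^ i) ^ p = 1 := by
      rw [← zpow_natCast, ← zpow_mul, mul_comm, zpow_mul, zpow_natCast, hx, one_zpow]
    have hyeq : y = (y * (x ^ i)⁻¹) * x ^ i := by group
    have hcp : (y * (x ^ i)⁻¹) ^ p = 1 := by
      apply pow_eq_one_of_mul_pow_cyclic hp2 hR C hCn hC (x ^ i) _ hui hcC
      rw [← hyeq]; exact hy
    have h1 := comm_of_pow_eq_one_cyclic hR C hCn hC x _ hx hcC hcp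
    have h2 : x * x ^ i = x ^ i * x := (Commute.refl x).zpow_right i
    calc x * y = x * ((y * (x ^ i)⁻¹) * x ^ i) := by rw [inv_mul_cancel_right]
      _ = (x * (y * (x ^ i)⁻¹)) * x ^ i := (mul_assoc _ _ _).symm
      _ = ((y * (x ^ i)⁻¹) * x) * x ^ i := by rw [h1]
      _ = (y * (x ^ i)⁻¹) * (x ^ i * x) := by rw [mul_assoc, h2]
      _ = y * x := by group
  have hcomm : ∀ s ∈ {x : R | x ^ p = 1}, ∀ t ∈ {x : R | x ^ p = 1}, s * t = t * s := by
    intro s hs t ht
    by_cases hsC : s ∈ C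
    · by_cases htC : t ∈ C
      · obtain ⟨g, hg⟩ := hC.exists_generator
        obtain ⟨i, hi⟩ := hg ⟨s, hsC⟩
        obtain ⟨j, hj⟩ := hg ⟨t, htC⟩
        have hi' : (g : R) ^ i = s := by
          have := congrArg (Subtype.val) hi
          simpa using this
        have hj' : (g : R) ^ j = t := by
          have := congrArg (Subtype.val) hj
          simpa using this
        rw [← hi', ← hj', ← zpow_add, ← zpow_add, add_comm]
      · exact (key t s htC ht hs).symm
    · exact key s t hsC hs ht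
  have hW1 := closure_comm _ hcomm
  have hW2 := closure_pow_eq_one _ hcomm p (fun s hs => hs)
  refine ⟨hW1, hW2, ?_⟩
  have hD : Nat.card ↥(Subgroup.closure {x : R | x ^ p = 1} ⊓ C) ∣ p := by
    have hCC : IsCyclic C := hC
    have hDc : IsCyclic ↥(Subgroup.closure {x : R | x ^ p = 1} ⊓ C) :=
      Subgroup.isCyclic_of_le (inf_le_right : Subgroup.closure {x : R | x ^ p = 1} ⊓ C ≤ C)
    obtain ⟨g, hg⟩ := hDc.exists_generator
    rw [← orderOf_eq_card_of_forall_mem_zpowers hg]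
    apply orderOf_dvd_of_pow_eq_one
    apply Subtype.ext
    rw [Subgroup.coe_pow, Subgroup.coe_one]
    exact hW2 _ (g.2.1)
  have hrel : C.relIndex (Subgroup.closure {x : R | x ^ p = 1}) ∣ p := by
    rw [← hCi]; exact Subgroup.relIndex_dvd_index_of_normal C _
  have hcardW : Nat.card (Subgroup.closure {x : R | x ^ p = 1}) =
      Nat.card ↥(Subgroup.closure {x : R | x ^ p = 1} ⊓ C) *
        C.relIndex (Subgroup.closure {x : R | x ^ p = 1}) := by
    rw [← Subgroup.card_mul_index (C.subgroupOf (Subgroup.closure {x : R | x ^ p = 1}))]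
    congr 1
    rw [← Subgroup.inf_subgroupOf_left]
    exact (Nat.card_congr (Subgroup.subgroupOfEquivOfLe
      (inf_le_left : Subgroup.closure {x : R | x ^ p = 1} ⊓ C ≤ _)).toEquiv)
  have hgt : ¬ Nat.card (Subgroup.closure {x : R | x ^ p = 1}) ≤ p := by
    intro hle
    apply hnc
    have hS16 : ∀ (huq : ∀ H K : Subgroup R, Nat.card H = p → Nat.card K = p → H = K),
        IsCyclic R := by
      intro huq
      rcases Cfsg.Agent.S0016.result p hR huq with h | h
      · exact h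
      · exact absurd h.1 hp2
    apply hS16
    intro H K hH hK
    have hsub : ∀ L : Subgroup R, Nat.card L = p → L = Subgroup.closure {x : R | x ^ p = 1} := by
      intro L hL
      apply Subgroup.eq_of_le_of_card_ge
      · intro x hx
        apply Subgroup.subset_closure
        have h1 : (⟨x, hx⟩ : L) ^ Nat.card L = 1 := pow_card_eq_one'
        rw [hL] at h1
        have := congrArg Subtype.val h1
        simpa using this
      · rw [hL]; exact hle
    rw [hsub H hH, hsub K hK]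
  rcases (Nat.dvd_prime hp.out).mp hD with h1 | h1 <;>
    rcases (Nat.dvd_prime hp.out).mp hrel with h2 | h2
  · rw [h1, h2] at hcardW
    exfalso; apply hgt; rw [hcardW]; have := hp.out.one_lt; omega
  · rw [h1, h2] at hcardW
    exfalso; apply hgt; rw [hcardW]; omega
  · rw [h1, h2] at hcardW
    exfalso; apply hgt; rw [hcardW]; omega
  · rw [h1, h2] at hcardW
    rw [hcardW, sq]

end Cfsg.Agent.Helper1
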