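import Mathlib
import Cfsg.Prelude.Def_Transfer

set_option autoImplicit false

namespace Cfsg.Agent.Helper1

open scoped commutatorElement

universe u

/-- in a class-two group, `g ↦ ⁅g, x⁆` is a homomorphism -/
def commHom {P : Type*} [Group P] (hcc : ∀ a b g : P, Commute ⁅a, b⁆ g) (x : P) : P →* P where
  toFun g := ⁅g, x⁆
  map_one' := by simp
  map_mul' g h := by
    have h1 : ⁅g * h, x⁆ = g * ⁅h, x⁆ * g⁻¹ * ⁅g, x⁆ := by
      simp only [commutatorElement_def]; group
    rw [h1, ← (hcc h x g).eq, mul_inv_cancel_right, (hcc h x _).eq]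

theorem commHom_apply {P : Type*} [Group P] (hcc : ∀ a b g : P, Commute ⁅a, b⁆ g) (x g : P) :
    commHom hcc x g = ⁅g, x⁆ := rfl

/-- A class-two group whose commutators all lie in one subgroup of order `p`: the centre has
index an even power of `p`. -/
theorem card_eq_sq_mul_card_center (p : ℕ) [Fact p.Prime] :
    ∀ (n : ℕ) (P : Type u) [Group P] [Finite P], Nat.card P ≤ n →
      (∀ a b g : P, Commute ⁅a, b⁆ g) → (∀ a b : P, ⁅a, b⁆ ^ p = 1) →
      (∀ a b c d : P, ⁅a, b⁆ ≠ 1 → ∃ i : ℕ, ⁅c, d⁆ = ⁅a, b⁆ ^ i) →
      ∃ k : ℕ, Nat.card P = p ^ (2 * k) * Nat.card (Subgroup.center P) := by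
  intro n
  induction n with
  | zero =>
    intro P _ _ hcard
    exact absurd hcard (by have := Nat.card_pos (α := P); omega)
  | succ n ih =>
    intro P _ _ hcard hcc hpow hgen
    by_cases hab : ∀ a b : P, ⁅a, b⁆ = 1
    · refine ⟨0, ?_⟩
      have h1 : Subgroup.center P = ⊤ := by
        rw [eq_top_iff]
        intro g _
        rw [Subgroup.mem_center_iff]
        intro h
        exact commutatorElement_eq_one_iff_mul_comm.mp (hab h g)
      rw [h1, Subgroup.card_top]
      simp
    · simp only [not_forall] at hab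
      obtain ⟨x, y, hxy⟩ := hab
      set c := ⁅x, y⁆ with hc
      have hco : orderOf c = p := orderOf_eq_prime (hpow x y) hxy
      set θ : P →* P × P := (commHom hcc x).prod (commHom hcc y) with hθ
      have hθapp : ∀ g : P, θ g = (⁅g, x⁆, ⁅g, y⁆) := fun g => rfl
      have hyx : ⁅y, x⁆ = c⁻¹ := by rw [hc, commutatorElement_inv]
      have hxx : ∀ t : P, ⁅t, t⁆ = 1 := fun t => by simp
      have hrange : θ.range = (Subgroup.zpowers c).prod (Subgroup.zpowers c) := by
        ext ⟨a, b⟩
        rw [MonoidHom.mem_range, Subgroup.mem_prod]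
        constructor
        · rintro ⟨g, hg⟩
          rw [hθapp, Prod.mk.injEq] at hg
          obtain ⟨i, hi⟩ := hgen x y g x hxy
          obtain ⟨j, hj⟩ := hgen x y g y hxy
          constructor
          · show a ∈ Subgroup.zpowers c
            rw [← hg.1, hi]
            exact Subgroup.pow_mem _ (Subgroup.mem_zpowers c) i
          · show b ∈ Subgroup.zpowers c
            rw [← hg.2, hj]
            exact Subgroup.pow_mem _ (Subgroup.mem_zpowers c) j
        · rintro ⟨ha, hb⟩
          obtain ⟨i, hi⟩ := Subgroup.mem_zpowers_iff.mp ha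
          obtain ⟨j, hj⟩ := Subgroup.mem_zpowers_iff.mp hb
          refine ⟨y ^ (-i) * x ^ j, ?_⟩
          have h1 : commHom hcc x (y ^ (-i) * x ^ j) = a := by
            rw [map_mul, map_zpow, map_zpow, commHom_apply, commHom_apply, hyx, hxx]
            simp only [one_zpow, mul_one, inv_zpow', neg_neg]
            exact hi
          have h2 : commHom hcc y (y ^ (-i) * x ^ j) = b := by
            rw [map_mul, map_zpow, map_zpow, commHom_apply, commHom_apply, hxx]
            simp only [one_zpow, one_mul]
            exact hj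
          show (commHom hcc x (y ^ (-i) * x ^ j), commHom hcc y (y ^ (-i) * x ^ j)) = (a, b)
          rw [h1, h2]
      have hcardr : Nat.card θ.range = p ^ 2 := by
        rw [hrange, Nat.card_congr (Subgroup.prodEquiv _ _).toEquiv, Nat.card_prod,
          Nat.card_zpowers, hco, sq]
      have hidx : θ.ker.index = p ^ 2 := by rw [Subgroup.index_ker, hcardr]
      have hkermem : ∀ g : P, g ∈ θ.ker ↔ ⁅g, x⁆ = 1 ∧ ⁅g, y⁆ = 1 := by
        intro g
        rw [MonoidHom.mem_ker, hθapp, Prod.mk_eq_one]
      set C := θ.ker with hC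
      have hp2 : 1 < p ^ 2 := Nat.one_lt_pow (by norm_num) (Fact.out : p.Prime).one_lt
      have hcardC : Nat.card P = p ^ 2 * Nat.card C := by
        rw [← hidx, mul_comm, Subgroup.card_mul_index]
      have hCn : Nat.card C ≤ n := by
        have hpos : 0 < Nat.card C := Nat.card_pos
        nlinarith
      obtain ⟨k, hk⟩ := ih (↥C) hCn
        (fun a b g => by
          have := (hcc (a : P) (b : P) (g : P)).eq
          exact Subtype.ext this)
        (fun a b => Subtype.ext (hpow (a : P) (b : P)))
        (fun a b c' d hne => by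
          have hne' : ⁅(a : P), (b : P)⁆ ≠ 1 := fun h => hne (Subtype.ext h)
          obtain ⟨i, hi⟩ := hgen (a : P) (b : P) (c' : P) (d : P) hne'
          exact ⟨i, Subtype.ext hi⟩)
      have hcenter : (Subgroup.center ↥C).map C.subtype = Subgroup.center P := by
        ext z
        constructor
        · rintro ⟨z', hz'', rfl⟩
          have hz' := Subgroup.mem_center_iff.mp hz''
          show (z' : P) ∈ Subgroup.center P
          rw [Subgroup.mem_center_iff]
          intro g
          obtain ⟨i, hi⟩ := hgen x y g x hxy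
          obtain ⟨j, hj⟩ := hgen x y g y hxy
          rw [← hc] at hi hj
          -- t := g * (y⁻¹ ^ i * x ^ j)⁻¹ ∈ C
          have h1 : commHom hcc x ((y⁻¹) ^ i * x ^ j) = ⁅g, x⁆ := by
            rw [map_mul, map_pow, map_pow, map_inv, commHom_apply, commHom_apply, hyx, hxx, hi]
            simp
          have h2 : commHom hcc y ((y⁻¹) ^ i * x ^ j) = ⁅g, y⁆ := by
            rw [map_mul, map_pow, map_pow, map_inv, commHom_apply, commHom_apply, hxx, hj, ← hc]
            simp
          have ht : g * ((y⁻¹) ^ i * x ^ j)⁻¹ ∈ C := by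
            rw [hkermem]
            constructor
            · have := map_mul (commHom hcc x) g ((y⁻¹) ^ i * x ^ j)⁻¹
              rw [commHom_apply] at this
              rw [this, map_inv, h1, commHom_apply, mul_inv_cancel]
            · have := map_mul (commHom hcc y) g ((y⁻¹) ^ i * x ^ j)⁻¹
              rw [commHom_apply] at this
              rw [this, map_inv, h2, commHom_apply, mul_inv_cancel]
          have hzx : (z' : P) * x = x * z' :=
            (commutatorElement_eq_one_iff_mul_comm.mp ((hkermem _).mp z'.2).1)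
          have hzy : (z' : P) * y = y * z' :=
            (commutatorElement_eq_one_iff_mul_comm.mp ((hkermem _).mp z'.2).2)
          have hzt := congrArg Subtype.val (hz' ⟨_, ht⟩)
          simp only [Subgroup.coe_mul] at hzt
          have hcx : Commute (z' : P) x := hzx
          have hcy : Commute (z' : P) y := hzy
          have hcw : Commute (z' : P) ((y⁻¹) ^ i * x ^ j) :=
            (hcy.inv_right.pow_right i).mul_right (hcx.pow_right j)
          have hct : Commute (z' : P) (g * ((y⁻¹) ^ i * x ^ j)⁻¹) := hzt.symm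
          have hg : g = (g * ((y⁻¹) ^ i * x ^ j)⁻¹) * ((y⁻¹) ^ i * x ^ j) := by group
          have hcg : Commute (z' : P) g := by
            rw [hg]
            exact hct.mul_right hcw
          exact hcg.eq.symm
        · intro hz
          have hzC : z ∈ C := by
            rw [hkermem]
            rw [Subgroup.mem_center_iff] at hz
            exact ⟨commutatorElement_eq_one_iff_mul_comm.mpr (hz x).symm,
              commutatorElement_eq_one_iff_mul_comm.mpr (hz y).symm⟩
          refine ⟨⟨z, hzC⟩, ?_, rfl⟩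
          show (⟨z, hzC⟩ : C) ∈ Subgroup.center ↥C
          rw [Subgroup.mem_center_iff]
          intro g
          exact Subtype.ext (Subgroup.mem_center_iff.mp hz g)
      have hcc' : Nat.card (Subgroup.center ↥C) = Nat.card (Subgroup.center P) := by
        rw [← hcenter, Subgroup.card_subtype]
      refine ⟨k + 1, ?_⟩
      rw [hcardC, hk, hcc']
      ring

/-- the order of an extraspecial group -/
theorem card_extraspecial {P : Type u} [Group P] [Finite P] {p : ℕ} [Fact p.Prime]
    (h : Cfsg.IsExtraspecial p P) : ∃ n : ℕ, 1 ≤ n ∧ Nat.card P = p ^ (2 * n + 1) := by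
  obtain ⟨⟨hp, hfr, hcomm⟩, hcard⟩ := h
  have hmem : ∀ a b : P, ⁅a, b⁆ ∈ Subgroup.center P := by
    intro a b
    rw [← hcomm]
    exact Subgroup.commutator_mem_commutator (Subgroup.mem_top a) (Subgroup.mem_top b)
  have hcc : ∀ a b g : P, Commute ⁅a, b⁆ g := fun a b g =>
    (Subgroup.mem_center_iff.mp (hmem a b) g).symm
  have hpow : ∀ a b : P, ⁅a, b⁆ ^ p = 1 := by
    intro a b
    have h1 : (⟨⁅a, b⁆, hmem a b⟩ : Subgroup.center P) ^ Nat.card (Subgroup.center P) = 1 :=
      pow_card_eq_one'
    rw [hcard] at h1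
    exact congrArg Subtype.val h1
  have hgen : ∀ a b c d : P, ⁅a, b⁆ ≠ 1 → ∃ i : ℕ, ⁅c, d⁆ = ⁅a, b⁆ ^ i := by
    intro a b c d hne
    have h1 : Subgroup.zpowers (⟨⁅a, b⁆, hmem a b⟩ : Subgroup.center P) = ⊤ :=
      zpowers_eq_top_of_prime_card hcard (fun h => hne (congrArg Subtype.val h))
    have h2 : (⟨⁅c, d⁆, hmem c d⟩ : Subgroup.center P) ∈
        Subgroup.zpowers (⟨⁅a, b⁆, hmem a b⟩ : Subgroup.center P) := by
      rw [h1]; exact Subgroup.mem_top _
    rw [← mem_powers_iff_mem_zpowers, Submonoid.mem_powers_iff] at h2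
    obtain ⟨i, hi⟩ := h2
    exact ⟨i, (congrArg Subtype.val hi).symm⟩
  obtain ⟨k, hk⟩ := card_eq_sq_mul_card_center p (Nat.card P) P le_rfl hcc hpow hgen
  rw [hcard] at hk
  refine ⟨k, ?_, by rw [hk, pow_succ]⟩
  by_contra hk0
  have hk0' : k = 0 := by omega
  subst hk0'
  rw [mul_zero, pow_zero, one_mul] at hk
  have h1 : Subgroup.center P = ⊤ := Subgroup.eq_top_of_card_eq _ (by rw [hcard, hk])
  have h2 : commutator P = ⊥ := (_root_.commutator_eq_bot_iff_center_eq_top (G := P)).mpr h1
  rw [hcomm] at h2
  rw [h2, Subgroup.card_bot] at hcard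
  exact (Fact.out : p.Prime).one_lt.ne hcard

end Cfsg.Agent.Helper1
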