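import Mathlib
import Cfsg.Prelude.Def_Transfer
import Cfsg.Agent.Helper1.Extra
import Cfsg.Agent.Helper1.CentProd

set_option autoImplicit false

/-!
Helper library (seat helper1): extraspecial groups as iterated central products; the
isomorphism theorem for extraspecial groups of exponent `p`.
-/

namespace Cfsg.Agent.Helper1

open scoped commutatorElement

universe u v

/-- `E` has centre `⟨z⟩` with `z` of order `p`, and all commutators and `p`-th powers lie
in it -/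
structure ESData (p : ℕ) (E : Type*) [Group E] (z : E) : Prop where
  hz1 : z ≠ 1
  hzp : z ^ p = 1
  hcen : Subgroup.center E = Subgroup.zpowers z
  hcomm : ∀ a b : E, ⁅a, b⁆ ∈ Subgroup.zpowers z
  hpow : ∀ a : E, a ^ p ∈ Subgroup.zpowers z

namespace ESData

variable {p : ℕ} {E : Type*} [Group E] {z : E}

theorem zmem (es : ESData p E z) : z ∈ Subgroup.center E := by
  rw [es.hcen]; exact Subgroup.mem_zpowers z

theorem central (es : ESData p E z) (g : E) : g * z = z * g :=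
  Subgroup.mem_center_iff.mp es.zmem g

theorem hcc (es : ESData p E z) (a b g : E) : Commute ⁅a, b⁆ g := by
  have h1 : ⁅a, b⁆ ∈ Subgroup.center E := by rw [es.hcen]; exact es.hcomm a b
  exact (Subgroup.mem_center_iff.mp h1 g).symm

theorem orderOf_z [Fact p.Prime] (es : ESData p E z) : orderOf z = p :=
  orderOf_eq_prime es.hzp es.hz1

theorem card_center [Fact p.Prime] (es : ESData p E z) : Nat.card (Subgroup.center E) = p := by
  rw [es.hcen, Nat.card_zpowers, es.orderOf_z]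

/-- for non-central `x` there is `y` with `[y, x] = z` -/
theorem exists_comm_eq [Fact p.Prime] (es : ESData p E z) (x : E)
    (hx : x ∉ Subgroup.center E) : ∃ y : E, ⁅y, x⁆ = z := by
  have hp : p.Prime := Fact.out
  have h1 : ∃ g : E, ⁅g, x⁆ ≠ 1 := by
    by_contra hcon
    push Not at hcon
    apply hx
    rw [Subgroup.mem_center_iff]
    intro g
    exact (commutatorElement_eq_one_iff_commute.mp (hcon g)).eq
  obtain ⟨g, hg⟩ := h1
  have hfin : Finite (Subgroup.zpowers z) :=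
    Nat.finite_of_card_ne_zero (by rw [Nat.card_zpowers, es.orderOf_z]; exact hp.ne_zero)
  have h2 : Subgroup.zpowers ⁅g, x⁆ = Subgroup.zpowers z := by
    apply Subgroup.eq_of_le_of_card_ge
    · rw [Subgroup.zpowers_le]; exact es.hcomm g x
    · rw [Nat.card_zpowers, Nat.card_zpowers, es.orderOf_z]
      have h3 : ⁅g, x⁆ ^ p = 1 := by
        obtain ⟨k, hk⟩ := Subgroup.mem_zpowers_iff.mp (es.hcomm g x)
        rw [← hk, ← zpow_natCast, ← zpow_mul, mul_comm, zpow_mul, zpow_natCast, es.hzp, one_zpow]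
      rw [orderOf_eq_prime h3 hg]
  have h4 : z ∈ Subgroup.zpowers ⁅g, x⁆ := by rw [h2]; exact Subgroup.mem_zpowers z
  obtain ⟨m, hm⟩ := Subgroup.mem_zpowers_iff.mp h4
  refine ⟨g ^ m, ?_⟩
  have h5 := map_zpow (commHom es.hcc x) g m
  rw [commHom_apply, commHom_apply] at h5
  rw [h5, hm]

end ESData

section split

variable {p : ℕ} [Fact p.Prime] {E : Type*} [Group E] {z x y : E}

theorem split_rel (hxy : ⁅y, x⁆ = z) : y * x = z * x * y := by
  rw [← hxy, commutatorElement_def]; group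

/-- the commutator pairing on `y ^ i * x ^ (-j)` -/
theorem split_comm_val (es : ESData p E z) (hxy : ⁅y, x⁆ = z) (i j : ℤ) :
    ⁅y ^ i * x ^ (-j), x⁆ = z ^ i ∧ ⁅y ^ i * x ^ (-j), y⁆ = z ^ j := by
  have h1 := map_mul (commHom es.hcc x) (y ^ i) (x ^ (-j))
  have h2 := map_zpow (commHom es.hcc x) y i
  have h3 := map_zpow (commHom es.hcc x) x (-j)
  have h1' := map_mul (commHom es.hcc y) (y ^ i) (x ^ (-j))
  have h2' := map_zpow (commHom es.hcc y) y i
  have h3' := map_zpow (commHom es.hcc y) x (-j)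
  simp only [commHom_apply] at h1 h2 h3 h1' h2' h3'
  have hxx : ⁅x, x⁆ = 1 := commutatorElement_self x
  have hyy : ⁅y, y⁆ = 1 := commutatorElement_self y
  have hyx : ⁅x, y⁆ = z⁻¹ := by rw [← hxy, commutatorElement_inv]
  constructor
  · rw [h1, h2, h3, hxy, hxx, one_zpow, mul_one]
  · rw [h1', h2', h3', hyy, hyx, one_zpow, one_mul, inv_zpow, zpow_neg, inv_inv]

/-- `E = ⟨x, y⟩ C_E(x, y)` -/
theorem split_dec (es : ESData p E z) (hxy : ⁅y, x⁆ = z) (e : E) :
    ∃ h ∈ Subgroup.closure {x, y}, ∃ c ∈ Subgroup.centralizer {x, y}, e = h * c := by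
  obtain ⟨i, hi⟩ := Subgroup.mem_zpowers_iff.mp (es.hcomm e x)
  obtain ⟨j, hj⟩ := Subgroup.mem_zpowers_iff.mp (es.hcomm e y)
  have hxm : x ∈ Subgroup.closure {x, y} := Subgroup.subset_closure (by simp)
  have hym : y ∈ Subgroup.closure {x, y} := Subgroup.subset_closure (by simp)
  obtain ⟨hv1, hv2⟩ := split_comm_val es hxy i j
  refine ⟨y ^ i * x ^ (-j), mul_mem (zpow_mem hym i) (zpow_mem hxm (-j)),
    (y ^ i * x ^ (-j))⁻¹ * e, ?_, by group⟩
  have h1 := map_mul (commHom es.hcc x) (y ^ i * x ^ (-j))⁻¹ e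
  have h2 := map_inv (commHom es.hcc x) (y ^ i * x ^ (-j))
  have h1' := map_mul (commHom es.hcc y) (y ^ i * x ^ (-j))⁻¹ e
  have h2' := map_inv (commHom es.hcc y) (y ^ i * x ^ (-j))
  simp only [commHom_apply] at h1 h2 h1' h2'
  rw [h2, hv1, ← hi, inv_mul_cancel] at h1
  rw [h2', hv2, ← hj, inv_mul_cancel] at h1'
  rw [Subgroup.mem_centralizer_iff]
  intro t ht
  rcases ht with rfl | rfl
  · exact ((commutatorElement_eq_one_iff_commute.mp h1).eq).symm
  · exact ((commutatorElement_eq_one_iff_commute.mp h1').eq).symm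

theorem split_comm (h c : E) (hh : h ∈ Subgroup.closure {x, y})
    (hc : c ∈ Subgroup.centralizer {x, y}) : h * c = c * h := by
  have h1 : Subgroup.closure {x, y} ≤ Subgroup.centralizer {c} := by
    rw [Subgroup.closure_le]
    intro t ht
    rw [SetLike.mem_coe, Subgroup.mem_centralizer_iff]
    intro d hd
    rw [Set.mem_singleton_iff] at hd
    subst hd
    exact (Subgroup.mem_centralizer_iff.mp hc t ht).symm
  exact (Subgroup.mem_centralizer_iff.mp (h1 hh) c rfl).symm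

theorem split_inf (es : ESData p E z) (hxy : ⁅y, x⁆ = z) (e : E)
    (he : e ∈ Subgroup.closure {x, y}) (hc : e ∈ Subgroup.centralizer {x, y}) :
    e ∈ Subgroup.zpowers z := by
  rw [← es.hcen, Subgroup.mem_center_iff]
  intro g
  obtain ⟨h, hh, c, hc', rfl⟩ := split_dec es hxy g
  have h1 := split_comm h e hh hc
  have h2 := split_comm e c he hc'
  rw [mul_assoc, ← h2, ← mul_assoc, h1, mul_assoc]

theorem z_mem_centralizer (es : ESData p E z) (s : Set E) : z ∈ Subgroup.centralizer s := by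
  rw [Subgroup.mem_centralizer_iff]
  intro t _
  exact es.central t

theorem z_mem_closure (hxy : ⁅y, x⁆ = z) : z ∈ Subgroup.closure {x, y} := by
  have hxm : x ∈ Subgroup.closure {x, y} := Subgroup.subset_closure (by simp)
  have hym : y ∈ Subgroup.closure {x, y} := Subgroup.subset_closure (by simp)
  rw [← hxy, commutatorElement_def]
  exact mul_mem (mul_mem (mul_mem hym hxm) (inv_mem hym)) (inv_mem hxm)

/-- the centralizer of the pair is again of the same kind -/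
theorem split_ES (es : ESData p E z) (hxy : ⁅y, x⁆ = z) :
    ESData p (Subgroup.centralizer {x, y}) ⟨z, z_mem_centralizer es _⟩ := by
  refine ⟨?_, ?_, ?_, ?_, ?_⟩
  · intro h
    exact es.hz1 (congrArg Subtype.val h)
  · apply Subtype.ext
    rw [Subgroup.coe_pow]; exact es.hzp
  · ext c
    rw [Subgroup.mem_center_iff, Subgroup.mem_zpowers_iff]
    constructor
    · intro hc
      have h1 : (c : E) ∈ Subgroup.zpowers z := by
        rw [← es.hcen, Subgroup.mem_center_iff]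
        intro g
        obtain ⟨h, hh, c', hc', rfl⟩ := split_dec es hxy g
        have h1 := split_comm h c hh c.2
        have h2 : c' * (c : E) = c * c' := congrArg Subtype.val (hc ⟨c', hc'⟩)
        rw [mul_assoc, h2, ← mul_assoc, h1, mul_assoc]
      obtain ⟨k, hk⟩ := Subgroup.mem_zpowers_iff.mp h1
      exact ⟨k, Subtype.ext (by rw [Subgroup.coe_zpow]; exact hk)⟩
    · rintro ⟨k, rfl⟩ g
      apply Subtype.ext
      rw [Subgroup.coe_mul, Subgroup.coe_mul, Subgroup.coe_zpow]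
      exact ((Commute.zpow_right (es.central g) k)).eq
  · intro a b
    obtain ⟨k, hk⟩ := Subgroup.mem_zpowers_iff.mp (es.hcomm (a : E) (b : E))
    exact Subgroup.mem_zpowers_iff.mpr ⟨k, Subtype.ext (by
      rw [Subgroup.coe_zpow, hk]; rfl)⟩
  · intro a
    obtain ⟨k, hk⟩ := Subgroup.mem_zpowers_iff.mp (es.hpow (a : E))
    exact Subgroup.mem_zpowers_iff.mpr ⟨k, Subtype.ext (by
      rw [Subgroup.coe_zpow, hk, Subgroup.coe_pow])⟩

/-- the pairing homomorphism `g ↦ ([g, x], [g, y])` -/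
def pairHom (es : ESData p E z) (x y : E) : E →* E × E :=
  (commHom es.hcc x).prod (commHom es.hcc y)

theorem pairHom_apply (es : ESData p E z) (x y g : E) :
    pairHom es x y g = (⁅g, x⁆, ⁅g, y⁆) := rfl

theorem pairHom_ker (es : ESData p E z) (x y : E) :
    (pairHom es x y).ker = Subgroup.centralizer {x, y} := by
  ext g
  rw [MonoidHom.mem_ker, pairHom_apply, Prod.mk_eq_one, Subgroup.mem_centralizer_iff]
  constructor
  · rintro ⟨h1, h2⟩ t ht
    rcases ht with rfl | rfl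
    · exact ((commutatorElement_eq_one_iff_commute.mp h1).eq).symm
    · exact ((commutatorElement_eq_one_iff_commute.mp h2).eq).symm
  · intro h
    exact ⟨commutatorElement_eq_one_iff_commute.mpr (h x (by simp)).symm,
      commutatorElement_eq_one_iff_commute.mpr (h y (by simp)).symm⟩

theorem pairHom_range (es : ESData p E z) (hxy : ⁅y, x⁆ = z) {K : Type*} [Group K] (ι : K →* E)
    (hx : x ∈ ι.range) (hy : y ∈ ι.range) :
    ((pairHom es x y).comp ι).range = (Subgroup.zpowers z).prod (Subgroup.zpowers z) := by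
  ext ⟨a, b⟩
  rw [MonoidHom.mem_range, Subgroup.mem_prod]
  constructor
  · rintro ⟨g, hg⟩
    have h1 : (⁅ι g, x⁆, ⁅ι g, y⁆) = (a, b) := hg
    rw [Prod.mk.injEq] at h1
    show a ∈ Subgroup.zpowers z ∧ b ∈ Subgroup.zpowers z
    rw [← h1.1, ← h1.2]
    exact ⟨es.hcomm _ _, es.hcomm _ _⟩
  · rintro ⟨ha, hb⟩
    obtain ⟨i, hi⟩ := Subgroup.mem_zpowers_iff.mp ha
    obtain ⟨j, hj⟩ := Subgroup.mem_zpowers_iff.mp hb
    obtain ⟨h1, h2⟩ := split_comm_val es hxy i j
    obtain ⟨x', hx'⟩ := hx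
    obtain ⟨y', hy'⟩ := hy
    refine ⟨y' ^ i * x' ^ (-j), ?_⟩
    show (⁅ι (y' ^ i * x' ^ (-j)), x⁆, ⁅ι (y' ^ i * x' ^ (-j)), y⁆) = _
    rw [map_mul, map_zpow, map_zpow, hx', hy', h1, h2]
    exact Prod.ext hi hj

theorem card_eq_ker_mul (es : ESData p E z) (hxy : ⁅y, x⁆ = z) {K : Type*} [Group K] [Finite K]
    (ι : K →* E) (hx : x ∈ ι.range) (hy : y ∈ ι.range) :
    Nat.card K = Nat.card ((pairHom es x y).comp ι).ker * p ^ 2 := by
  rw [← Subgroup.card_mul_index ((pairHom es x y).comp ι).ker, Subgroup.index_ker,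
    pairHom_range es hxy ι hx hy]
  congr 1
  rw [Nat.card_congr (Subgroup.prodEquiv _ _).toEquiv, Nat.card_prod, Nat.card_zpowers,
    es.orderOf_z]
  ring

/-- `|E| = |C_E(x, y)| p ^ 2` -/
theorem split_card [Finite E] (es : ESData p E z) (hxy : ⁅y, x⁆ = z) :
    Nat.card E = Nat.card (Subgroup.centralizer {x, y}) * p ^ 2 := by
  have h1 := card_eq_ker_mul es hxy (MonoidHom.id E) ⟨x, rfl⟩ ⟨y, rfl⟩
  rw [MonoidHom.comp_id, pairHom_ker] at h1
  exact h1

/-- `p ^ 3 ≤ |⟨x, y⟩|` -/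
theorem split_H_card [Finite E] (es : ESData p E z) (hxy : ⁅y, x⁆ = z) :
    p ^ 3 ≤ Nat.card (Subgroup.closure {x, y}) := by
  have hxm : x ∈ Subgroup.closure {x, y} := Subgroup.subset_closure (by simp)
  have hym : y ∈ Subgroup.closure {x, y} := Subgroup.subset_closure (by simp)
  have h1 := card_eq_ker_mul es hxy (Subgroup.closure {x, y}).subtype
    ⟨⟨x, hxm⟩, rfl⟩ ⟨⟨y, hym⟩, rfl⟩
  have hzker : (⟨z, z_mem_closure hxy⟩ : Subgroup.closure {x, y}) ∈
      ((pairHom es x y).comp (Subgroup.closure {x, y}).subtype).ker := by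
    rw [MonoidHom.mem_ker]
    show pairHom es x y z = 1
    have : z ∈ (pairHom es x y).ker := by rw [pairHom_ker]; exact z_mem_centralizer es _
    exact MonoidHom.mem_ker.mp this
  have h2 : Subgroup.zpowers (⟨z, z_mem_closure hxy⟩ : Subgroup.closure {x, y}) ≤
      ((pairHom es x y).comp (Subgroup.closure {x, y}).subtype).ker := by
    rw [Subgroup.zpowers_le]; exact hzker
  have h3 := Subgroup.card_dvd_of_le h2
  rw [Nat.card_zpowers, Subgroup.orderOf_mk, es.orderOf_z] at h3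
  have h4 : p ≤ Nat.card ((pairHom es x y).comp (Subgroup.closure {x, y}).subtype).ker :=
    Nat.le_of_dvd Nat.card_pos h3
  rw [h1]
  calc p ^ 3 = p * p ^ 2 := by ring
    _ ≤ _ := Nat.mul_le_mul_right _ h4

/-- if `C_E(x, y)` has order `p` then `E = ⟨x, y⟩` -/
theorem split_gen [Finite E] (es : ESData p E z) (hxy : ⁅y, x⁆ = z)
    (hC : Nat.card (Subgroup.centralizer {x, y}) = p) : Subgroup.closure {x, y} = ⊤ := by
  have h1 : Subgroup.zpowers z = Subgroup.centralizer {x, y} := by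
    apply Subgroup.eq_of_le_of_card_ge
    · rw [Subgroup.zpowers_le]; exact z_mem_centralizer es _
    · rw [hC, Nat.card_zpowers, es.orderOf_z]
  rw [eq_top_iff]
  intro e _
  obtain ⟨h, hh, c, hc, rfl⟩ := split_dec es hxy e
  rw [← h1] at hc
  have h2 : Subgroup.zpowers z ≤ Subgroup.closure {x, y} := by
    rw [Subgroup.zpowers_le]; exact z_mem_closure hxy
  exact mul_mem hh (h2 hc)

end split

theorem ESData.exists_noncentral {p : ℕ} [Fact p.Prime] {E : Type*} [Group E] [Finite E] {z : E}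
    (es : ESData p E z) (h : Nat.card E ≠ p) : ∃ x : E, x ∉ Subgroup.center E := by
  by_contra hcon
  push Not at hcon
  have h1 : Subgroup.center E = ⊤ := eq_top_iff.mpr (fun c _ => hcon c)
  have h2 := es.card_center
  rw [h1, Subgroup.card_top] at h2
  exact h h2

theorem ESData.card_ne {p : ℕ} [Fact p.Prime] {E : Type*} [Group E] [Finite E] {z : E}
    (es : ESData p E z) (h : ∃ x : E, x ∉ Subgroup.center E) : Nat.card E ≠ p := by
  intro hcard
  obtain ⟨x, hx⟩ := h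
  have h1 : Subgroup.center E = ⊤ := by
    apply Subgroup.eq_top_of_card_eq
    rw [es.card_center, hcard]
  rw [h1] at hx
  exact hx (Subgroup.mem_top x)

/-- compatibility of two isomorphisms on an intersection generated by `z` -/
theorem compat_of_zpowers {E₁ E₂ : Type*} [Group E₁] [Group E₂] (H₁ C₁ : Subgroup E₁)
    (H₂ C₂ : Subgroup E₂) (z₁ : E₁) (z₂ : E₂) (hz₁H : z₁ ∈ H₁) (hz₁C : z₁ ∈ C₁)
    (hz₂H : z₂ ∈ H₂) (hz₂C : z₂ ∈ C₂)
    (hinf₁ : ∀ e ∈ H₁, e ∈ C₁ → e ∈ Subgroup.zpowers z₁)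
    (hinf₂ : ∀ e ∈ H₂, e ∈ C₂ → e ∈ Subgroup.zpowers z₂)
    (φH : H₁ ≃* H₂) (φC : C₁ ≃* C₂) (hH : φH ⟨z₁, hz₁H⟩ = ⟨z₂, hz₂H⟩)
    (hC : φC ⟨z₁, hz₁C⟩ = ⟨z₂, hz₂C⟩) :
    (∀ (h : H₁) (c : C₁), (h : E₁) = c → ((φH h : H₂) : E₂) = φC c) ∧
    (∀ (h : H₁) (c : C₁), ((φH h : H₂) : E₂) = φC c → (h : E₁) = c) := by
  constructor
  · intro h c hhc
    obtain ⟨k, hk⟩ := Subgroup.mem_zpowers_iff.mp (hinf₁ (h : E₁) h.2 (by rw [hhc]; exact c.2))
    have h1 : h = (⟨z₁, hz₁H⟩ : H₁) ^ k := Subtype.ext (by rw [Subgroup.coe_zpow]; exact hk.symm)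
    have h2 : c = (⟨z₁, hz₁C⟩ : C₁) ^ k :=
      Subtype.ext (by rw [Subgroup.coe_zpow, ← hhc]; exact hk.symm)
    rw [h1, h2, map_zpow, map_zpow, hH, hC, Subgroup.coe_zpow, Subgroup.coe_zpow]
  · intro h c hhc
    obtain ⟨k, hk⟩ := Subgroup.mem_zpowers_iff.mp
      (hinf₂ ((φH h : H₂) : E₂) (φH h).2 (by rw [hhc]; exact (φC c).2))
    have h1 : φH h = φH ((⟨z₁, hz₁H⟩ : H₁) ^ k) := by
      rw [map_zpow, hH]
      exact Subtype.ext (by rw [Subgroup.coe_zpow]; exact hk.symm)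
    have h2 : φC c = φC ((⟨z₁, hz₁C⟩ : C₁) ^ k) := by
      rw [map_zpow, hC]
      exact Subtype.ext (by rw [Subgroup.coe_zpow, ← hhc]; exact hk.symm)
    rw [φH.injective h1, φC.injective h2, Subgroup.coe_zpow, Subgroup.coe_zpow]

/-- the generators of `⟨x, y⟩` inside the subgroup -/
theorem closure_pair_top {E : Type*} [Group E] (x y : E) (hx : x ∈ Subgroup.closure {x, y})
    (hy : y ∈ Subgroup.closure {x, y}) :
    Subgroup.closure {(⟨x, hx⟩ : Subgroup.closure {x, y}), ⟨y, hy⟩} = ⊤ := by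
  have h1 := Subgroup.closure_closure_coe_preimage (k := ({x, y} : Set E))
  have h2 : ((↑) : Subgroup.closure {x, y} → E) ⁻¹' ({x, y} : Set E) =
      {(⟨x, hx⟩ : Subgroup.closure {x, y}), ⟨y, hy⟩} := by
    ext t
    simp only [Set.mem_preimage, Set.mem_insert_iff, Set.mem_singleton_iff, Subtype.ext_iff]
  rw [h2] at h1
  exact h1

/-- one step of the central-product induction -/
theorem es_step {p : ℕ} [Fact p.Prime] {E₁ : Type*} {E₂ : Type*} [Group E₁] [Group E₂]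
    [Finite E₁] [Finite E₂] {z₁ x₁ y₁ : E₁} {z₂ x₂ y₂ : E₂} (es₁ : ESData p E₁ z₁)
    (es₂ : ESData p E₂ z₂) (hcard : Nat.card E₁ = Nat.card E₂)
    (hxy₁ : ⁅y₁, x₁⁆ = z₁) (hxy₂ : ⁅y₂, x₂⁆ = z₂) (α β : ℕ)
    (hx₁ : x₁ ^ p = z₁ ^ α) (hx₂ : x₂ ^ p = z₂ ^ α)
    (hy₁ : y₁ ^ p = z₁ ^ β) (hy₂ : y₂ ^ p = z₂ ^ β)
    (hC : Nat.card (Subgroup.centralizer {x₁, y₁}) = p ∨
      ∃ φC : Subgroup.centralizer {x₁, y₁} ≃* Subgroup.centralizer {x₂, y₂},
        φC ⟨z₁, z_mem_centralizer es₁ _⟩ = ⟨z₂, z_mem_centralizer es₂ _⟩) :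
    ∃ φ : E₁ ≃* E₂, φ z₁ = z₂ := by
  have hp : p.Prime := Fact.out
  have hc₁ := split_card es₁ hxy₁
  have hc₂ := split_card es₂ hxy₂
  have hcc : Nat.card (Subgroup.centralizer {x₁, y₁}) =
      Nat.card (Subgroup.centralizer {x₂, y₂}) :=
    Nat.eq_of_mul_eq_mul_right (pow_pos hp.pos 2) (by rw [← hc₁, ← hc₂, hcard])
  rcases hC with hC | ⟨φC, hφC⟩
  · have hgen₁ := split_gen es₁ hxy₁ hC
    have hgen₂ := split_gen es₂ hxy₂ (by rw [← hcc]; exact hC)
    have hk₁ : p ^ 3 ≤ Nat.card E₁ := by rw [hc₁, hC]; exact le_of_eq (by ring)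
    have hk₂ : p ^ 3 ≤ Nat.card E₂ := by rw [← hcard]; exact hk₁
    obtain ⟨φ, -, -, hφ⟩ := p3_iso p hp.pos α β x₁ y₁ z₁ x₂ y₂ z₂ es₁.central es₂.central
      es₁.hzp es₂.hzp (split_rel hxy₁) (split_rel hxy₂) hx₁ hx₂ hy₁ hy₂ hgen₁ hgen₂ hk₁ hk₂
    exact ⟨φ, hφ⟩
  · have hxm₁ : x₁ ∈ Subgroup.closure {x₁, y₁} := Subgroup.subset_closure (by simp)
    have hym₁ : y₁ ∈ Subgroup.closure {x₁, y₁} := Subgroup.subset_closure (by simp)
    have hxm₂ : x₂ ∈ Subgroup.closure {x₂, y₂} := Subgroup.subset_closure (by simp)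
    have hym₂ : y₂ ∈ Subgroup.closure {x₂, y₂} := Subgroup.subset_closure (by simp)
    have hzm₁ := z_mem_closure hxy₁
    have hzm₂ := z_mem_closure hxy₂
    obtain ⟨φH, -, -, hφH⟩ := p3_iso p hp.pos α β
      (⟨x₁, hxm₁⟩ : Subgroup.closure {x₁, y₁}) ⟨y₁, hym₁⟩ ⟨z₁, hzm₁⟩
      (⟨x₂, hxm₂⟩ : Subgroup.closure {x₂, y₂}) ⟨y₂, hym₂⟩ ⟨z₂, hzm₂⟩
      (fun g => Subtype.ext (es₁.central g)) (fun g => Subtype.ext (es₂.central g))
      (Subtype.ext (by rw [Subgroup.coe_pow]; exact es₁.hzp))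
      (Subtype.ext (by rw [Subgroup.coe_pow]; exact es₂.hzp))
      (Subtype.ext (split_rel hxy₁)) (Subtype.ext (split_rel hxy₂))
      (Subtype.ext (by rw [Subgroup.coe_pow, Subgroup.coe_pow]; exact hx₁))
      (Subtype.ext (by rw [Subgroup.coe_pow, Subgroup.coe_pow]; exact hx₂))
      (Subtype.ext (by rw [Subgroup.coe_pow, Subgroup.coe_pow]; exact hy₁))
      (Subtype.ext (by rw [Subgroup.coe_pow, Subgroup.coe_pow]; exact hy₂))
      (closure_pair_top x₁ y₁ hxm₁ hym₁) (closure_pair_top x₂ y₂ hxm₂ hym₂)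
      (split_H_card es₁ hxy₁) (split_H_card es₂ hxy₂)
    obtain ⟨hco, hco'⟩ := compat_of_zpowers (Subgroup.closure {x₁, y₁})
      (Subgroup.centralizer {x₁, y₁}) (Subgroup.closure {x₂, y₂}) (Subgroup.centralizer {x₂, y₂})
      z₁ z₂ hzm₁ (z_mem_centralizer es₁ _) hzm₂ (z_mem_centralizer es₂ _)
      (split_inf es₁ hxy₁) (split_inf es₂ hxy₂) φH φC hφH hφC
    obtain ⟨φ, -, hφ2⟩ := central_product_iso (Subgroup.closure {x₁, y₁})
      (Subgroup.centralizer {x₁, y₁}) (Subgroup.closure {x₂, y₂}) (Subgroup.centralizer {x₂, y₂})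
      (fun h hh c hc => split_comm h c hh hc) (fun h hh c hc => split_comm h c hh hc)
      (split_dec es₁ hxy₁) (split_dec es₂ hxy₂) φH φC hco hco'
    refine ⟨φ, ?_⟩
    have h1 := hφ2 ⟨z₁, z_mem_centralizer es₁ _⟩
    rw [hφC] at h1
    exact h1

/-- two groups of the same order with centre `⟨z⟩` of order `p` containing all commutators,
and of exponent `p`, are isomorphic -/
theorem es_iso_exp (p : ℕ) [Fact p.Prime] :
    ∀ (n : ℕ) (E₁ : Type u) (E₂ : Type v) [Group E₁] [Group E₂] [Finite E₁] [Finite E₂]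
      (z₁ : E₁) (z₂ : E₂), Nat.card E₁ = n → Nat.card E₂ = n → ESData p E₁ z₁ →
      ESData p E₂ z₂ → (∀ a : E₁, a ^ p = 1) → (∀ a : E₂, a ^ p = 1) →
      (∃ x : E₁, x ∉ Subgroup.center E₁) → ∃ φ : E₁ ≃* E₂, φ z₁ = z₂ := by
  have hp : p.Prime := Fact.out
  intro n
  induction n using Nat.strong_induction_on with
  | _ n ih =>
  intro E₁ E₂ _ _ _ _ z₁ z₂ hn₁ hn₂ es₁ es₂ he₁ he₂ hna₁
  have hna₂ : ∃ x : E₂, x ∉ Subgroup.center E₂ :=
    es₂.exists_noncentral (by rw [hn₂, ← hn₁]; exact es₁.card_ne hna₁)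
  obtain ⟨x₁, hx₁⟩ := hna₁
  obtain ⟨x₂, hx₂⟩ := hna₂
  obtain ⟨y₁, hy₁⟩ := es₁.exists_comm_eq x₁ hx₁
  obtain ⟨y₂, hy₂⟩ := es₂.exists_comm_eq x₂ hx₂
  apply es_step es₁ es₂ (hn₁.trans hn₂.symm) hy₁ hy₂ 0 0 (by rw [he₁, pow_zero])
    (by rw [he₂, pow_zero]) (by rw [he₁, pow_zero]) (by rw [he₂, pow_zero])
  by_cases hC : Nat.card (Subgroup.centralizer {x₁, y₁}) = p
  · exact Or.inl hC
  · right
    have esC₁ := split_ES es₁ hy₁
    have esC₂ := split_ES es₂ hy₂
    have hc₁ := split_card es₁ hy₁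
    have hc₂ := split_card es₂ hy₂
    have hcc : Nat.card (Subgroup.centralizer {x₁, y₁}) =
        Nat.card (Subgroup.centralizer {x₂, y₂}) :=
      Nat.eq_of_mul_eq_mul_right (pow_pos hp.pos 2) (by rw [← hc₁, ← hc₂, hn₁, hn₂])
    have hlt : Nat.card (Subgroup.centralizer {x₁, y₁}) < n := by
      rw [← hn₁, hc₁]
      have h1 := Nat.card_pos (α := Subgroup.centralizer {x₁, y₁})
      have h3 : 1 < p ^ 2 := Nat.one_lt_pow (by norm_num) hp.one_lt
      exact lt_mul_of_one_lt_right h1 h3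
    exact ih _ hlt (Subgroup.centralizer {x₁, y₁}) (Subgroup.centralizer {x₂, y₂}) _ _ rfl
      hcc.symm esC₁ esC₂ (fun a => Subtype.ext (by rw [Subgroup.coe_pow]; exact he₁ a))
      (fun a => Subtype.ext (by rw [Subgroup.coe_pow]; exact he₂ a)) (esC₁.exists_noncentral hC)

/-- data of an extraspecial group -/
theorem esdata_of_extraspecial {E : Type*} [Group E] [Finite E] {p : ℕ} [Fact p.Prime]
    (h : Cfsg.IsExtraspecial p E) (hpow : ∀ a : E, a ^ p ∈ Subgroup.center E) :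
    (∃ z : E, ESData p E z) ∧ ∃ x : E, x ∉ Subgroup.center E := by
  have hp : p.Prime := Fact.out
  obtain ⟨⟨hpg, hfr, hcomm⟩, hcard⟩ := h
  have hnt : Nontrivial (Subgroup.center E) := by
    rw [← Finite.one_lt_card_iff_nontrivial, hcard]; exact hp.one_lt
  obtain ⟨z, hz⟩ := exists_ne (1 : Subgroup.center E)
  have hz1 : (z : E) ≠ 1 := fun h => hz (Subtype.ext h)
  have hzp : (z : E) ^ p = 1 := by
    have h1 : z ^ Nat.card (Subgroup.center E) = 1 := pow_card_eq_one'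
    rw [hcard] at h1
    have h2 := congrArg Subtype.val h1
    rw [Subgroup.coe_pow] at h2
    exact h2
  have hcen : Subgroup.center E = Subgroup.zpowers (z : E) := by
    symm
    apply Subgroup.eq_of_le_of_card_ge
    · rw [Subgroup.zpowers_le]; exact z.2
    · rw [hcard, Nat.card_zpowers, orderOf_eq_prime hzp hz1]
  have hmem : ∀ a b : E, ⁅a, b⁆ ∈ Subgroup.center E := by
    intro a b
    rw [← hcomm]
    exact Subgroup.commutator_mem_commutator (Subgroup.mem_top a) (Subgroup.mem_top b)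
  refine ⟨⟨(z : E), hz1, hzp, hcen, fun a b => by rw [← hcen]; exact hmem a b,
    fun a => by rw [← hcen]; exact hpow a⟩, ?_⟩
  by_contra hcon
  push Not at hcon
  have h1 : commutator E = ⊥ := by
    rw [eq_bot_iff, commutator_def, Subgroup.commutator_le]
    intro a _ b _
    rw [Subgroup.mem_bot]
    exact commutatorElement_eq_one_iff_commute.mpr (Subgroup.mem_center_iff.mp (hcon b) a)
  rw [← hcomm, h1, Subgroup.card_bot] at hcard
  exact hp.one_lt.ne hcard

/-- extraspecial groups of exponent `p` and equal order are isomorphic -/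
theorem extraspecial_iso_of_exponent {E₁ : Type u} {E₂ : Type v} [Group E₁] [Group E₂]
    [Finite E₁] [Finite E₂] {p : ℕ} [Fact p.Prime] (h₁ : Cfsg.IsExtraspecial p E₁)
    (h₂ : Cfsg.IsExtraspecial p E₂) (he₁ : Monoid.exponent E₁ = p)
    (he₂ : Monoid.exponent E₂ = p) (hc : Nat.card E₁ = Nat.card E₂) : Nonempty (E₁ ≃* E₂) := by
  have hx₁ : ∀ a : E₁, a ^ p = 1 := fun a => by rw [← he₁]; exact Monoid.pow_exponent_eq_one a
  have hx₂ : ∀ a : E₂, a ^ p = 1 := fun a => by rw [← he₂]; exact Monoid.pow_exponent_eq_one a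
  obtain ⟨⟨z₁, es₁⟩, hna₁⟩ := esdata_of_extraspecial h₁
    (fun a => by rw [hx₁ a]; exact Subgroup.one_mem _)
  obtain ⟨⟨z₂, es₂⟩, -⟩ := esdata_of_extraspecial h₂
    (fun a => by rw [hx₂ a]; exact Subgroup.one_mem _)
  obtain ⟨φ, -⟩ := es_iso_exp p _ E₁ E₂ z₁ z₂ rfl hc.symm es₁ es₂ hx₁ hx₂ hna₁
  exact ⟨φ⟩

end Cfsg.Agent.Helper1
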