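import Mathlib
import Cfsg.Agent.Helper1.Critical
import Cfsg.Agent.Helper1.Fusion
import Cfsg.Agent.S4189
import Cfsg.Agent.S0012
import Cfsg.Agent.Helper16.DihedralLift

set_option autoImplicit false
open scoped commutatorElement

namespace Cfsg.Agent.Helper1

/-- a subgroup of index two and an element outside it generate the group -/
theorem closure_union_of_index_two {X : Type*} [Group X] (M : Subgroup X) (hM : M.index = 2)
    (x : X) (hx : x ∉ M) : Subgroup.closure ((M : Set X) ∪ {x}) = ⊤ := by
  rw [eq_top_iff]
  intro g _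
  by_cases hg : g ∈ M
  · exact Subgroup.subset_closure (Or.inl hg)
  · have h1 : x⁻¹ * g ∈ M := by
      rw [Subgroup.mul_mem_iff_of_index_two hM]
      constructor
      · intro h; exact absurd ((Subgroup.inv_mem_iff M).mp h) hx
      · intro h; exact absurd h hg
    have h2 : g = x * (x⁻¹ * g) := by group
    rw [h2]
    exact Subgroup.mul_mem _ (Subgroup.subset_closure (Or.inr rfl))
      (Subgroup.subset_closure (Or.inl h1))

/-- for an abelian subgroup `M` of index two and `x ∉ M`:
`|X'| * |C_M(x)| ≤ |M|` -/
theorem card_commutator_mul_card_centralizer_le {X : Type*} [Group X] [Finite X]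
    (M : Subgroup X) (hM : M.index = 2) (hab : ∀ a ∈ M, ∀ b ∈ M, a * b = b * a)
    (x : X) (hx : x ∉ M) :
    Nat.card (commutator X) * Nat.card ↥(M ⊓ Subgroup.centralizer {x}) ≤ Nat.card M := by
  have hMn : M.Normal := Subgroup.normal_of_index_eq_two hM
  have hcm : ∀ m ∈ M, x * m * x⁻¹ ∈ M := fun m hm => hMn.conj_mem m hm x
  let c : M →* X :=
    { toFun := fun m => x * (m : X) * x⁻¹ * (m : X)⁻¹
      map_one' := by simp
      map_mul' := by
        intro a b
        have h1 : x * (b : X) * x⁻¹ * (b : X)⁻¹ ∈ M :=
          Subgroup.mul_mem _ (hcm _ b.2) (Subgroup.inv_mem _ b.2)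
        have h2 := hab _ h1 _ (Subgroup.inv_mem _ a.2)
        show x * ((a : X) * (b : X)) * x⁻¹ * ((a : X) * (b : X))⁻¹ =
          x * (a : X) * x⁻¹ * (a : X)⁻¹ * (x * (b : X) * x⁻¹ * (b : X)⁻¹)
        calc x * ((a : X) * (b : X)) * x⁻¹ * ((a : X) * (b : X))⁻¹
            = x * (a : X) * x⁻¹ * ((x * (b : X) * x⁻¹ * (b : X)⁻¹) * (a : X)⁻¹) := by group
          _ = x * (a : X) * x⁻¹ * ((a : X)⁻¹ * (x * (b : X) * x⁻¹ * (b : X)⁻¹)) := by rw [h2]
          _ = _ := by group }
  have hcdef : ∀ m : M, c m = x * (m : X) * x⁻¹ * (m : X)⁻¹ := fun _ => rfl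
  have hrM : c.range ≤ M := by
    rintro _ ⟨m, rfl⟩
    exact Subgroup.mul_mem _ (hcm _ m.2) (Subgroup.inv_mem _ m.2)
  -- the range is normal
  have hnorm : c.range.Normal := by
    have hle : Subgroup.closure ((M : Set X) ∪ {x}) ≤ Subgroup.normalizer (c.range : Set X) := by
      rw [Subgroup.closure_le]
      rintro g (hg | hg)
      · apply mem_normalizer_of_conj_mem
        rintro _ ⟨m, rfl⟩
        have h1 : c m ∈ M := hrM ⟨m, rfl⟩
        have h2 := hab _ h1 _ hg
        have h3 : g⁻¹ * c m * g = c m := by
          rw [mul_assoc, h2, ← mul_assoc, inv_mul_cancel, one_mul]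
        rw [h3]; exact ⟨m, rfl⟩
      · rw [Set.mem_singleton_iff] at hg
        subst hg
        have h0 : g⁻¹ ∈ Subgroup.normalizer (c.range : Set X) := by
          apply mem_normalizer_of_conj_mem
          rintro _ ⟨m, rfl⟩
          refine ⟨⟨g * (m : X) * g⁻¹, hcm _ m.2⟩, ?_⟩
          rw [hcdef, hcdef]
          show g * (g * (m : X) * g⁻¹) * g⁻¹ * (g * (m : X) * g⁻¹)⁻¹ =
            g⁻¹⁻¹ * (g * (m : X) * g⁻¹ * (m : X)⁻¹) * g⁻¹
          group
        simpa using Subgroup.inv_mem _ h0
    rw [closure_union_of_index_two M hM x hx] at hle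
    exact Subgroup.normalizer_eq_top_iff.mp (top_le_iff.mp hle)
  have hcomm : commutator X ≤ c.range := by
    apply Cfsg.Agent.S4189.commutator_le_of_gens c.range _ (closure_union_of_index_two M hM x hx)
    rintro a (ha | ha) b (hb | hb)
    · have : ⁅a, b⁆ = 1 := by
        rw [commutatorElement_eq_one_iff_mul_comm]; exact hab a ha b hb
      rw [this]; exact one_mem _
    · rw [Set.mem_singleton_iff] at hb; subst hb
      have : ⁅a, b⁆ = (c ⟨a, ha⟩)⁻¹ := by
        rw [hcdef, commutatorElement_def]; group
      rw [this]; exact inv_mem ⟨_, rfl⟩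
    · rw [Set.mem_singleton_iff] at ha; subst ha
      have : ⁅a, b⁆ = c ⟨b, hb⟩ := by
        rw [hcdef, commutatorElement_def]
      rw [this]; exact ⟨_, rfl⟩
    · rw [Set.mem_singleton_iff] at ha hb; subst ha; subst hb
      rw [commutatorElement_self]; exact one_mem _
  have hker : Nat.card ↥(M ⊓ Subgroup.centralizer {x}) = Nat.card c.ker := by
    have h1 : c.ker.map M.subtype = M ⊓ Subgroup.centralizer {x} := by
      ext g
      simp only [Subgroup.mem_map, MonoidHom.mem_ker, Subgroup.mem_inf,
        Subgroup.mem_centralizer_singleton_iff, Subgroup.coe_subtype]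
      constructor
      · rintro ⟨m, hm, rfl⟩
        refine ⟨m.2, ?_⟩
        rw [hcdef] at hm
        have : x * (m : X) * x⁻¹ = (m : X) := by
          rw [← mul_inv_eq_one]; exact hm
        calc (m : X) * x = x * (m : X) * x⁻¹ * x := by rw [this]
          _ = x * (m : X) := by group
      · rintro ⟨hg, hgx⟩
        refine ⟨⟨g, hg⟩, ?_, rfl⟩
        rw [hcdef]
        show x * g * x⁻¹ * g⁻¹ = 1
        rw [← hgx]; group
    rw [← h1, Subgroup.card_map_of_injective (Subgroup.subtype_injective M)]
  have h1 : Nat.card c.ker * c.ker.index = Nat.card M := Subgroup.card_mul_index _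
  rw [Subgroup.index_ker] at h1
  have h2 : Nat.card (commutator X) ≤ Nat.card c.range := Subgroup.card_le_of_le hcomm
  rw [hker, ← h1, mul_comm]
  exact Nat.mul_le_mul_left _ h2

/-- quotient by a normal subgroup inside the derived subgroup: same index of derived subgroup -/
theorem index_commutator_quotient {X : Type*} [Group X] (Z : Subgroup X) [Z.Normal]
    (hZ : Z ≤ commutator X) : (commutator (X ⧸ Z)).index = (commutator X).index := by
  have h1 : commutator (X ⧸ Z) = (commutator X).map (QuotientGroup.mk' Z) := by
    rw [commutator_def, commutator_def, Subgroup.map_commutator,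
      Subgroup.map_top_of_surjective _ (QuotientGroup.mk'_surjective Z)]
  rw [h1]
  apply Subgroup.index_map_eq _ (QuotientGroup.mk'_surjective Z)
  rw [QuotientGroup.ker_mk']; exact hZ

/-- class bound for a group of order `p ^ m` -/
theorem nilpotencyClass_le_of_card_pow.{u} (p : ℕ) [Fact p.Prime] :
    ∀ (m : ℕ) (Y : Type u) [Group Y] [Finite Y], Nat.card Y = p ^ m →
      Group.nilpotencyClass Y ≤ max m 2 - 1 := by
  have hp : p.Prime := Fact.out
  intro m
  induction m using Nat.strong_induction_on with
  | _ m ih =>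
    intro Y _ _ hY
    have hYp : IsPGroup p Y := IsPGroup.of_card hY
    haveI : Group.IsNilpotent Y := hYp.isNilpotent
    by_cases hm : m ≤ 2
    · have hcomm : IsMulCommutative Y := by
        interval_cases m
        · have : Subsingleton Y := by
            rw [pow_zero] at hY
            exact (Nat.card_eq_one_iff_unique.mp hY).1
          exact ⟨⟨fun a b => Subsingleton.elim _ _⟩⟩
        · rw [pow_one] at hY
          haveI := isCyclic_of_prime_card hY
          exact IsCyclic.isMulCommutative
        · exact IsPGroup.isMulCommutative_of_card_eq_prime_sq hY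
      have := Group.IsNilpotent.nilpotencyClass_le_one_iff.mpr hcomm
      omega
    · push Not at hm
      haveI : Nontrivial Y := by
        rw [← Finite.one_lt_card_iff_nontrivial, hY]
        exact Nat.one_lt_pow (by omega) hp.one_lt
      have hZ : 1 < Nat.card (Subgroup.center Y) := by
        haveI := hYp.center_nontrivial
        exact Finite.one_lt_card
      have hmul : Nat.card (Y ⧸ Subgroup.center Y) * Nat.card (Subgroup.center Y) = p ^ m := by
        rw [← hY]; exact (Subgroup.card_eq_card_quotient_mul_card_subgroup _).symm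
      obtain ⟨k, hkm, hk⟩ := (Nat.dvd_prime_pow hp).mp (Dvd.intro _ hmul)
      have hklt : k < m := by
        rcases Nat.lt_or_ge k m with h | h
        · exact h
        · exfalso
          have hkm' : k = m := le_antisymm hkm h
          rw [hk, hkm'] at hmul
          have h1 : p ^ m * Nat.card (Subgroup.center Y) = p ^ m * 1 := by rw [hmul, mul_one]
          have h2 := Nat.eq_of_mul_eq_mul_left (pow_pos hp.pos m) h1
          omega
      have h1 := ih k hklt (Y ⧸ Subgroup.center Y) hk
      rw [Group.nilpotencyClass_quotient_center] at h1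
      omega

/-- a group of order `p ^ n` (`n ≥ 3`) and class `n - 1` has centre of order `p` -/
theorem card_center_of_maximal_class {Y : Type*} [Group Y] [Finite Y] (p : ℕ) [Fact p.Prime]
    (n : ℕ) (hn : 3 ≤ n) (hY : Nat.card Y = p ^ n) (hc : Group.nilpotencyClass Y = n - 1) :
    Nat.card (Subgroup.center Y) = p := by
  have hp : p.Prime := Fact.out
  have hYp : IsPGroup p Y := IsPGroup.of_card hY
  haveI : Group.IsNilpotent Y := hYp.isNilpotent
  have hmul : Nat.card (Y ⧸ Subgroup.center Y) * Nat.card (Subgroup.center Y) = p ^ n := by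
    rw [← hY]; exact (Subgroup.card_eq_card_quotient_mul_card_subgroup _).symm
  obtain ⟨k, hkn, hk⟩ := (Nat.dvd_prime_pow hp).mp (Dvd.intro _ hmul)
  have h1 := nilpotencyClass_le_of_card_pow p k (Y ⧸ Subgroup.center Y) hk
  rw [Group.nilpotencyClass_quotient_center, hc] at h1
  by_cases hk2 : k ≤ 1
  · exfalso
    haveI : IsCyclic (Y ⧸ Subgroup.center Y) := by
      interval_cases k
      · have : Subsingleton (Y ⧸ Subgroup.center Y) := by
          rw [pow_zero] at hk
          exact (Nat.card_eq_one_iff_unique.mp hk).1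
        infer_instance
      · rw [pow_one] at hk
        exact isCyclic_of_prime_card hk
    have hcomm : IsMulCommutative Y := isMulCommutative_of_isCyclic_quotient_center_self Y
    have := Group.IsNilpotent.nilpotencyClass_le_one_iff.mpr hcomm
    omega
  · have hklt : k < n := by
      rcases Nat.lt_or_ge k n with h | h
      · exact h
      · exfalso
        have hkn' : k = n := le_antisymm hkn h
        haveI : Nontrivial Y := by
          rw [← Finite.one_lt_card_iff_nontrivial, hY]
          exact Nat.one_lt_pow (by omega) hp.one_lt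
        have hZ : 1 < Nat.card (Subgroup.center Y) := by
          haveI := hYp.center_nontrivial
          exact Finite.one_lt_card
        rw [hk, hkn'] at hmul
        have h3 : p ^ n * Nat.card (Subgroup.center Y) = p ^ n * 1 := by rw [hmul, mul_one]
        have h4 := Nat.eq_of_mul_eq_mul_left (pow_pos hp.pos n) h3
        omega
    have hk' : k = n - 1 := by omega
    rw [hk, hk'] at hmul
    have h2 : p ^ n = p ^ (n - 1) * p := by
      rw [← pow_succ]; congr 1; omega
    rw [h2] at hmul
    exact Nat.eq_of_mul_eq_mul_left (pow_pos hp.pos _) hmul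

/-- elements of `⟨z⟩` when `z ^ 2 = 1` -/
theorem mem_zpowers_of_sq_eq_one {X : Type*} [Group X] {z w : X} (hz : z ^ 2 = 1)
    (hw : w ∈ Subgroup.zpowers z) : w = 1 ∨ w = z := by
  obtain ⟨i, rfl⟩ := Subgroup.mem_zpowers_iff.mp hw
  have hz' : z ^ (2 : ℤ) = 1 := by
    have : z ^ (2 : ℤ) = z ^ 2 := zpow_ofNat z 2
    rw [this, hz]
  obtain ⟨k, hk | hk⟩ := Int.even_or_odd' i
  · left; rw [hk, zpow_mul, hz', one_zpow]
  · right; rw [hk, zpow_add, zpow_mul, hz', one_zpow, one_mul, zpow_one]

/-- a prime-order centre lies in a nontrivial derived subgroup -/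
theorem center_le_commutator_of_card_prime {X : Type*} [Group X] [Finite X] (p : ℕ)
    [Fact p.Prime] (hX : IsPGroup p X) (hZ : Nat.card (Subgroup.center X) = p)
    (hne : commutator X ≠ ⊥) : Subgroup.center X ≤ commutator X := by
  have hp : p.Prime := Fact.out
  obtain ⟨z, hzN, hz1, hzc⟩ := exists_mem_centerOmega hX (commutator X) hne
  have hle : Subgroup.zpowers z ≤ Subgroup.center X := by
    rw [Subgroup.zpowers_le]; exact hzc.1
  have hord : orderOf z = p := orderOf_eq_prime hzc.2 hz1
  have heq : Subgroup.zpowers z = Subgroup.center X := by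
    apply Subgroup.eq_of_le_of_card_ge hle
    rw [Nat.card_zpowers, hord, hZ]
  rw [← heq, Subgroup.zpowers_le]
  exact hzN

/-- a group of exponent two is commutative -/
theorem mul_comm_of_sq_eq_one {X : Type*} [Group X] (h : ∀ y : X, y ^ 2 = 1) (a b : X) :
    a * b = b * a := by
  have h1 : ∀ y : X, y⁻¹ = y := by
    intro y
    rw [inv_eq_iff_mul_eq_one, ← sq]; exact h y
  calc a * b = (a * b)⁻¹ := (h1 _).symm
    _ = b⁻¹ * a⁻¹ := mul_inv_rev a b
    _ = b * a := by rw [h1, h1]

/-- a central element generates a normal subgroup -/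
theorem zpowers_normal_of_mem_center {X : Type*} [Group X] {z : X}
    (hz : z ∈ Subgroup.center X) : (Subgroup.zpowers z).Normal := by
  constructor
  intro n hn g
  have hc : n ∈ Subgroup.center X := (Subgroup.zpowers_le.mpr hz) hn
  have : g * n * g⁻¹ = n := by
    rw [Subgroup.mem_center_iff] at hc
    rw [hc g, mul_inv_cancel_right]
  rw [this]; exact hn

/-- Taussky: a 2-group whose derived subgroup has index four has a cyclic subgroup of index two -/
theorem exists_cyclic_index_two.{u} :
    ∀ (n : ℕ) (X : Type u) [Group X] [Finite X], 2 ≤ n → Nat.card X = 2 ^ n →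
      (commutator X).index = 4 → ∃ C : Subgroup X, IsCyclic C ∧ C.index = 2 := by
  intro n
  induction n with
  | zero => intro X _ _ h; omega
  | succ n ih =>
    intro X _ _ hn hX hidx
    haveI : Fact (Nat.Prime 2) := ⟨Nat.prime_two⟩
    have hXp : IsPGroup 2 X := IsPGroup.of_card hX
    by_cases hn2 : n + 1 = 2
    · -- order four
      have h2 : 2 ∣ Nat.card X := by rw [hX]; exact dvd_pow_self 2 (by omega)
      obtain ⟨y, hy⟩ := exists_prime_orderOf_dvd_card' 2 h2
      refine ⟨Subgroup.zpowers y, inferInstance, ?_⟩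
      have h3 := Subgroup.card_mul_index (Subgroup.zpowers y)
      rw [Nat.card_zpowers, hy, hX, hn2] at h3
      omega
    · have hn3 : 2 ≤ n := by omega
      have hne : commutator X ≠ ⊥ := by
        intro h
        rw [h, Subgroup.index_bot, hX] at hidx
        have : 2 ^ 3 ≤ 2 ^ (n + 1) := Nat.pow_le_pow_right (by norm_num) (by omega)
        omega
      obtain ⟨z, hzN, hz1, hzc⟩ := exists_mem_centerOmega hXp (commutator X) hne
      have hzord : orderOf z = 2 := orderOf_eq_prime hzc.2 hz1
      obtain ⟨Z, hZdef⟩ : ∃ Z : Subgroup X, Z = Subgroup.zpowers z := ⟨_, rfl⟩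
      haveI hZn : Z.Normal := by rw [hZdef]; exact zpowers_normal_of_mem_center hzc.1
      have hZcard : Nat.card Z = 2 := by rw [hZdef, Nat.card_zpowers, hzord]
      have hZle : Z ≤ commutator X := by rw [hZdef, Subgroup.zpowers_le]; exact hzN
      have hQcard : Nat.card (X ⧸ Z) = 2 ^ n := by
        have := Subgroup.card_eq_card_quotient_mul_card_subgroup Z
        rw [hX, hZcard, pow_succ] at this
        omega
      have hQidx : (commutator (X ⧸ Z)).index = 4 := by
        rw [index_commutator_quotient _ hZle]; exact hidx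
      obtain ⟨Cb, hCb, hCbi⟩ := ih (X ⧸ Z) hn3 hQcard hQidx
      have hπs : Function.Surjective (QuotientGroup.mk' Z) := QuotientGroup.mk'_surjective Z
      obtain ⟨gb, hgb⟩ := hCb.exists_generator
      obtain ⟨g, hg⟩ := hπs (gb : X ⧸ Z)
      obtain ⟨M, hMdef⟩ : ∃ M : Subgroup X, M = Cb.comap (QuotientGroup.mk' Z) := ⟨_, rfl⟩
      have hMidx : M.index = 2 := by
        rw [hMdef, Subgroup.index_comap_of_surjective _ hπs]; exact hCbi
      have hMmem : ∀ m : X, m ∈ M ↔ QuotientGroup.mk' Z m ∈ Cb := by
        intro m; rw [hMdef, Subgroup.mem_comap]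
      have hgM : g ∈ M := by
        rw [hMmem, hg]; exact gb.2
      have hZM : Z ≤ M := by
        intro w hw
        rw [hMmem]
        have : QuotientGroup.mk' Z w = 1 := (QuotientGroup.eq_one_iff w).mpr hw
        rw [this]; exact one_mem _
      have hZc : ∀ w ∈ Z, w ∈ Subgroup.center X := by
        intro w hw
        rw [hZdef] at hw
        exact (Subgroup.zpowers_le.mpr hzc.1) hw
      have hZsq : ∀ w ∈ Z, w ^ 2 = 1 := by
        intro w hw
        rw [hZdef] at hw
        rcases mem_zpowers_of_sq_eq_one hzc.2 hw with h | h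
        · rw [h, one_pow]
        · rw [h]; exact hzc.2
      -- representation of elements of M
      have hrep : ∀ m ∈ M, ∃ (k : ℤ) (w : X), w ∈ Z ∧ m = g ^ k * w := by
        intro m hm
        have hm' : QuotientGroup.mk' Z m ∈ Cb := (hMmem m).mp hm
        have h1 : (⟨QuotientGroup.mk' Z m, hm'⟩ : Cb) ∈ Subgroup.zpowers gb := hgb _
        obtain ⟨k, hk⟩ := Subgroup.mem_zpowers_iff.mp h1
        have h2 : QuotientGroup.mk' Z (g ^ k) = QuotientGroup.mk' Z m := by
          rw [map_zpow, hg]
          have := congrArg Subtype.val hk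
          simpa using this
        refine ⟨k, (g ^ k)⁻¹ * m, ?_, by group⟩
        exact QuotientGroup.eq.mp h2
      have hab : ∀ a ∈ M, ∀ b ∈ M, a * b = b * a := by
        intro a ha b hb
        obtain ⟨k, w, hw, rfl⟩ := hrep a ha
        obtain ⟨k', w', hw', rfl⟩ := hrep b hb
        have hc1 : Commute (g ^ k) (g ^ k') := (Commute.refl g).zpow_zpow k k'
        have hcw : ∀ y : X, Commute w y :=
          fun y => (Subgroup.mem_center_iff.mp (hZc w hw) y).symm
        have hcw' : ∀ y : X, Commute w' y :=
          fun y => (Subgroup.mem_center_iff.mp (hZc w' hw') y).symm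
        exact ((hc1.mul_left (hcw _)).mul_right ((hcw' _).symm.mul_left (hcw _))).eq
      obtain ⟨x, hxM⟩ : ∃ x : X, x ∉ M := by
        by_contra hall
        push Not at hall
        have : M = ⊤ := eq_top_iff.mpr fun y _ => hall y
        rw [this, Subgroup.index_top] at hMidx
        omega
      have hMcard : Nat.card M = 2 ^ n := by
        have := Subgroup.card_mul_index M
        rw [hMidx, hX, pow_succ] at this
        omega
      have hCcard : Nat.card (commutator X) * 4 = 2 ^ (n + 1) := by
        have := Subgroup.card_mul_index (commutator X)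
        rw [hidx, hX] at this; exact this
      have hCM := card_commutator_mul_card_centralizer_le M hMidx hab x hxM
      have hZeq : Z = M ⊓ Subgroup.centralizer {x} := by
        apply Subgroup.eq_of_le_of_card_ge
        · exact le_inf hZM (fun w hw => (Subgroup.center_le_centralizer _) (hZc w hw))
        · rw [hZcard]
          have h4 : 2 ^ (n + 1) = 2 ^ (n - 1) * 4 := by
            have : n + 1 = (n - 1) + 2 := by omega
            rw [this, pow_add]; norm_num
          have h5 : Nat.card (commutator X) = 2 ^ (n - 1) := by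
            rw [h4] at hCcard; omega
          have h6 : 2 ^ n = 2 ^ (n - 1) * 2 := by
            rw [← pow_succ]; congr 1; omega
          rw [h5, hMcard, h6] at hCM
          exact Nat.le_of_mul_le_mul_left hCM (pow_pos (by norm_num) _)
      by_cases hMc : IsCyclic M
      · exact ⟨M, hMc, hMidx⟩
      -- z is not a square in M
      have hnsq : ∀ m ∈ M, m ^ 2 ≠ z := by
        intro m hm hmz
        apply hMc
        obtain ⟨k, w, hw, rfl⟩ := hrep m hm
        have hcw : Commute (g ^ k) w := Subgroup.mem_center_iff.mp (hZc w hw) _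
        rw [hcw.mul_pow, hZsq w hw, mul_one] at hmz
        have hzg : z ∈ Subgroup.zpowers g := by
          rw [← hmz]; exact Subgroup.pow_mem _ (Subgroup.zpow_mem_zpowers g k) 2
        have hMeq : M = Subgroup.zpowers g := by
          apply le_antisymm
          · intro m' hm'
            obtain ⟨k', w', hw', rfl⟩ := hrep m' hm'
            rw [hZdef] at hw'
            exact Subgroup.mul_mem _ (Subgroup.zpow_mem_zpowers g k')
              ((Subgroup.zpowers_le.mpr hzg) hw')
          · rw [Subgroup.zpowers_le]; exact hgM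
        rw [hMeq]; infer_instance
      -- the subgroup of squares
      let Sq : Subgroup X :=
        { carrier := {y | ∃ m ∈ M, m ^ 2 = y}
          one_mem' := ⟨1, one_mem _, one_pow _⟩
          mul_mem' := by
            rintro _ _ ⟨a, ha, rfl⟩ ⟨b, hb, rfl⟩
            refine ⟨a * b, mul_mem ha hb, ?_⟩
            have : Commute a b := hab a ha b hb
            exact this.mul_pow 2
          inv_mem' := by
            rintro _ ⟨a, ha, rfl⟩
            exact ⟨a⁻¹, inv_mem ha, inv_pow a 2⟩ }
      have hSqmem : ∀ y, y ∈ Sq ↔ ∃ m ∈ M, m ^ 2 = y := fun y => Iff.rfl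
      have hMn : M.Normal := Subgroup.normal_of_index_eq_two hMidx
      haveI hSqn : Sq.Normal := by
        constructor
        rintro _ ⟨a, ha, rfl⟩ t
        exact ⟨t * a * t⁻¹, hMn.conj_mem a ha t, conj_pow⟩
      by_cases hSq : Sq = ⊥
      · -- all squares trivial: order eight
        have hsq1 : ∀ m ∈ M, m ^ 2 = 1 := by
          intro m hm
          have : m ^ 2 ∈ Sq := ⟨m, hm, rfl⟩
          rw [hSq] at this
          exact Subgroup.mem_bot.mp this
        have hgb2 : gb ^ 2 = 1 := by
          apply Subtype.ext
          rw [Subgroup.coe_pow, ← hg, ← map_pow, hsq1 g hgM, map_one]; rfl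
        have hCbcard : Nat.card Cb ≤ 2 := by
          have h1 : Nat.card Cb = orderOf gb := by
            rw [← Nat.card_zpowers]
            have : Subgroup.zpowers gb = ⊤ := eq_top_iff.mpr fun y _ => hgb y
            rw [this, Subgroup.card_top]
          rw [h1]; exact orderOf_le_of_pow_eq_one (by norm_num) hgb2
        have hCb2 : Nat.card Cb * 2 = 2 ^ n := by
          have := Subgroup.card_mul_index Cb
          rw [hCbi, hQcard] at this; exact this
        have hn2' : n = 2 := by
          by_contra hne2
          have : 2 ^ 3 ≤ 2 ^ n := Nat.pow_le_pow_right (by norm_num) (by omega)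
          omega
        subst hn2'
        have hex : ∃ y : X, y ^ 2 ≠ 1 := by
          by_contra hall
          push Not at hall
          apply hne
          rw [commutator_eq_bot_iff]
          exact ⟨⟨mul_comm_of_sq_eq_one hall⟩⟩
        obtain ⟨y, hy⟩ := hex
        have hyord : orderOf y ∣ 2 ^ 3 := by rw [← hX]; exact orderOf_dvd_natCard y
        obtain ⟨j, hj3, hj⟩ := (Nat.dvd_prime_pow Nat.prime_two).mp hyord
        have hj2 : 2 ≤ j := by
          by_contra hlt
          apply hy
          have : orderOf y ∣ 2 := by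
            rw [hj]; interval_cases j <;> norm_num
          exact orderOf_dvd_iff_pow_eq_one.mp this
        obtain ⟨h, hh⟩ : ∃ h : X, orderOf h = 4 := by
          interval_cases j
          · exact ⟨y, by rw [hj]; norm_num⟩
          · refine ⟨y ^ 2, ?_⟩
            rw [orderOf_pow' y (by norm_num), hj]; norm_num
        refine ⟨Subgroup.zpowers h, inferInstance, ?_⟩
        have := Subgroup.card_mul_index (Subgroup.zpowers h)
        rw [Nat.card_zpowers, hh, hX] at this
        omega
      · obtain ⟨w, hwS, hw1, hwc⟩ := exists_mem_centerOmega hXp Sq hSq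
        obtain ⟨m, hm, hmw⟩ := (hSqmem w).mp hwS
        have hwM : w ∈ M := by rw [← hmw]; exact Subgroup.pow_mem _ hm 2
        have hwZ : w ∈ Z := by
          rw [hZeq]; exact ⟨hwM, (Subgroup.center_le_centralizer _) hwc.1⟩
        rw [hZdef] at hwZ
        rcases mem_zpowers_of_sq_eq_one hzc.2 hwZ with h | h
        · exact absurd h hw1
        · exact absurd (hmw.trans h) (hnsq m hm)

/-- the centre of a 2-group with derived subgroup of index four, via an abelian maximal
subgroup -/
theorem center_eq_of_abelian_index_two {X : Type*} [Group X] [Finite X] (n : ℕ) (hn : 3 ≤ n)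
    (hX : Nat.card X = 2 ^ n) (hidx : (commutator X).index = 4)
    (M : Subgroup X) (hM : M.index = 2) (hab : ∀ a ∈ M, ∀ b ∈ M, a * b = b * a)
    (x : X) (hx : x ∉ M) :
    Subgroup.center X = M ⊓ Subgroup.centralizer {x} ∧ Nat.card (Subgroup.center X) = 2 ∧
      Subgroup.center X ≤ commutator X := by
  haveI : Fact (Nat.Prime 2) := ⟨Nat.prime_two⟩
  have hXp : IsPGroup 2 X := IsPGroup.of_card hX
  have hne : commutator X ≠ ⊥ := by
    intro h
    rw [h, Subgroup.index_bot, hX] at hidx
    have : 2 ^ 3 ≤ 2 ^ n := Nat.pow_le_pow_right (by norm_num) hn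
    omega
  have hMcard : Nat.card M * 2 = 2 ^ n := by
    have := Subgroup.card_mul_index M
    rw [hM, hX] at this; exact this
  have hCcard : Nat.card (commutator X) * 4 = 2 ^ n := by
    have := Subgroup.card_mul_index (commutator X)
    rw [hidx, hX] at this; exact this
  have hCM := card_commutator_mul_card_centralizer_le M hM hab x hx
  have hle2 : Nat.card ↥(M ⊓ Subgroup.centralizer {x}) ≤ 2 := by
    obtain ⟨k, rfl⟩ : ∃ k, n = k + 2 := ⟨n - 2, by omega⟩
    have h4 : 2 ^ (k + 2) = 2 ^ k * 4 := by rw [pow_add]; norm_num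
    have h5 : Nat.card (commutator X) = 2 ^ k := by omega
    have h6 : Nat.card M = 2 ^ k * 2 := by omega
    rw [h5, h6] at hCM
    exact Nat.le_of_mul_le_mul_left hCM (pow_pos (by norm_num) _)
  have hZle : Subgroup.center X ≤ M ⊓ Subgroup.centralizer {x} := by
    intro w hw
    refine ⟨?_, Subgroup.center_le_centralizer _ hw⟩
    by_contra hwM
    apply hne
    rw [eq_bot_iff]
    apply Cfsg.Agent.S4189.commutator_le_of_gens ⊥ _ (closure_union_of_index_two M hM w hwM)
    rintro a (ha | ha) b (hb | hb)
    · rw [Subgroup.mem_bot, commutatorElement_eq_one_iff_mul_comm]; exact hab a ha b hb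
    · rw [Set.mem_singleton_iff] at hb; subst hb
      rw [Subgroup.mem_bot, commutatorElement_eq_one_iff_mul_comm]
      exact Subgroup.mem_center_iff.mp hw a
    · rw [Set.mem_singleton_iff] at ha; subst ha
      rw [Subgroup.mem_bot, commutatorElement_eq_one_iff_mul_comm]
      exact (Subgroup.mem_center_iff.mp hw b).symm
    · rw [Set.mem_singleton_iff] at ha hb; subst ha; subst hb
      rw [commutatorElement_self]; exact one_mem _
  haveI : Nontrivial X := by
    rw [← Finite.one_lt_card_iff_nontrivial, hX]
    exact Nat.one_lt_pow (by omega) (by norm_num)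
  have hZ1 : 1 < Nat.card (Subgroup.center X) := by
    haveI := hXp.center_nontrivial
    exact Finite.one_lt_card
  have hZeq : Subgroup.center X = M ⊓ Subgroup.centralizer {x} := by
    apply Subgroup.eq_of_le_of_card_ge hZle
    omega
  have hZcard : Nat.card (Subgroup.center X) = 2 := by
    have := Subgroup.card_le_of_le hZle
    omega
  exact ⟨hZeq, hZcard, center_le_commutator_of_card_prime 2 hXp hZcard hne⟩

/-- a cyclic subgroup is abelian, elementwise -/
theorem mul_comm_of_mem_cyclic {X : Type*} [Group X] (C : Subgroup X) (hC : IsCyclic C) :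
    ∀ a ∈ C, ∀ b ∈ C, a * b = b * a := by
  intro a ha b hb
  have := (IsCyclic.isMulCommutative (α := C)).is_comm.comm ⟨a, ha⟩ ⟨b, hb⟩
  exact congrArg Subtype.val this

/-- a subgroup of index two is proper -/
theorem exists_not_mem_of_index_two {X : Type*} [Group X] (C : Subgroup X) (hC : C.index = 2) :
    ∃ x : X, x ∉ C := by
  by_contra hall
  push Not at hall
  have : C = ⊤ := eq_top_iff.mpr fun y _ => hall y
  rw [this, Subgroup.index_top] at hC
  omega

/-- derived subgroup of index four: maximal class -/
theorem nilpotencyClass_of_index_commutator.{u} :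
    ∀ (n : ℕ) (X : Type u) [Group X] [Finite X], 2 ≤ n → Nat.card X = 2 ^ n →
      (commutator X).index = 4 → Group.nilpotencyClass X = n - 1 := by
  intro n
  induction n with
  | zero => intro X _ _ h; omega
  | succ n ih =>
    intro X _ _ hn hX hidx
    haveI : Fact (Nat.Prime 2) := ⟨Nat.prime_two⟩
    have hXp : IsPGroup 2 X := IsPGroup.of_card hX
    haveI : Group.IsNilpotent X := hXp.isNilpotent
    haveI : Nontrivial X := by
      rw [← Finite.one_lt_card_iff_nontrivial, hX]
      exact Nat.one_lt_pow (by omega) (by norm_num)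
    by_cases hn2 : n + 1 = 2
    · have hcomm : IsMulCommutative X :=
        IsPGroup.isMulCommutative_of_card_eq_prime_sq (hn2 ▸ hX)
      have h1 := Group.IsNilpotent.nilpotencyClass_le_one_iff.mpr hcomm
      have h0 : Group.nilpotencyClass X ≠ 0 := by
        intro h
        rw [Group.nilpotencyClass_zero_iff_subsingleton] at h
        exact not_subsingleton X h
      omega
    · have hn3 : 2 ≤ n := by omega
      obtain ⟨C, hC, hCi⟩ := exists_cyclic_index_two (n + 1) X hn hX hidx
      have hab := mul_comm_of_mem_cyclic C hC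
      obtain ⟨x, hxC⟩ := exists_not_mem_of_index_two C hCi
      obtain ⟨-, hZcard, hZle⟩ :=
        center_eq_of_abelian_index_two (n + 1) (by omega) hX hidx C hCi hab x hxC
      have hQcard : Nat.card (X ⧸ Subgroup.center X) = 2 ^ n := by
        have := Subgroup.card_eq_card_quotient_mul_card_subgroup (Subgroup.center X)
        rw [hX, hZcard, pow_succ] at this
        omega
      have hQidx : (commutator (X ⧸ Subgroup.center X)).index = 4 := by
        rw [index_commutator_quotient _ hZle]; exact hidx
      have h1 := ih (X ⧸ Subgroup.center X) hn3 hQcard hQidx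
      rw [Group.nilpotencyClass_eq_quotient_center_plus_one, h1]
      omega

/-- maximal class: derived subgroup of index four -/
theorem index_commutator_of_maximal_class.{u} :
    ∀ (n : ℕ) (X : Type u) [Group X] [Finite X], 2 ≤ n → Nat.card X = 2 ^ n →
      Group.nilpotencyClass X = n - 1 → (commutator X).index = 4 := by
  intro n
  induction n with
  | zero => intro X _ _ h; omega
  | succ n ih =>
    intro X _ _ hn hX hc
    haveI : Fact (Nat.Prime 2) := ⟨Nat.prime_two⟩
    have hXp : IsPGroup 2 X := IsPGroup.of_card hX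
    haveI : Group.IsNilpotent X := hXp.isNilpotent
    by_cases hn2 : n + 1 = 2
    · have hcomm : IsMulCommutative X :=
        IsPGroup.isMulCommutative_of_card_eq_prime_sq (hn2 ▸ hX)
      rw [(commutator_eq_bot_iff X).mpr hcomm, Subgroup.index_bot, hX, hn2]; norm_num
    · have hn3 : 2 ≤ n := by omega
      have hZcard := card_center_of_maximal_class 2 (n + 1) (by omega) hX hc
      have hne : commutator X ≠ ⊥ := by
        intro h
        have hcomm := (commutator_eq_bot_iff X).mp h
        have h1 := Group.IsNilpotent.nilpotencyClass_le_one_iff.mpr hcomm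
        omega
      have hZle := center_le_commutator_of_card_prime 2 hXp hZcard hne
      have hQcard : Nat.card (X ⧸ Subgroup.center X) = 2 ^ n := by
        have := Subgroup.card_eq_card_quotient_mul_card_subgroup (Subgroup.center X)
        rw [hX, hZcard, pow_succ] at this
        omega
      have hQc : Group.nilpotencyClass (X ⧸ Subgroup.center X) = n - 1 := by
        rw [Group.nilpotencyClass_quotient_center, hc]; omega
      have h1 := ih (X ⧸ Subgroup.center X) hn3 hQcard hQc
      rw [index_commutator_quotient _ hZle] at h1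
      exact h1

/-- derived subgroup of index four in a 2-group of order at least eight: the abelianization is a
four-group -/
theorem isKleinFour_abelianization {X : Type*} [Group X] [Finite X] (n : ℕ) (hn : 3 ≤ n)
    (hX : Nat.card X = 2 ^ n) (hidx : (commutator X).index = 4) :
    IsKleinFour (X ⧸ commutator X) := by
  haveI : Fact (Nat.Prime 2) := ⟨Nat.prime_two⟩
  have hXp : IsPGroup 2 X := IsPGroup.of_card hX
  have hcard : Nat.card (X ⧸ commutator X) = 4 := by
    rw [← Subgroup.index_eq_card]; exact hidx
  have hne : commutator X ≠ ⊥ := by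
    intro h
    rw [h, Subgroup.index_bot, hX] at hidx
    have : 2 ^ 3 ≤ 2 ^ n := Nat.pow_le_pow_right (by norm_num) hn
    omega
  have hsq : ∀ q : X ⧸ commutator X, q ^ 2 = 1 := by
    intro q
    by_contra hq
    have hord : orderOf q ∣ 2 ^ 2 := by
      have := orderOf_dvd_natCard q
      rw [hcard] at this; exact this
    obtain ⟨j, hj2, hj⟩ := (Nat.dvd_prime_pow Nat.prime_two).mp hord
    have hj' : j = 2 := by
      by_contra hne'
      apply hq
      have : orderOf q ∣ 2 := by
        rw [hj]
        have hj1 : j ≤ 1 := by omega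
        exact (pow_dvd_pow 2 hj1).trans (by norm_num)
      exact orderOf_dvd_iff_pow_eq_one.mp this
    subst hj'
    obtain ⟨x, rfl⟩ := QuotientGroup.mk_surjective q
    have hgen : Subgroup.zpowers (QuotientGroup.mk x : X ⧸ commutator X) = ⊤ := by
      apply Subgroup.eq_top_of_card_eq
      rw [Nat.card_zpowers, hj, hcard]; norm_num
    have hsup : commutator X ⊔ Subgroup.zpowers x = ⊤ := by
      rw [eq_top_iff]
      intro y _
      have hy : (QuotientGroup.mk y : X ⧸ commutator X) ∈
          Subgroup.zpowers (QuotientGroup.mk x : X ⧸ commutator X) := by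
        rw [hgen]; exact Subgroup.mem_top _
      obtain ⟨k, hk⟩ := Subgroup.mem_zpowers_iff.mp hy
      have h2 : (QuotientGroup.mk (x ^ k) : X ⧸ commutator X) = QuotientGroup.mk y := by
        rw [QuotientGroup.mk_zpow]; exact hk
      have h3 : (x ^ k)⁻¹ * y ∈ commutator X := QuotientGroup.eq.mp h2
      have h4 : y = (x ^ k) * ((x ^ k)⁻¹ * y) := by group
      rw [h4]
      exact Subgroup.mul_mem _ (Subgroup.mem_sup_right (Subgroup.zpow_mem_zpowers x k))
        (Subgroup.mem_sup_left h3)
    have hfr : commutator X ≤ frattini X := (Cfsg.Agent.S0012.result 2 hXp).1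
    have htop : Subgroup.zpowers x = ⊤ := by
      apply frattini_nongenerating
      rw [eq_top_iff, ← hsup]
      exact sup_le (le_sup_of_le_right hfr) le_sup_left
    haveI : IsCyclic X := isCyclic_iff_exists_zpowers_eq_top.mpr ⟨x, htop⟩
    exact hne ((commutator_eq_bot_iff X).mpr IsCyclic.isMulCommutative)
  refine ⟨hcard, ?_⟩
  have hd : Monoid.exponent (X ⧸ commutator X) ∣ 2 :=
    Monoid.exponent_dvd_of_forall_pow_eq_one hsq
  rcases (Nat.dvd_prime Nat.prime_two).mp hd with h | h
  · exfalso
    have hss := Monoid.exp_eq_one_iff.mp h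
    have : Nat.card (X ⧸ commutator X) = 1 := Nat.card_of_subsingleton 1
    omega
  · exact h

/-- the central quotient of a 2-group with derived subgroup of index four is dihedral -/
theorem nonempty_quotient_center_mulEquiv_dihedral {X : Type*} [Group X] [Finite X] (n : ℕ)
    (hn : 3 ≤ n) (hX : Nat.card X = 2 ^ n) (hidx : (commutator X).index = 4) :
    Nonempty (X ⧸ Subgroup.center X ≃* DihedralGroup (2 ^ (n - 2))) := by
  haveI : Fact (Nat.Prime 2) := ⟨Nat.prime_two⟩
  obtain ⟨C, hC, hCi⟩ := exists_cyclic_index_two n X (by omega) hX hidx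
  have hab := mul_comm_of_mem_cyclic C hC
  obtain ⟨x, hxC⟩ := exists_not_mem_of_index_two C hCi
  obtain ⟨hZeq, hZcard, hZle⟩ := center_eq_of_abelian_index_two n hn hX hidx C hCi hab x hxC
  obtain ⟨⟨a, haC⟩, ha0⟩ := hC.exists_generator
  have hCeq : C = Subgroup.zpowers a := by
    apply le_antisymm
    · intro y hy
      obtain ⟨k, hk⟩ := Subgroup.mem_zpowers_iff.mp (ha0 ⟨y, hy⟩)
      rw [Subgroup.mem_zpowers_iff]
      exact ⟨k, by have := congrArg Subtype.val hk; simpa using this⟩
    · rw [Subgroup.zpowers_le]; exact haC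
  have hCn : C.Normal := Subgroup.normal_of_index_eq_two hCi
  have h2n : 2 ^ n = 2 ^ (n - 1) * 2 := by rw [← pow_succ]; congr 1; omega
  have h2n' : 2 ^ (n - 1) = 2 ^ (n - 2) * 2 := by rw [← pow_succ]; congr 1; omega
  have hQcard : Nat.card (X ⧸ Subgroup.center X) = 2 ^ (n - 1) := by
    have := Subgroup.card_eq_card_quotient_mul_card_subgroup (Subgroup.center X)
    rw [hX, hZcard] at this
    omega
  have hπs : Function.Surjective (QuotientGroup.mk' (Subgroup.center X)) :=
    QuotientGroup.mk'_surjective _
  have hmem1 : ∀ y : X, QuotientGroup.mk' (Subgroup.center X) y = 1 ↔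
      y ∈ C ⊓ Subgroup.centralizer {x} := by
    intro y
    rw [← hZeq]; exact QuotientGroup.eq_one_iff y
  have hord : (QuotientGroup.mk' (Subgroup.center X) a) ^ (2 ^ (n - 2)) = 1 := by
    have h1 : (C.map (QuotientGroup.mk' (Subgroup.center X))).index = 2 := by
      rw [Subgroup.index_map_eq _ hπs (by rw [QuotientGroup.ker_mk', hZeq]; exact inf_le_left)]
      exact hCi
    have h2 : C.map (QuotientGroup.mk' (Subgroup.center X)) =
        Subgroup.zpowers (QuotientGroup.mk' (Subgroup.center X) a) := by
      rw [hCeq, MonoidHom.map_zpowers]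
    have h3 : Nat.card (Subgroup.zpowers (QuotientGroup.mk' (Subgroup.center X) a)) * 2 =
        2 ^ (n - 1) := by
      have := Subgroup.card_mul_index (C.map (QuotientGroup.mk' (Subgroup.center X)))
      rw [h1, hQcard, h2] at this; exact this
    rw [Nat.card_zpowers] at h3
    have h4 : orderOf (QuotientGroup.mk' (Subgroup.center X) a) = 2 ^ (n - 2) := by omega
    rw [← h4]; exact pow_orderOf_eq_one _
  have hx2C : x * x ∈ C := by rw [Subgroup.mul_mem_iff_of_index_two hCi]
  have hx2 : QuotientGroup.mk' (Subgroup.center X) x * QuotientGroup.mk' (Subgroup.center X) x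
      = 1 := by
    rw [← map_mul, hmem1, Subgroup.mem_inf]
    refine ⟨hx2C, ?_⟩
    rw [Subgroup.mem_centralizer_singleton_iff]
    exact mul_assoc x x x
  have hconj : QuotientGroup.mk' (Subgroup.center X) x * QuotientGroup.mk' (Subgroup.center X) a
      * (QuotientGroup.mk' (Subgroup.center X) x)⁻¹
      = (QuotientGroup.mk' (Subgroup.center X) a)⁻¹ := by
    rw [eq_inv_iff_mul_eq_one, ← map_inv, ← map_mul, ← map_mul, ← map_mul, hmem1,
      Subgroup.mem_inf]
    have hxa : x * a * x⁻¹ ∈ C := hCn.conj_mem _ haC x
    refine ⟨Subgroup.mul_mem _ hxa haC, ?_⟩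
    rw [Subgroup.mem_centralizer_singleton_iff]
    have h1 : (x * x) * a = a * (x * x) := hab _ hx2C _ haC
    have h2 : (x * a * x⁻¹) * a = a * (x * a * x⁻¹) := hab _ hxa _ haC
    calc x * a * x⁻¹ * a * x = a * (x * a * x⁻¹) * x := by rw [h2]
      _ = a * (x * x) * x⁻¹ * a := by group
      _ = x * x * a * x⁻¹ * a := by rw [h1]
      _ = x * (x * a * x⁻¹ * a) := by group
  haveI : NeZero (2 ^ (n - 2)) := ⟨pow_ne_zero _ (by norm_num)⟩
  let f : DihedralGroup (2 ^ (n - 2)) →* X ⧸ Subgroup.center X :=
    Cfsg.Agent.Helper16.dLift hord hx2 hconj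
  have hfs : Function.Surjective f := by
    intro q
    obtain ⟨y, rfl⟩ := hπs q
    have key : ∀ c ∈ C, ∃ i : ZMod (2 ^ (n - 2)),
        (QuotientGroup.mk' (Subgroup.center X) a) ^ i.val
          = QuotientGroup.mk' (Subgroup.center X) c := by
      intro c hc
      rw [hCeq] at hc
      obtain ⟨k, rfl⟩ := (mem_powers_iff_mem_zpowers.mpr hc)
      refine ⟨(k : ZMod (2 ^ (n - 2))), ?_⟩
      rw [ZMod.val_natCast, ← pow_eq_pow_mod _ hord, map_pow]
    by_cases hy : y ∈ C
    · obtain ⟨i, hi⟩ := key y hy
      exact ⟨DihedralGroup.r i, hi⟩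
    · have h1 : x⁻¹ * y ∈ C := by
        rw [Subgroup.mul_mem_iff_of_index_two hCi]
        constructor
        · intro h; exact absurd ((Subgroup.inv_mem_iff C).mp h) hxC
        · intro h; exact absurd h hy
      obtain ⟨i, hi⟩ := key _ h1
      refine ⟨DihedralGroup.sr i, ?_⟩
      show QuotientGroup.mk' (Subgroup.center X) x *
        (QuotientGroup.mk' (Subgroup.center X) a) ^ i.val = _
      rw [hi, ← map_mul, mul_inv_cancel_left]
  have hfb : Function.Bijective f := by
    rw [Nat.bijective_iff_surjective_and_card]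
    refine ⟨hfs, ?_⟩
    rw [DihedralGroup.nat_card, hQcard, h2n', mul_comm]
  exact ⟨(MulEquiv.ofBijective f hfb).symm⟩

end Cfsg.Agent.Helper1
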