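import Mathlib
import Cfsg.Agent.Helper1.Class3
import Cfsg.Agent.Helper1.Rank2
import Cfsg.Agent.Helper1.MaxClass

set_option autoImplicit false
open scoped commutatorElement

namespace Cfsg.Agent.Helper1

/-- a `p`-group of order at most `p ^ 4` has class at most three -/
theorem class3_of_card_le {G : Type*} [Group G] [Finite G] {p : ℕ} [hp : Fact p.Prime] (m : ℕ)
    (hm : m ≤ 4) (hG : Nat.card G = p ^ m) :
    ∀ u ∈ commutator G, ∀ g k : G, Commute ⁅u, g⁆ k := by
  have hGp : IsPGroup p G := IsPGroup.of_card hG
  haveI : Group.IsNilpotent G := hGp.isNilpotent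
  have h1 := nilpotencyClass_le_of_card_pow p m G hG
  have h2 : Group.nilpotencyClass G ≤ 3 := by omega
  have h3 : Subgroup.lowerCentralSeries (⊤ : Subgroup G) 3 = ⊥ :=
    Subgroup.lowerCentralSeries_eq_bot_iff_nilpotencyClass_le.mpr h2
  apply class3_of_commutator_eq_bot
  rw [← h3, commutator_def]
  rfl

theorem card_eq_card_inf_mul_relIndex {R : Type*} [Group R] (L C : Subgroup R) :
    Nat.card L = Nat.card ↥(L ⊓ C) * C.relIndex L := by
  rw [← Subgroup.card_mul_index (C.subgroupOf L)]
  congr 1
  rw [← Subgroup.inf_subgroupOf_left]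
  exact (Nat.card_congr (Subgroup.subgroupOfEquivOfLe (inf_le_left : L ⊓ C ≤ L)).toEquiv)

/-- pairwise commuting elements of order dividing `p` generate an elementary abelian subgroup -/
theorem elem_abelian_closure {G : Type*} [Group G] (p : ℕ) (S : Set G)
    (hS : ∀ a ∈ S, ∀ b ∈ S, a * b = b * a) (hSp : ∀ a ∈ S, a ^ p = 1) :
    (∀ a ∈ Subgroup.closure S, ∀ b ∈ Subgroup.closure S, a * b = b * a) ∧
      ∀ a ∈ Subgroup.closure S, a ^ p = 1 := by
  have h1 : Subgroup.closure S ≤ Subgroup.centralizer S := by
    rw [Subgroup.closure_le]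
    intro a ha
    rw [SetLike.mem_coe, Subgroup.mem_centralizer_iff]
    intro b hb
    exact hS b hb a ha
  have h2 : Subgroup.closure S ≤ Subgroup.centralizer (Subgroup.closure S : Set G) := by
    rw [Subgroup.closure_le]
    intro a ha
    rw [SetLike.mem_coe, Subgroup.mem_centralizer_iff]
    intro b hb
    exact (Subgroup.mem_centralizer_iff.mp (h1 hb) a ha).symm
  have hcomm : ∀ a ∈ Subgroup.closure S, ∀ b ∈ Subgroup.closure S, a * b = b * a := by
    intro a ha b hb
    exact Subgroup.mem_centralizer_iff.mp (h2 hb) a ha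
  refine ⟨hcomm, ?_⟩
  intro a ha
  induction ha using Subgroup.closure_induction with
  | mem x hx => exact hSp x hx
  | one => exact one_pow _
  | mul x y hx hy ihx ihy =>
    have : Commute x y := hcomm x hx y hy
    rw [this.mul_pow, ihx, ihy, one_mul]
  | inv x _ ih => rw [inv_pow, ih, inv_one]

/-- order of the join of a normal subgroup with a cyclic subgroup of order dividing `p` -/
theorem card_sup_zpowers_le {R : Type*} [Group R] [Finite R] {p : ℕ} (hp : 0 < p)
    (K : Subgroup R) (hK : K.Normal) (y : R) (hy : y ^ p = 1) :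
    Nat.card ↥(K ⊔ Subgroup.zpowers y) ≤ Nat.card K * p := by
  have h1 : Nat.card K * K.relIndex (K ⊔ Subgroup.zpowers y) =
      Nat.card ↥(K ⊔ Subgroup.zpowers y) := by
    have := Subgroup.relIndex_mul_relIndex ⊥ K (K ⊔ Subgroup.zpowers y) bot_le le_sup_left
    rw [Subgroup.relIndex_bot_left, Subgroup.relIndex_bot_left] at this
    exact this
  rw [← h1, Subgroup.relIndex_sup_left]
  apply Nat.mul_le_mul_left
  have h2 : K.relIndex (Subgroup.zpowers y) ≤ Nat.card (Subgroup.zpowers y) :=
    Nat.le_of_dvd Nat.card_pos (Subgroup.relIndex_dvd_card _ _)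
  rw [Nat.card_zpowers] at h2
  exact le_trans h2 (orderOf_le_of_pow_eq_one hp hy)

/-- for `p > 3`, in a `p`-group of rank at most two the elements of order dividing `p` generate a
subgroup of exponent dividing `p` -/
theorem rank_two_exp.{u} (p : ℕ) [hp : Fact p.Prime] (hp3 : 3 < p) :
    ∀ (n : ℕ) (R : Type u) [Group R] [Finite R], Nat.card R = n → IsPGroup p R →
      (∀ E : Subgroup R, (∀ x ∈ E, ∀ y ∈ E, x * y = y * x) → (∀ x ∈ E, x ^ p = 1) →
        Nat.card E ≤ p ^ 2) →
      ∀ g : R, g ∈ Subgroup.closure {x : R | x ^ p = 1} → g ^ p = 1 := by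
  intro n
  induction n using Nat.strong_induction_on with
  | _ n ih =>
    intro R _ _ hn hR hrk
    have hp1 := hp.out.one_lt
    have hp2 : p ≠ 2 := by omega
    -- induction hypothesis for proper subgroups
    have IHsub : ∀ H : Subgroup R, H ≠ ⊤ → ∀ h ∈ H,
        h ∈ Subgroup.closure {x : R | x ∈ H ∧ x ^ p = 1} → h ^ p = 1 := by
      intro H hH h hh hcl
      have hlt : Nat.card H < n := by
        rw [← hn]
        by_contra hge
        push Not at hge
        exact hH (Subgroup.eq_top_of_le_card H hge)
      have hrkH : ∀ E : Subgroup H, (∀ x ∈ E, ∀ y ∈ E, x * y = y * x) → (∀ x ∈ E, x ^ p = 1) →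
          Nat.card E ≤ p ^ 2 := by
        intro E hEc hEe
        have h1 := hrk (E.map H.subtype) (by
          rintro _ ⟨a, ha, rfl⟩ _ ⟨b, hb, rfl⟩
          exact congrArg Subtype.val (hEc a ha b hb)) (by
          rintro _ ⟨a, ha, rfl⟩
          rw [Subgroup.coe_subtype, ← Subgroup.coe_pow, hEe a ha, Subgroup.coe_one])
        rwa [Subgroup.card_map_of_injective (Subgroup.subtype_injective H)] at h1
      have hmem : (⟨h, hh⟩ : H) ∈ Subgroup.closure {x : H | x ^ p = 1} := by
        have hle : Subgroup.closure {x : R | x ∈ H ∧ x ^ p = 1} ≤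
            (Subgroup.closure {x : H | x ^ p = 1}).map H.subtype := by
          rw [Subgroup.closure_le]
          rintro x ⟨hxH, hxp⟩
          refine ⟨⟨x, hxH⟩, Subgroup.subset_closure ?_, rfl⟩
          exact Subtype.ext hxp
        obtain ⟨h', hh', hh'e⟩ := hle hcl
        have : h' = ⟨h, hh⟩ := Subtype.ext hh'e
        rw [← this]; exact hh'
      have := ih (Nat.card H) hlt H rfl (hR.to_subgroup H) hrkH ⟨h, hh⟩ hmem
      exact congrArg Subtype.val this
    have small : Nat.card R ≤ p ^ 4 → (∀ g : R, g ∈ Subgroup.closure {x : R | x ^ p = 1}) →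
        ∀ g : R, g ^ p = 1 := by
      intro hle hgen g
      obtain ⟨m, hm⟩ := IsPGroup.iff_card.mp hR
      have hm4 : m ≤ 4 := by
        rw [hm] at hle
        exact (Nat.pow_le_pow_iff_right hp1).mp hle
      exact pow_eq_one_of_generated_class3 (class3_of_card_le m hm4 hm) hp3 hgen g
    intro g hg
    by_cases hW : Subgroup.closure {x : R | x ^ p = 1} = ⊤
    swap
    · apply IHsub _ hW g hg
      have hsub : {x : R | x ^ p = 1} ⊆
          {x : R | x ∈ Subgroup.closure {x : R | x ^ p = 1} ∧ x ^ p = 1} :=
        fun x hx => ⟨Subgroup.subset_closure hx, hx⟩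
      exact Subgroup.closure_mono hsub hg
    have hgen : ∀ g : R, g ∈ Subgroup.closure {x : R | x ^ p = 1} :=
      fun g => hW ▸ Subgroup.mem_top g
    by_cases hcomm : ∀ a b : R, a * b = b * a
    · induction hg using Subgroup.closure_induction with
      | mem x hx => exact hx
      | one => exact one_pow _
      | mul x y _ _ ihx ihy =>
        have : Commute x y := hcomm x y
        rw [this.mul_pow, ihx, ihy, one_mul]
      | inv x _ ih => rw [inv_pow, ih, inv_one]
    have hnc : ¬ IsCyclic R := by
      intro hc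
      exact hcomm (fun a b => (IsCyclic.isMulCommutative (α := R)).is_comm.comm a b)
    obtain ⟨E, hEn, hEc, hEe, hEcard⟩ := exists_normal_elem_abelian_sq hp2 hR hnc
    have hCidx := index_centralizer_le_of_card_le_sq hR E hEn (le_of_eq hEcard)
    -- elements of order p in the centraliser of E lie in E
    have hCE : ∀ x ∈ Subgroup.centralizer (E : Set R), x ^ p = 1 → x ∈ E := by
      intro x hx hxp
      obtain ⟨hFc, hFe⟩ := elem_abelian_closure p ((E : Set R) ∪ {x}) (by
        rintro a (ha | ha) b (hb | hb)
        · exact hEc a ha b hb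
        · rw [Set.mem_singleton_iff] at hb; rw [hb]
          exact Subgroup.mem_centralizer_iff.mp hx a ha
        · rw [Set.mem_singleton_iff] at ha; rw [ha]
          exact (Subgroup.mem_centralizer_iff.mp hx b hb).symm
        · rw [Set.mem_singleton_iff] at ha hb; rw [ha, hb]) (by
        rintro a (ha | ha)
        · exact hEe a ha
        · rw [Set.mem_singleton_iff] at ha; rw [ha]; exact hxp)
      have hle : E ≤ Subgroup.closure ((E : Set R) ∪ {x}) :=
        fun e he => Subgroup.subset_closure (Or.inl he)
      have hcard := hrk _ hFc hFe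
      have heq : E = Subgroup.closure ((E : Set R) ∪ {x}) :=
        Subgroup.eq_of_le_of_card_ge hle (by rw [hEcard]; exact hcard)
      rw [heq]; exact Subgroup.subset_closure (Or.inr rfl)
    have hCn : (Subgroup.centralizer (E : Set R)).Normal := by
      haveI := hEn
      exact Subgroup.normal_centralizer
    -- a bound for subgroups of exponent p
    have hX : ∀ L : Subgroup R, (∀ l ∈ L, l ^ p = 1) → Nat.card L ≤ p ^ 3 := by
      intro L hL
      have h1 : L ⊓ Subgroup.centralizer (E : Set R) ≤ E := fun l hl => hCE l hl.2 (hL l hl.1)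
      have h2 : Nat.card ↥(L ⊓ Subgroup.centralizer (E : Set R)) ≤ p ^ 2 :=
        hEcard ▸ Subgroup.card_le_of_le h1
      have h3 : (Subgroup.centralizer (E : Set R)).relIndex L ≤ p :=
        le_trans (Nat.le_of_dvd (Nat.pos_of_ne_zero Subgroup.index_ne_zero_of_finite)
          (Subgroup.relIndex_dvd_index_of_normal _ L)) hCidx
      rw [card_eq_card_inf_mul_relIndex L (Subgroup.centralizer (E : Set R))]
      calc _ ≤ p ^ 2 * p := Nat.mul_le_mul h2 h3
        _ = p ^ 3 := by ring
    -- an element of order p outside the centraliser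
    obtain ⟨x, hxp, hxC⟩ : ∃ x : R, x ^ p = 1 ∧ x ∉ Subgroup.centralizer (E : Set R) := by
      by_contra hall
      push Not at hall
      apply hcomm
      have hle : Subgroup.closure {x : R | x ^ p = 1} ≤ E := by
        rw [Subgroup.closure_le]
        intro x hx
        exact hCE x (hall x hx) hx
      intro a b
      exact hEc a (hle (hgen a)) b (hle (hgen b))
    have hxE : x ∉ E := by
      intro hx
      apply hxC
      rw [Subgroup.mem_centralizer_iff]
      intro e he
      exact hEc e he x hx
    obtain ⟨H, hHdef⟩ : ∃ H : Subgroup R, H = E ⊔ Subgroup.zpowers x := ⟨_, rfl⟩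
    have hHcl : H = Subgroup.closure ((E : Set R) ∪ {x}) := by
      rw [hHdef, Subgroup.closure_union, Subgroup.closure_eq, Subgroup.zpowers_eq_closure]
    have hEH : E ≤ H := hHdef ▸ le_sup_left
    have hxH : x ∈ H := hHdef ▸ (Subgroup.mem_sup_right (Subgroup.mem_zpowers x))
    have hHle : Nat.card H ≤ p ^ 3 := by
      have := card_sup_zpowers_le hp.out.pos E hEn x hxp
      rw [← hHdef, hEcard] at this
      calc Nat.card H ≤ p ^ 2 * p := this
        _ = p ^ 3 := by ring
    by_cases hHtop : H = ⊤
    · apply small _ hgen g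
      rw [← Subgroup.card_top (G := R), ← hHtop]
      exact le_trans hHle (Nat.pow_le_pow_right hp.out.pos (by norm_num))
    have hHexp : ∀ h ∈ H, h ^ p = 1 := by
      intro h hh
      apply IHsub H hHtop h hh
      have hS : ((E : Set R) ∪ {x}) ⊆ {z : R | z ∈ H ∧ z ^ p = 1} := by
        rintro z (hz | hz)
        · exact ⟨hEH hz, hEe z hz⟩
        · rw [Set.mem_singleton_iff] at hz; rw [hz]; exact ⟨hxH, hxp⟩
      exact (hHcl.le.trans (Subgroup.closure_mono hS)) hh
    have hHcard : Nat.card H = p ^ 3 := by
      apply le_antisymm hHle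
      obtain ⟨k, hk⟩ := IsPGroup.iff_card.mp (hR.to_subgroup H)
      have h2k : 2 ≤ k := by
        have := Subgroup.card_le_of_le hEH
        rw [hEcard, hk] at this
        exact (Nat.pow_le_pow_iff_right hp1).mp this
      have hk2 : k ≠ 2 := by
        intro hk2
        apply hxE
        have : E = H := Subgroup.eq_of_le_of_card_ge hEH (by rw [hk, hk2, hEcard])
        rw [this]; exact hxH
      rw [hk]
      exact Nat.pow_le_pow_right hp.out.pos (by omega)
    -- subgroups of exponent p containing H
    have hY : ∀ M : Subgroup R, M ≠ ⊤ → H ≤ M →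
        H = Subgroup.closure {y : R | y ∈ M ∧ y ^ p = 1} := by
      intro M hM hHM
      have hTM : Subgroup.closure {y : R | y ∈ M ∧ y ^ p = 1} ≤ M := by
        rw [Subgroup.closure_le]; exact fun y hy => hy.1
      have hTexp : ∀ t ∈ Subgroup.closure {y : R | y ∈ M ∧ y ^ p = 1}, t ^ p = 1 :=
        fun t ht => IHsub M hM t (hTM ht) ht
      have hHT : H ≤ Subgroup.closure {y : R | y ∈ M ∧ y ^ p = 1} :=
        fun h hh => Subgroup.subset_closure ⟨hHM hh, hHexp h hh⟩
      exact Subgroup.eq_of_le_of_card_ge hHT (by rw [hHcard]; exact hX _ hTexp)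
    -- H is normal
    have hHn : H.Normal := by
      have hnorm : Subgroup.normalizer (H : Set R) = ⊤ := by
        by_contra hN
        haveI : Group.IsNilpotent R := hR.isNilpotent
        have hlt := Group.normalizerCondition_of_isNilpotent (G := R) (Subgroup.normalizer (H : Set R))
          (lt_top_iff_ne_top.mpr hN)
        obtain ⟨g', hg'N, hg'⟩ := SetLike.exists_of_lt hlt
        apply hg'
        have hHN := hY _ hN Subgroup.le_normalizer
        have h1 : ∀ h ∈ H, g' * h * g'⁻¹ ∈ H := by
          intro h hh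
          rw [hHN]
          apply Subgroup.subset_closure
          refine ⟨?_, ?_⟩
          · exact (Subgroup.mem_normalizer_iff.mp hg'N h).mp (Subgroup.le_normalizer hh)
          · rw [conj_pow, hHexp h hh, mul_one, mul_inv_cancel]
        have h2 : g'⁻¹ ∈ Subgroup.normalizer (H : Set R) := by
          apply mem_normalizer_of_conj_mem
          intro h hh
          simpa using h1 h hh
        simpa using Subgroup.inv_mem _ h2
      exact Subgroup.normalizer_eq_top_iff.mp hnorm
    -- an element of order p outside H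
    obtain ⟨y, hyp, hyH⟩ : ∃ y : R, y ^ p = 1 ∧ y ∉ H := by
      by_contra hall
      push Not at hall
      apply hHtop
      rw [eq_top_iff, ← hW, Subgroup.closure_le]
      intro z hz
      exact hall z hz
    obtain ⟨L, hLdef⟩ : ∃ L : Subgroup R, L = H ⊔ Subgroup.zpowers y := ⟨_, rfl⟩
    have hLle : Nat.card L ≤ p ^ 4 := by
      have := card_sup_zpowers_le hp.out.pos H hHn y hyp
      rw [← hLdef, hHcard] at this
      calc Nat.card L ≤ p ^ 3 * p := this
        _ = p ^ 4 := by ring
    have hHL : H ≤ L := hLdef ▸ le_sup_left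
    have hyL : y ∈ L := hLdef ▸ (Subgroup.mem_sup_right (Subgroup.mem_zpowers y))
    by_cases hLtop : L = ⊤
    · apply small _ hgen g
      rw [← Subgroup.card_top (G := R), ← hLtop]
      exact hLle
    exfalso
    have hLexp : ∀ l ∈ L, l ^ p = 1 := by
      intro l hl
      apply IHsub L hLtop l hl
      have hLcl : L = Subgroup.closure ((H : Set R) ∪ {y}) := by
        rw [hLdef, Subgroup.closure_union, Subgroup.closure_eq, Subgroup.zpowers_eq_closure]
      have hS : ((H : Set R) ∪ {y}) ⊆ {z : R | z ∈ L ∧ z ^ p = 1} := by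
        rintro z (hz | hz)
        · exact ⟨hHL hz, hHexp z hz⟩
        · rw [Set.mem_singleton_iff] at hz; rw [hz]; exact ⟨hyL, hyp⟩
      exact (hLcl.le.trans (Subgroup.closure_mono hS)) hl
    have h1 := hX L hLexp
    have : H = L := Subgroup.eq_of_le_of_card_ge hHL (by rw [hHcard]; exact h1)
    exact hyH (this ▸ hyL)

end Cfsg.Agent.Helper1
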