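import Mathlib
import Cfsg.Prelude.Def_Transfer
import Cfsg.Agent.Helper1.ExtraIso
import Cfsg.Agent.Helper1.ExtraCent
import Cfsg.Agent.Helper1.Rank2Exp
import Cfsg.Agent.S0012

set_option autoImplicit false

/-!
Helper library (seat helper1): extraspecial `2`-groups of a given order fall into at most two
isomorphism types (according to the existence of a large elementary abelian subgroup).
-/

namespace Cfsg.Agent.Helper1

open scoped commutatorElement

universe u v w

theorem comm_of_sq_one_aux {E : Type*} [Group E] (a b : E) (ha : a ^ 2 = 1) (hb : b ^ 2 = 1)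
    (hab : (a * b) ^ 2 = 1) : a * b = b * a := by
  have h1 : a⁻¹ = a := inv_eq_of_mul_eq_one_left (by rw [← sq]; exact ha)
  have h2 : b⁻¹ = b := inv_eq_of_mul_eq_one_left (by rw [← sq]; exact hb)
  have h3 : (a * b)⁻¹ = a * b := inv_eq_of_mul_eq_one_left (by rw [← sq]; exact hab)
  rw [mul_inv_rev, h1, h2] at h3
  exact h3.symm

/-- adjoining a commuting involution to a subgroup of exponent two -/
theorem exp_two_adjoin {E : Type*} [Group E] [Finite E] (B : Subgroup E)
    (hB : ∀ b ∈ B, b ^ 2 = 1) (x : E) (hx : x ^ 2 = 1) (hcomm : ∀ b ∈ B, b * x = x * b)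
    (hxB : x ∉ B) : ∃ A : Subgroup E, (∀ a ∈ A, a ^ 2 = 1) ∧ 2 * Nat.card B ≤ Nat.card A := by
  let S : Set E := (B : Set E) ∪ {x}
  have hSc : ∀ s ∈ S, ∀ t ∈ S, s * t = t * s := by
    rintro s (hs | hs) t (ht | ht)
    · exact comm_of_sq_one_aux s t (hB s hs) (hB t ht) (hB _ (mul_mem hs ht))
    · rw [Set.mem_singleton_iff] at ht; subst ht; exact hcomm s hs
    · rw [Set.mem_singleton_iff] at hs; subst hs; exact (hcomm t ht).symm
    · rw [Set.mem_singleton_iff] at hs ht; subst hs; subst ht; rfl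
  have hS2 : ∀ s ∈ S, s ^ 2 = 1 := by
    rintro s (hs | hs)
    · exact hB s hs
    · rw [Set.mem_singleton_iff] at hs; subst hs; exact hx
  have key : ∀ a ∈ Subgroup.closure S, a ^ 2 = 1 ∧ a ∈ Subgroup.centralizer S := by
    intro a ha
    refine Subgroup.closure_induction
      (p := fun a _ => a ^ 2 = 1 ∧ a ∈ Subgroup.centralizer S) ?_ ?_ ?_ ?_ ha
    · intro s hs
      exact ⟨hS2 s hs, Subgroup.mem_centralizer_iff.mpr (fun t ht => hSc t ht s hs)⟩
    · exact ⟨one_pow 2, Subgroup.one_mem _⟩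
    · intro a b ha hb hpa hpb
      obtain ⟨ha2, hac⟩ := hpa
      obtain ⟨hb2, hbc⟩ := hpb
      refine ⟨?_, mul_mem hac hbc⟩
      have h1 : Subgroup.closure S ≤ Subgroup.centralizer {a} := by
        rw [Subgroup.closure_le]
        intro t ht
        rw [SetLike.mem_coe, Subgroup.mem_centralizer_iff]
        intro d hd
        rw [Set.mem_singleton_iff] at hd; subst hd
        exact (Subgroup.mem_centralizer_iff.mp hac t ht).symm
      have h2 : a * b = b * a := Subgroup.mem_centralizer_iff.mp (h1 hb) a rfl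
      calc (a * b) ^ 2 = a * (b * a) * b := by rw [sq]; group
        _ = a * (a * b) * b := by rw [h2]
        _ = a ^ 2 * b ^ 2 := by rw [sq, sq]; group
        _ = 1 := by rw [ha2, hb2, one_mul]
    · intro a ha hpa
      obtain ⟨ha2, hac⟩ := hpa
      exact ⟨by rw [inv_pow, ha2, inv_one], inv_mem hac⟩
  refine ⟨Subgroup.closure S, fun a ha => (key a ha).1, ?_⟩
  have hBA : B ≤ Subgroup.closure S := fun b hb => Subgroup.subset_closure (Or.inl hb)
  have hxA : x ∈ Subgroup.closure S := Subgroup.subset_closure (Or.inr rfl)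
  have hdvd := Subgroup.card_dvd_of_le hBA
  have hne : Nat.card B ≠ Nat.card (Subgroup.closure S) := by
    intro h
    have h1 := Subgroup.eq_of_le_of_card_ge hBA (le_of_eq h.symm)
    exact hxB (by rw [h1]; exact hxA)
  obtain ⟨k, hk⟩ := hdvd
  have hk1 : k ≠ 1 := by rintro rfl; exact hne (by rw [hk, mul_one])
  have hk0 : k ≠ 0 := by
    rintro rfl
    have := Nat.card_pos (α := Subgroup.closure S)
    omega
  have hk2 : 2 ≤ k := by omega
  rw [hk, mul_comm]
  exact Nat.mul_le_mul_left _ hk2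

theorem ESData.two_cases {E : Type*} [Group E] {z : E} (es : ESData 2 E z) (a : E)
    (ha : a ∈ Subgroup.zpowers z) : a = 1 ∨ a = z := by
  obtain ⟨k, rfl⟩ := Subgroup.mem_zpowers_iff.mp ha
  have h2 : z ^ (2 : ℤ) = 1 := by
    rw [show (2 : ℤ) = ((2 : ℕ) : ℤ) from rfl, zpow_natCast]; exact es.hzp
  rcases Int.emod_two_eq k with h | h
  · left
    rw [← Int.emod_add_mul_ediv k 2, zpow_add, zpow_mul, h2, one_zpow, mul_one, h, zpow_zero]
  · right
    rw [← Int.emod_add_mul_ediv k 2, zpow_add, zpow_mul, h2, one_zpow, mul_one, h, zpow_one]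

/-- a noncentral involution has a partner involution -/
theorem exists_invol_pair {E : Type*} [Group E] {z : E} (es : ESData 2 E z) (x : E)
    (hx : x ∉ Subgroup.center E) (hx2 : x ^ 2 = 1) : ∃ y : E, ⁅y, x⁆ = z ∧ y ^ 2 = 1 := by
  obtain ⟨y, hy⟩ := es.exists_comm_eq x hx
  rcases es.two_cases _ (es.hpow y) with h | h
  · exact ⟨y, hy, h⟩
  · refine ⟨x * y, ?_, ?_⟩
    · have h1 := map_mul (commHom es.hcc x) x y
      simp only [commHom_apply] at h1
      rw [h1, commutatorElement_self, one_mul, hy]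
    · have hrel := split_rel hy
      have hz2 : z * z = 1 := by rw [← sq]; exact es.hzp
      calc (x * y) ^ 2 = x * (y * x) * y := by rw [sq]; group
        _ = x * (z * x * y) * y := by rw [hrel]
        _ = (x * z) * x * (y * y) := by group
        _ = (z * x) * x * (y * y) := by rw [es.central x]
        _ = z * (x ^ 2) * (y ^ 2) := by rw [sq, sq]; group
        _ = 1 := by rw [hx2, h, mul_one, hz2]

theorem index_centralizer_le_two {E : Type*} [Group E] [Finite E] {z : E} (es : ESData 2 E z)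
    (x : E) : (Subgroup.centralizer {x}).index ≤ 2 := by
  have h1 := index_centralizer_singleton_le (Subgroup.zpowers z) x (fun g => by
    have := es.hcomm g x
    rwa [commutatorElement_def] at this)
  rwa [Nat.card_zpowers, es.orderOf_z] at h1

/-- groups of order more than `8` have a noncentral involution -/
theorem exists_noncentral_invol {E : Type*} [Group E] [Finite E] {z : E} (es : ESData 2 E z)
    (h8 : 8 < Nat.card E) : ∃ x : E, x ∉ Subgroup.center E ∧ x ^ 2 = 1 := by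
  obtain ⟨x, hx⟩ := es.exists_noncentral (by omega)
  rcases es.two_cases _ (es.hpow x) with h | h
  · exact ⟨x, hx, h⟩
  · have hidx := index_centralizer_le_two es x
    have hcard : 4 < Nat.card (Subgroup.centralizer {x}) := by
      have h1 := (Subgroup.centralizer {x}).card_mul_index
      nlinarith
    have hzx : Nat.card (Subgroup.zpowers x) ≤ 4 := by
      rw [Nat.card_zpowers]
      have h4 : x ^ 4 = 1 := by
        rw [show 4 = 2 * 2 from rfl, pow_mul, h]; exact es.hzp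
      exact Nat.le_of_dvd (by norm_num) (orderOf_dvd_of_pow_eq_one h4)
    have hnle : ¬ Subgroup.centralizer {x} ≤ Subgroup.zpowers x := fun hle => by
      have := Subgroup.card_le_of_le hle
      omega
    obtain ⟨y, hyC, hyx⟩ := SetLike.not_le_iff_exists.mp hnle
    have hxy : x * y = y * x := Subgroup.mem_centralizer_iff.mp hyC x rfl
    have hZx : Subgroup.center E ≤ Subgroup.zpowers x := by
      rw [es.hcen, Subgroup.zpowers_le, ← h]
      exact Subgroup.pow_mem _ (Subgroup.mem_zpowers x) 2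
    rcases es.two_cases _ (es.hpow y) with h' | h'
    · exact ⟨y, fun hc => hyx (hZx hc), h'⟩
    · refine ⟨x * y, fun hc => hyx ?_, ?_⟩
      · have h1 : y = x⁻¹ * (x * y) := by group
        rw [h1]
        exact mul_mem (inv_mem (Subgroup.mem_zpowers x)) (hZx hc)
      · calc (x * y) ^ 2 = x * (y * x) * y := by rw [sq]; group
          _ = x * (x * y) * y := by rw [hxy]
          _ = x ^ 2 * y ^ 2 := by rw [sq, sq]; group
          _ = 1 := by rw [h, h', ← sq]; exact es.hzp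

/-- `E` has a subgroup of exponent two of order at least `√(2|E|)` -/
def HasBigElemAb (E : Type*) [Group E] : Prop :=
  ∃ A : Subgroup E, (∀ a ∈ A, a ^ 2 = 1) ∧ 2 * Nat.card E ≤ Nat.card A ^ 2

theorem card_ge_eight {E : Type*} [Group E] [Finite E] {z : E} (es : ESData 2 E z)
    (hna : ∃ x : E, x ∉ Subgroup.center E) : 8 ≤ Nat.card E := by
  obtain ⟨x₀, hx₀⟩ := hna
  obtain ⟨y₀, hy₀⟩ := es.exists_comm_eq x₀ hx₀
  have hc := split_card es hy₀
  have hC2 : 2 ≤ Nat.card (Subgroup.centralizer {x₀, y₀}) := by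
    have h1 := (split_ES es hy₀).card_center
    have h2 := Subgroup.card_le_card_group
      (Subgroup.center (Subgroup.centralizer {x₀, y₀}))
    omega
  rw [hc]
  omega

theorem big_exists_noncentral {E : Type*} [Group E] [Finite E] {z : E} (es : ESData 2 E z)
    (hna : ∃ x : E, x ∉ Subgroup.center E) (A : Subgroup E)
    (hA : 2 * Nat.card E ≤ Nat.card A ^ 2) : ∃ x ∈ A, x ∉ Subgroup.center E := by
  have h8 := card_ge_eight es hna
  have hA4 : 2 < Nat.card A := by
    by_contra hlt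
    push Not at hlt
    have : Nat.card A ^ 2 ≤ 4 := by nlinarith
    omega
  by_contra hcon
  push Not at hcon
  have hle : A ≤ Subgroup.center E := fun a ha => hcon a ha
  have := Subgroup.card_le_of_le hle
  rw [es.card_center] at this
  omega

theorem big_down {E : Type*} [Group E] [Finite E] {z x y : E} (es : ESData 2 E z)
    (hxy : ⁅y, x⁆ = z) (A : Subgroup E) (hA2 : ∀ a ∈ A, a ^ 2 = 1)
    (hA : 2 * Nat.card E ≤ Nat.card A ^ 2) (hxA : x ∈ A) :
    HasBigElemAb (Subgroup.centralizer {x, y}) := by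
  let B : Subgroup E := A ⊓ Subgroup.centralizer {y}
  have hBC : B ≤ Subgroup.centralizer {x, y} := by
    intro b hb
    rw [Subgroup.mem_centralizer_iff]
    intro t ht
    rcases ht with rfl | rfl
    · exact comm_of_sq_one_aux t b (hA2 t hxA) (hA2 b hb.1) (hA2 _ (mul_mem hxA hb.1))
    · exact Subgroup.mem_centralizer_iff.mp hb.2 t rfl
  have hidx := index_centralizer_le_two es y
  have hrel : (Subgroup.centralizer {y}).relIndex A ≤ 2 := by
    have h1 := Subgroup.relIndex_le_of_le_right (H := Subgroup.centralizer {y})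
      (le_top : A ≤ ⊤) (by rw [Subgroup.relIndex_top_right]; exact Subgroup.index_ne_zero_of_finite)
    rw [Subgroup.relIndex_top_right] at h1
    exact h1.trans hidx
  have hcardA : Nat.card A = Nat.card B * (Subgroup.centralizer {y}).relIndex A :=
    card_eq_card_inf_mul_relIndex A (Subgroup.centralizer {y})
  have hAB : Nat.card A ≤ 2 * Nat.card B := by
    rw [hcardA, mul_comm 2]
    exact Nat.mul_le_mul_left _ hrel
  refine ⟨B.subgroupOf (Subgroup.centralizer {x, y}), ?_, ?_⟩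
  · intro a ha
    apply Subtype.ext
    rw [Subgroup.coe_pow]
    exact hA2 _ (Subgroup.mem_subgroupOf.mp ha).1
  · have h1 : Nat.card (B.subgroupOf (Subgroup.centralizer {x, y})) = Nat.card B :=
      Nat.card_congr (Subgroup.subgroupOfEquivOfLe hBC).toEquiv
    rw [h1]
    have hc := split_card es hxy
    have h2 : Nat.card A ^ 2 ≤ (2 * Nat.card B) ^ 2 := Nat.pow_le_pow_left hAB 2
    rw [hc] at hA
    nlinarith

theorem big_up {E : Type*} [Group E] [Finite E] {z x y : E} (es : ESData 2 E z)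
    (hxy : ⁅y, x⁆ = z) (hx2 : x ^ 2 = 1) (h : HasBigElemAb (Subgroup.centralizer {x, y})) :
    HasBigElemAb E := by
  obtain ⟨B, hB2, hB⟩ := h
  let B' : Subgroup E := B.map (Subgroup.centralizer {x, y}).subtype
  have hB'2 : ∀ b ∈ B', b ^ 2 = 1 := by
    rintro _ ⟨b, hb, rfl⟩
    have h1 := congrArg Subtype.val (hB2 b hb)
    rw [Subgroup.coe_pow] at h1
    exact h1
  have hcomm : ∀ b ∈ B', b * x = x * b := by
    rintro _ ⟨b, hb, rfl⟩
    exact (Subgroup.mem_centralizer_iff.mp b.2 x (by simp)).symm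
  have hxB : x ∉ B' := by
    rintro ⟨b, hb, hbx⟩
    have h1 : (b : E) ∈ Subgroup.centralizer {x, y} := b.2
    have hbx' : (b : E) = x := hbx
    rw [hbx'] at h1
    have h2 : y * x = x * y := Subgroup.mem_centralizer_iff.mp h1 y (by simp)
    have h3 : ⁅y, x⁆ = 1 := commutatorElement_eq_one_iff_commute.mpr h2
    exact es.hz1 (by rw [← hxy, h3])
  obtain ⟨A, hA2, hA⟩ := exp_two_adjoin B' hB'2 x hx2 hcomm hxB
  refine ⟨A, hA2, ?_⟩
  have h1 : Nat.card B' = Nat.card B :=
    Subgroup.card_map_of_injective (Subgroup.subtype_injective _)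
  have hc := split_card es hxy
  rw [h1] at hA
  have h2 : (2 * Nat.card B) ^ 2 ≤ Nat.card A ^ 2 := Nat.pow_le_pow_left hA 2
  rw [hc]
  nlinarith

theorem big_of_invol {E : Type*} [Group E] [Finite E] {z : E} (es : ESData 2 E z)
    (h8 : Nat.card E ≤ 8) (x : E) (hx : x ∉ Subgroup.center E) (hx2 : x ^ 2 = 1) :
    HasBigElemAb E := by
  obtain ⟨A, hA2, hA⟩ := exp_two_adjoin (Subgroup.zpowers z)
    (fun b hb => by
      rcases es.two_cases b hb with h | h
      · rw [h, one_pow]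
      · rw [h]; exact es.hzp) x hx2
    (fun b hb => by
      rcases es.two_cases b hb with h | h
      · rw [h, one_mul, mul_one]
      · rw [h]; exact (es.central x).symm)
    (by rw [← es.hcen]; exact hx)
  refine ⟨A, hA2, ?_⟩
  rw [Nat.card_zpowers, es.orderOf_z] at hA
  nlinarith

/-- two `2`-groups with centre `⟨z⟩` of order two containing all commutators and squares, of
the same order and the same type, are isomorphic -/
theorem es2_iso :
    ∀ (n : ℕ) (E₁ : Type u) (E₂ : Type v) [Group E₁] [Group E₂] [Finite E₁] [Finite E₂]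
      (z₁ : E₁) (z₂ : E₂), Nat.card E₁ = n → Nat.card E₂ = n → ESData 2 E₁ z₁ →
      ESData 2 E₂ z₂ → (∃ x : E₁, x ∉ Subgroup.center E₁) →
      (HasBigElemAb E₁ ↔ HasBigElemAb E₂) → ∃ φ : E₁ ≃* E₂, φ z₁ = z₂ := by
  intro n
  induction n using Nat.strong_induction_on with
  | _ n ih =>
  intro E₁ E₂ _ _ _ _ z₁ z₂ hn₁ hn₂ es₁ es₂ hna₁ hiff
  have hna₂ : ∃ x : E₂, x ∉ Subgroup.center E₂ :=
    es₂.exists_noncentral (by rw [hn₂, ← hn₁]; exact es₁.card_ne hna₁)
  have hcard : Nat.card E₁ = Nat.card E₂ := hn₁.trans hn₂.symm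
  -- the common inductive step, once suitable pairs of involutions are chosen
  have step : ∀ (x₁ y₁ : E₁) (x₂ y₂ : E₂), ⁅y₁, x₁⁆ = z₁ → ⁅y₂, x₂⁆ = z₂ →
      x₁ ^ 2 = 1 → y₁ ^ 2 = 1 → x₂ ^ 2 = 1 → y₂ ^ 2 = 1 →
      (HasBigElemAb (Subgroup.centralizer {x₁, y₁}) ↔
        HasBigElemAb (Subgroup.centralizer {x₂, y₂})) → ∃ φ : E₁ ≃* E₂, φ z₁ = z₂ := by
    intro x₁ y₁ x₂ y₂ hy₁ hy₂ hx₁2 hy₁2 hx₂2 hy₂2 hiffC
    apply es_step es₁ es₂ hcard hy₁ hy₂ 0 0 (by rw [hx₁2, pow_zero]) (by rw [hx₂2, pow_zero])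
      (by rw [hy₁2, pow_zero]) (by rw [hy₂2, pow_zero])
    by_cases hC : Nat.card (Subgroup.centralizer {x₁, y₁}) = 2
    · exact Or.inl hC
    · right
      have esC₁ := split_ES es₁ hy₁
      have esC₂ := split_ES es₂ hy₂
      have hc₁ := split_card es₁ hy₁
      have hc₂ := split_card es₂ hy₂
      have hcc : Nat.card (Subgroup.centralizer {x₁, y₁}) =
          Nat.card (Subgroup.centralizer {x₂, y₂}) := by
        rw [hc₁, hc₂] at hcard
        omega
      have hlt : Nat.card (Subgroup.centralizer {x₁, y₁}) < n := by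
        rw [← hn₁, hc₁]
        have h1 := Nat.card_pos (α := Subgroup.centralizer {x₁, y₁})
        omega
      exact ih _ hlt (Subgroup.centralizer {x₁, y₁}) (Subgroup.centralizer {x₂, y₂}) _ _ rfl
        hcc.symm esC₁ esC₂ (esC₁.exists_noncentral hC) hiffC
  by_cases hT : HasBigElemAb E₁
  · have hT₂ := hiff.mp hT
    obtain ⟨A₁, hA₁2, hA₁⟩ := hT
    obtain ⟨A₂, hA₂2, hA₂⟩ := hT₂
    obtain ⟨x₁, hx₁A, hx₁c⟩ := big_exists_noncentral es₁ hna₁ A₁ hA₁
    obtain ⟨x₂, hx₂A, hx₂c⟩ := big_exists_noncentral es₂ hna₂ A₂ hA₂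
    obtain ⟨y₁, hy₁, hy₁2⟩ := exists_invol_pair es₁ x₁ hx₁c (hA₁2 x₁ hx₁A)
    obtain ⟨y₂, hy₂, hy₂2⟩ := exists_invol_pair es₂ x₂ hx₂c (hA₂2 x₂ hx₂A)
    exact step x₁ y₁ x₂ y₂ hy₁ hy₂ (hA₁2 x₁ hx₁A) hy₁2 (hA₂2 x₂ hx₂A) hy₂2
      ⟨fun _ => big_down es₂ hy₂ A₂ hA₂2 hA₂ hx₂A, fun _ => big_down es₁ hy₁ A₁ hA₁2 hA₁ hx₁A⟩
  · have hT₂ : ¬ HasBigElemAb E₂ := fun h => hT (hiff.mpr h)
    by_cases h8 : n ≤ 8
    · -- quaternion type
      have hsq₁ : ∀ x : E₁, x ∉ Subgroup.center E₁ → x ^ 2 = z₁ := by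
        intro x hx
        rcases es₁.two_cases _ (es₁.hpow x) with h | h
        · exact absurd (big_of_invol es₁ (by rw [hn₁]; exact h8) x hx h) hT
        · exact h
      have hsq₂ : ∀ x : E₂, x ∉ Subgroup.center E₂ → x ^ 2 = z₂ := by
        intro x hx
        rcases es₂.two_cases _ (es₂.hpow x) with h | h
        · exact absurd (big_of_invol es₂ (by rw [hn₂]; exact h8) x hx h) hT₂
        · exact h
      obtain ⟨x₁, hx₁⟩ := hna₁
      obtain ⟨x₂, hx₂⟩ := hna₂
      obtain ⟨y₁, hy₁⟩ := es₁.exists_comm_eq x₁ hx₁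
      obtain ⟨y₂, hy₂⟩ := es₂.exists_comm_eq x₂ hx₂
      have hy₁c : y₁ ∉ Subgroup.center E₁ := by
        intro hc
        have h1 : ⁅y₁, x₁⁆ = 1 :=
          commutatorElement_eq_one_iff_commute.mpr (Subgroup.mem_center_iff.mp hc x₁).symm
        exact es₁.hz1 (by rw [← hy₁, h1])
      have hy₂c : y₂ ∉ Subgroup.center E₂ := by
        intro hc
        have h1 : ⁅y₂, x₂⁆ = 1 :=
          commutatorElement_eq_one_iff_commute.mpr (Subgroup.mem_center_iff.mp hc x₂).symm
        exact es₂.hz1 (by rw [← hy₂, h1])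
      apply es_step es₁ es₂ hcard hy₁ hy₂ 1 1 (by rw [hsq₁ x₁ hx₁, pow_one])
        (by rw [hsq₂ x₂ hx₂, pow_one]) (by rw [hsq₁ y₁ hy₁c, pow_one])
        (by rw [hsq₂ y₂ hy₂c, pow_one])
      left
      have hc₁ := split_card es₁ hy₁
      have h1 := (split_ES es₁ hy₁).card_center
      have h2 := Subgroup.card_le_card_group
        (Subgroup.center (Subgroup.centralizer {x₁, y₁}))
      rw [hn₁] at hc₁
      omega
    · -- dihedral step
      push Not at h8
      obtain ⟨x₁, hx₁c, hx₁2⟩ := exists_noncentral_invol es₁ (by rw [hn₁]; exact h8)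
      obtain ⟨x₂, hx₂c, hx₂2⟩ := exists_noncentral_invol es₂ (by rw [hn₂]; exact h8)
      obtain ⟨y₁, hy₁, hy₁2⟩ := exists_invol_pair es₁ x₁ hx₁c hx₁2
      obtain ⟨y₂, hy₂, hy₂2⟩ := exists_invol_pair es₂ x₂ hx₂c hx₂2
      exact step x₁ y₁ x₂ y₂ hy₁ hy₂ hx₁2 hy₁2 hx₂2 hy₂2
        ⟨fun h => absurd (big_up es₁ hy₁ hx₁2 h) hT, fun h => absurd (big_up es₂ hy₂ hx₂2 h) hT₂⟩

theorem esdata_two_of_extraspecial {E : Type*} [Group E] [Finite E]
    (h : Cfsg.IsExtraspecial 2 E) :
    (∃ z : E, ESData 2 E z) ∧ ∃ x : E, x ∉ Subgroup.center E := by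
  apply esdata_of_extraspecial h
  intro a
  rw [← h.1.2.1]
  exact (Cfsg.Agent.S0012.result 2 h.1.1).2 a

/-- among three extraspecial `2`-groups of the same order two are isomorphic -/
theorem extraspecial_two_three {E₁ : Type u} {E₂ : Type v} {E₃ : Type w} [Group E₁] [Group E₂]
    [Group E₃] [Finite E₁] [Finite E₂] [Finite E₃] (h₁ : Cfsg.IsExtraspecial 2 E₁)
    (h₂ : Cfsg.IsExtraspecial 2 E₂) (h₃ : Cfsg.IsExtraspecial 2 E₃)
    (h12 : Nat.card E₁ = Nat.card E₂) (h23 : Nat.card E₂ = Nat.card E₃) :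
    Nonempty (E₁ ≃* E₂) ∨ Nonempty (E₂ ≃* E₃) ∨ Nonempty (E₁ ≃* E₃) := by
  obtain ⟨⟨z₁, es₁⟩, hna₁⟩ := esdata_two_of_extraspecial h₁
  obtain ⟨⟨z₂, es₂⟩, hna₂⟩ := esdata_two_of_extraspecial h₂
  obtain ⟨⟨z₃, es₃⟩, -⟩ := esdata_two_of_extraspecial h₃
  by_cases t12 : (HasBigElemAb E₁ ↔ HasBigElemAb E₂)
  · left
    obtain ⟨φ, -⟩ := es2_iso _ E₁ E₂ z₁ z₂ rfl h12.symm es₁ es₂ hna₁ t12
    exact ⟨φ⟩
  · by_cases t23 : (HasBigElemAb E₂ ↔ HasBigElemAb E₃)
    · right; left
      obtain ⟨φ, -⟩ := es2_iso _ E₂ E₃ z₂ z₃ rfl h23.symm es₂ es₃ hna₂ t23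
      exact ⟨φ⟩
    · right; right
      have t13 : (HasBigElemAb E₁ ↔ HasBigElemAb E₃) := by tauto
      obtain ⟨φ, -⟩ := es2_iso _ E₁ E₃ z₁ z₃ rfl (h12.trans h23).symm es₁ es₃ hna₁ t13
      exact ⟨φ⟩

end Cfsg.Agent.Helper1
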