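import Mathlib
import Cfsg.Agent.S0033
import Cfsg.Agent.S0040
import Cfsg.Agent.S0041
import Cfsg.Agent.Helper1.ZCenter

set_option autoImplicit false

namespace Cfsg.Agent.Helper1

/-- a Frobenius complement has nontrivial centre -/
theorem center_ne_bot_of_fpf {G : Type*} [Group G] [Finite G] (K H : Subgroup G) [hKn : K.Normal]
    (hc : Subgroup.IsComplement' K H) (hK : K ≠ ⊥) (hH : H ≠ ⊥)
    (hfpf : ∀ h ∈ H, h ≠ 1 → K ⊓ Subgroup.centralizer {h} = ⊥) :
    Subgroup.center H ≠ ⊥ := by
  -- `K` is nilpotent
  obtain ⟨h₀, hh₀H, hh₀p⟩ := exists_prime_orderOf_mem H hH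
  have hh₀1 : h₀ ≠ 1 := by
    rintro rfl
    rw [orderOf_one] at hh₀p
    exact Nat.not_prime_one hh₀p
  have hKnil : Group.IsNilpotent K := by
    refine Cfsg.Agent.S0033.thompson_pow (MulAut.conjNormal h₀ : K ≃* K) ?_ (orderOf h₀) hh₀p ?_
    · intro n hn
      have hn' : h₀ * (n : G) * h₀⁻¹ = n := by
        have := congrArg Subtype.val hn
        rwa [MulAut.conjNormal_apply] at this
      have h2 : (n : G) ∈ K ⊓ Subgroup.centralizer {h₀} := by
        refine Subgroup.mem_inf.mpr ⟨n.2, Subgroup.mem_centralizer_singleton_iff.mpr ?_⟩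
        calc (n : G) * h₀ = (h₀ * (n : G) * h₀⁻¹) * h₀ := by rw [hn']
          _ = h₀ * n := by group
      rw [hfpf h₀ hh₀H hh₀1, Subgroup.mem_bot] at h2
      exact Subtype.ext h2
    · rw [← map_pow, pow_orderOf_eq_one, map_one]
  have hKnt : Nontrivial K := (Subgroup.nontrivial_iff_ne_bot K).mpr hK
  -- the abelian normal subgroup `V = Z(K)`
  have hVn : ((Subgroup.center K).map K.subtype).Normal :=
    ConjAct.normal_of_characteristic_of_normal
  have hVbot : (Subgroup.center K).map K.subtype ≠ ⊥ := by
    intro h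
    apply Group.IsNilpotent.center_ne_bot (G := K)
    rw [← (Subgroup.map_eq_bot_iff_of_injective _ (Subgroup.subtype_injective K))]
    exact h
  have hVK : (Subgroup.center K).map K.subtype ≤ K := Subgroup.map_subtype_le _
  have hVcomm : ∀ u ∈ (Subgroup.center K).map K.subtype, ∀ v ∈ (Subgroup.center K).map K.subtype,
      u * v = v * u := by
    rintro _ ⟨u, hu, rfl⟩ _ ⟨v, hv, rfl⟩
    have := Subgroup.mem_center_iff.mp hu v
    rw [← map_mul, ← map_mul, this]
  haveI hVc : IsMulCommutative ((Subgroup.center K).map K.subtype) :=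
    ⟨⟨fun a b => Subtype.ext (hVcomm a a.2 b b.2)⟩⟩
  have hVfpf : ∀ a ∈ H, a ≠ 1 →
      (Subgroup.center K).map K.subtype ⊓ Subgroup.centralizer {a} = ⊥ := by
    intro a ha ha1
    rw [eq_bot_iff, ← hfpf a ha ha1]
    exact inf_le_inf_right _ hVK
  -- subgroups of `H` of order `pq` are cyclic
  have hpqG : ∀ D : Subgroup G, D ≤ H → (∃ p q : ℕ, p.Prime ∧ q.Prime ∧ Nat.card D = p * q) →
      IsCyclic D := by
    intro D hD hpq
    refine Cfsg.Agent.S0041.result D ((Subgroup.center K).map K.subtype) hVbot ?_ ?_ (Or.inr hpq)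
    · rw [Subgroup.normalizer_eq_top]; exact le_top
    · intro a ha ha1
      exact hVfpf a (hD ha) ha1
  by_cases hinv : ∃ t ∈ H, orderOf t = 2
  · -- an involution inverts `V`, hence is unique and central
    obtain ⟨t, htH, ht2⟩ := hinv
    have hinvert : ∀ s ∈ H, orderOf s = 2 → ∀ v ∈ (Subgroup.center K).map K.subtype,
        s * v * s⁻¹ = v⁻¹ := by
      intro s hsH hs2 v hv
      have hs1 : s ≠ 1 := by
        rintro rfl
        rw [orderOf_one] at hs2
        omega
      have hss : s * s = 1 := by
        have := pow_orderOf_eq_one s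
        rwa [hs2, pow_two] at this
      have hsinv : s⁻¹ = s := inv_eq_of_mul_eq_one_left hss
      have hsv : s * v * s⁻¹ ∈ (Subgroup.center K).map K.subtype := hVn.conj_mem v hv s
      have hw : v * (s * v * s⁻¹) ∈
          (Subgroup.center K).map K.subtype ⊓ Subgroup.centralizer {s} := by
        refine Subgroup.mem_inf.mpr ⟨Subgroup.mul_mem _ hv hsv,
          Subgroup.mem_centralizer_singleton_iff.mpr ?_⟩
        have h1 := hVcomm _ hv _ hsv
        calc v * (s * v * s⁻¹) * s = (s * v * s⁻¹) * v * s := by rw [h1]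
          _ = s * v * (s * v * s) := by rw [hsinv]; group
          _ = s * (v * (s * v * s⁻¹)) := by rw [hsinv]; group
      rw [hVfpf s hsH hs1, Subgroup.mem_bot] at hw
      exact (eq_inv_of_mul_eq_one_right hw)
    have huniq : ∀ s ∈ H, orderOf s = 2 → s = t := by
      intro s hsH hs2
      have hts : t * s ∈ H := H.mul_mem htH hsH
      have hcent : (Subgroup.center K).map K.subtype ≤ Subgroup.centralizer {t * s} := by
        intro v hv
        rw [Subgroup.mem_centralizer_singleton_iff]
        have h1 := hinvert s hsH hs2 v hv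
        have h2 := hinvert t htH ht2 v⁻¹ (Subgroup.inv_mem _ hv)
        rw [inv_inv] at h2
        calc v * (t * s) = (t * (s * v * s⁻¹) * t⁻¹) * (t * s) := by rw [h1, h2]
          _ = t * s * v := by group
      by_contra hne
      have hts1 : t * s ≠ 1 := by
        intro h1
        apply hne
        have htt : t * t = 1 := by
          have := pow_orderOf_eq_one t
          rwa [ht2, pow_two] at this
        calc s = (t * t) * s := by rw [htt, one_mul]
          _ = t * (t * s) := mul_assoc _ _ _
          _ = t := by rw [h1, mul_one]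
      apply hVbot
      rw [eq_bot_iff, ← hVfpf (t * s) hts hts1]
      exact le_inf le_rfl hcent
    intro hcen
    have htc : (⟨t, htH⟩ : H) ∈ Subgroup.center H := by
      rw [Subgroup.mem_center_iff]
      intro g
      have h1 : orderOf ((g : G) * t * (g : G)⁻¹) = 2 := by
        rw [← ht2]; exact (MulAut.conj (g : G)).orderOf_eq t
      have h2 := huniq _ (H.mul_mem (H.mul_mem g.2 htH) (H.inv_mem g.2)) h1
      apply Subtype.ext
      show (g : G) * t = t * (g : G)
      calc (g : G) * t = ((g : G) * t * (g : G)⁻¹) * g := by group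
        _ = t * g := by rw [h2]
    rw [hcen, Subgroup.mem_bot] at htc
    have : t = 1 := congrArg Subtype.val htc
    rw [this, orderOf_one] at ht2
    omega
  · -- odd order: `H` is a Z-group
    have hZ : IsZGroup H := by
      constructor
      intro p hp P
      haveI : Fact p.Prime := ⟨hp⟩
      rcases Cfsg.Agent.S0040.result K H hc hK hfpf p P with h | ⟨n, ⟨e⟩⟩
      · exact h
      · exfalso
        apply hinv
        have h1 : Nat.card (P : Subgroup H) = 4 * 2 ^ n := by
          rw [Nat.card_congr e.toEquiv, Nat.card_eq_fintype_card, QuaternionGroup.card]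
        have h2 : 2 ∣ Nat.card H := by
          have h3 : Nat.card (P : Subgroup H) ∣ Nat.card H := Subgroup.card_subgroup_dvd_card _
          rw [h1] at h3
          exact dvd_trans (Dvd.intro (2 * 2 ^ n) (by ring)) h3
        obtain ⟨t, ht⟩ := exists_prime_orderOf_dvd_card' (G := H) 2 h2
        exact ⟨(t : G), t.2, by rw [Subgroup.orderOf_coe]; exact ht⟩
    have hHnt : Nontrivial H := (Subgroup.nontrivial_iff_ne_bot H).mpr hH
    apply center_ne_bot_of_isZGroup
    intro D hpq u hu v hv
    have hcard : Nat.card (D.map H.subtype) = Nat.card D :=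
      Subgroup.card_map_of_injective (Subgroup.subtype_injective H)
    have hcyc : IsCyclic (D.map H.subtype) := by
      apply hpqG _ (Subgroup.map_subtype_le _)
      obtain ⟨p, q, hp, hq, hpq'⟩ := hpq
      exact ⟨p, q, hp, hq, by rw [hcard, hpq']⟩
    obtain ⟨g, hg⟩ := hcyc.exists_generator
    obtain ⟨i, hi⟩ := hg ⟨(u : G), ⟨u, hu, rfl⟩⟩
    obtain ⟨j, hj⟩ := hg ⟨(v : G), ⟨v, hv, rfl⟩⟩
    have hi' : (g : G) ^ i = u := by
      have := congrArg (Subtype.val) hi
      simpa using this
    have hj' : (g : G) ^ j = v := by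
      have := congrArg (Subtype.val) hj
      simpa using this
    apply Subtype.ext
    show (u : G) * (v : G) = (v : G) * (u : G)
    rw [← hi', ← hj', ← zpow_add, ← zpow_add, add_comm]

end Cfsg.Agent.Helper1
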