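import Mathlib

set_option autoImplicit false

/-!
Helper library (seat helper1): recognising `SL(2,3)` as the group of order at least `24`
generated by `a, g` subject to the relations of `Q₈ ⋊ C₃`.
-/

namespace Cfsg.Agent.Helper1

/-- in a finite group, a set containing `1` and stable under left multiplication by the
generators contains the generated subgroup -/
theorem closure_subset_of_left_mul {E : Type*} [Group E] [Finite E] (s S : Set E)
    (h1 : (1 : E) ∈ S) (hmul : ∀ y ∈ s, ∀ t ∈ S, y * t ∈ S) :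
    ∀ t ∈ Subgroup.closure s, t ∈ S := by
  have hpow : ∀ y ∈ s, ∀ n : ℕ, ∀ t ∈ S, y ^ n * t ∈ S := by
    intro y hy n
    induction n with
    | zero => intro t ht; simpa using ht
    | succ n ih =>
      intro t ht
      rw [pow_succ, mul_assoc]
      exact ih _ (hmul y hy t ht)
  intro t ht
  refine Subgroup.closure_induction_left (p := fun t _ => t ∈ S) h1 ?_ ?_ ht
  · intro y hy t _ ht
    exact hmul y hy t ht
  · intro y hy t _ ht
    have h2 : 0 < orderOf y := orderOf_pos y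
    have h3 : y⁻¹ = y ^ (orderOf y - 1) := by
      apply inv_eq_of_mul_eq_one_left
      rw [← pow_succ, Nat.sub_add_cancel h2, pow_orderOf_eq_one]
    rw [h3]
    exact hpow y hy _ t ht

/-- normal form after adjoining to `H` an element `x` normalising `H` with `x ^ n ∈ H` -/
theorem mem_adjoin_nf {E : Type*} [Group E] [Finite E] (H : Subgroup E) (x : E) (n : ℕ)
    (hn : 0 < n) (hnorm : ∀ h ∈ H, x * h * x⁻¹ ∈ H) (hx : x ^ n ∈ H) :
    ∀ t ∈ Subgroup.closure (insert x (H : Set E)), ∃ h ∈ H, ∃ k < n, t = h * x ^ k := by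
  apply closure_subset_of_left_mul (insert x (H : Set E)) {t | ∃ h ∈ H, ∃ k < n, t = h * x ^ k}
  · exact ⟨1, one_mem _, 0, hn, by simp⟩
  · rintro y hy t ⟨h, hh, k, hk, rfl⟩
    rcases hy with hyx | hy
    · rw [hyx]
      by_cases hk' : k + 1 < n
      · refine ⟨x * h * x⁻¹, hnorm h hh, k + 1, hk', ?_⟩
        rw [pow_succ']; group
      · have hkn : k + 1 = n := by omega
        refine ⟨x * h * x⁻¹ * x ^ (k + 1), mul_mem (hnorm h hh) (by rw [hkn]; exact hx), 0, hn, ?_⟩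
        rw [pow_succ']; group
    · exact ⟨y * h, mul_mem hy hh, k, hk, by rw [mul_assoc]⟩

theorem ncard_le_of_subset_range {E ι : Type*} [Finite ι] (L : Set E) (f : ι → E)
    (h : L ⊆ Set.range f) : L.ncard ≤ Nat.card ι := by
  have h3 : (Set.range f).ncard ≤ Nat.card ι := by
    rw [← Set.image_univ]
    calc (f '' Set.univ).ncard ≤ (Set.univ : Set ι).ncard := Set.ncard_image_le (Set.toFinite _)
      _ = Nat.card ι := Set.ncard_univ _
  exact (Set.ncard_le_ncard h (Set.toFinite _)).trans h3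

/-- adjoining to `H` an element `x` normalising `H` with `x ^ n ∈ H` multiplies the order by at
most `n` -/
theorem card_adjoin_le {E : Type*} [Group E] [Finite E] (H : Subgroup E) (x : E) (n : ℕ)
    (hn : 0 < n) (hnorm : ∀ h ∈ H, x * h * x⁻¹ ∈ H) (hx : x ^ n ∈ H) :
    Nat.card (Subgroup.closure (insert x (H : Set E))) ≤ Nat.card H * n := by
  let f : H × Fin n → E := fun t => (t.1 : E) * x ^ (t.2 : ℕ)
  have h1 : ((Subgroup.closure (insert x (H : Set E)) : Subgroup E) : Set E) ⊆ Set.range f := by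
    intro t ht
    obtain ⟨h, hh, k, hk, rfl⟩ := mem_adjoin_nf H x n hn hnorm hx t ht
    exact ⟨(⟨h, hh⟩, ⟨k, hk⟩), rfl⟩
  have h2 := ncard_le_of_subset_range _ f h1
  have h4 : Nat.card (H × Fin n) = Nat.card H * n := by
    rw [Nat.card_prod, Nat.card_fin]
  calc Nat.card (Subgroup.closure (insert x (H : Set E)))
      = ((Subgroup.closure (insert x (H : Set E)) : Subgroup E) : Set E).ncard := rfl
    _ ≤ Nat.card (H × Fin n) := h2
    _ = Nat.card H * n := h4

/-- the relations of `Q₈ ⋊ C₃ ≅ SL(2,3)` -/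
structure Q8C3 {X : Type*} [Group X] (a b g : X) : Prop where
  r1 : a ^ 4 = 1
  r2 : b ^ 2 = a ^ 2
  r3 : b * a = a ^ 3 * b
  r4 : g * a = b * g
  r5 : g * b = b * a * g
  r6 : g ^ 3 = 1

theorem Q8C3.prod {X Y : Type*} [Group X] [Group Y] {a b g : X} {a' b' g' : Y}
    (h : Q8C3 a b g) (h' : Q8C3 a' b' g') : Q8C3 (a, a') (b, b') (g, g') where
  r1 := Prod.ext h.r1 h'.r1
  r2 := Prod.ext h.r2 h'.r2
  r3 := Prod.ext h.r3 h'.r3
  r4 := Prod.ext h.r4 h'.r4
  r5 := Prod.ext h.r5 h'.r5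
  r6 := Prod.ext h.r6 h'.r6

/-- a group generated by `a, g` subject to the relations has at most `24` elements -/
theorem Q8C3.card_le {X : Type*} [Group X] [Finite X] {a b g : X} (h : Q8C3 a b g) :
    Nat.card (Subgroup.closure {a, g}) ≤ 24 := by
  have hZ : Nat.card (Subgroup.zpowers a) ≤ 4 := by
    rw [Nat.card_zpowers]
    exact Nat.le_of_dvd (by norm_num) (orderOf_dvd_of_pow_eq_one h.r1)
  have hba : b * a * b⁻¹ = a ^ 3 := by rw [h.r3]; group
  have hnZ : ∀ u ∈ Subgroup.zpowers a, b * u * b⁻¹ ∈ Subgroup.zpowers a := by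
    intro u hu
    obtain ⟨i, rfl⟩ := Subgroup.mem_zpowers_iff.mp hu
    rw [← conj_zpow, hba]
    exact zpow_mem (pow_mem (Subgroup.mem_zpowers a) 3) i
  have hb2 : b ^ 2 ∈ Subgroup.zpowers a := by
    rw [h.r2]; exact pow_mem (Subgroup.mem_zpowers a) 2
  obtain ⟨Q, hQ⟩ : ∃ Q : Subgroup X,
      Q = Subgroup.closure (insert b ((Subgroup.zpowers a : Subgroup X) : Set X)) := ⟨_, rfl⟩
  have hQc : Nat.card Q ≤ 8 := by
    have h5 := card_adjoin_le (Subgroup.zpowers a) b 2 (by norm_num) hnZ hb2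
    rw [← hQ] at h5
    calc Nat.card Q ≤ Nat.card (Subgroup.zpowers a) * 2 := h5
      _ ≤ 4 * 2 := Nat.mul_le_mul_right 2 hZ
  have haQ : a ∈ Q := by
    rw [hQ]; exact Subgroup.subset_closure (Set.mem_insert_of_mem _ (Subgroup.mem_zpowers a))
  have hbQ : b ∈ Q := by rw [hQ]; exact Subgroup.subset_closure (Set.mem_insert _ _)
  have hga : g * a * g⁻¹ = b := by rw [h.r4]; group
  have hgb : g * b * g⁻¹ = b * a := by rw [h.r5]; group
  have hnQ : ∀ u ∈ Q, g * u * g⁻¹ ∈ Q := by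
    intro u hu
    rw [hQ] at hu
    refine Subgroup.closure_induction (p := fun t _ => g * t * g⁻¹ ∈ Q) ?_ ?_ ?_ ?_ hu
    · intro t ht
      rcases ht with ht | ht
      · rw [ht, hgb]; exact mul_mem hbQ haQ
      · obtain ⟨i, rfl⟩ := Subgroup.mem_zpowers_iff.mp ht
        rw [← conj_zpow, hga]
        exact zpow_mem hbQ i
    · simp
    · intro s t _ _ hs ht
      have e : g * (s * t) * g⁻¹ = (g * s * g⁻¹) * (g * t * g⁻¹) := by group
      rw [e]; exact mul_mem hs ht
    · intro s _ hs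
      have e : g * s⁻¹ * g⁻¹ = (g * s * g⁻¹)⁻¹ := by group
      rw [e]; exact inv_mem hs
  have hg3 : g ^ 3 ∈ Q := by rw [h.r6]; exact one_mem _
  have hLc := card_adjoin_le Q g 3 (by norm_num) hnQ hg3
  have hle : Subgroup.closure {a, g} ≤ Subgroup.closure (insert g (Q : Set X)) := by
    rw [Subgroup.closure_le]
    intro t ht
    rcases ht with ht | ht
    · rw [ht]; exact Subgroup.subset_closure (Set.mem_insert_of_mem _ haQ)
    · rw [Set.mem_singleton_iff.mp ht]; exact Subgroup.subset_closure (Set.mem_insert _ _)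
  calc Nat.card (Subgroup.closure {a, g})
      ≤ Nat.card (Subgroup.closure (insert g (Q : Set X))) := Subgroup.card_le_of_le hle
    _ ≤ Nat.card Q * 3 := hLc
    _ ≤ 8 * 3 := Nat.mul_le_mul_right 3 hQc

/-- two groups of order at least `24` generated by `a, g` subject to the relations are
isomorphic -/
theorem Q8C3.iso {X₁ X₂ : Type*} [Group X₁] [Group X₂] [Finite X₁] [Finite X₂]
    {a₁ b₁ g₁ : X₁} {a₂ b₂ g₂ : X₂} (h₁ : Q8C3 a₁ b₁ g₁) (h₂ : Q8C3 a₂ b₂ g₂)
    (hgen₁ : Subgroup.closure {a₁, g₁} = ⊤) (hgen₂ : Subgroup.closure {a₂, g₂} = ⊤)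
    (hcard₁ : 24 ≤ Nat.card X₁) (hcard₂ : 24 ≤ Nat.card X₂) : Nonempty (X₁ ≃* X₂) := by
  obtain ⟨Γ, hΓ⟩ : ∃ Γ : Subgroup (X₁ × X₂), Γ = Subgroup.closure {(a₁, a₂), (g₁, g₂)} :=
    ⟨_, rfl⟩
  have hΓcard : Nat.card Γ ≤ 24 := by rw [hΓ]; exact (h₁.prod h₂).card_le
  let π₁ : Γ →* X₁ := (MonoidHom.fst X₁ X₂).comp Γ.subtype
  let π₂ : Γ →* X₂ := (MonoidHom.snd X₁ X₂).comp Γ.subtype
  have hx : ((a₁, a₂) : X₁ × X₂) ∈ Γ := by rw [hΓ]; exact Subgroup.subset_closure (by simp)
  have hy : ((g₁, g₂) : X₁ × X₂) ∈ Γ := by rw [hΓ]; exact Subgroup.subset_closure (by simp)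
  have hs₁ : Function.Surjective π₁ := by
    rw [← MonoidHom.range_eq_top, eq_top_iff, ← hgen₁, Subgroup.closure_le]
    rintro e (rfl | rfl)
    · exact ⟨⟨_, hx⟩, rfl⟩
    · exact ⟨⟨_, hy⟩, rfl⟩
  have hs₂ : Function.Surjective π₂ := by
    rw [← MonoidHom.range_eq_top, eq_top_iff, ← hgen₂, Subgroup.closure_le]
    rintro e (rfl | rfl)
    · exact ⟨⟨_, hx⟩, rfl⟩
    · exact ⟨⟨_, hy⟩, rfl⟩
  have hb₁ : Function.Bijective π₁ := hs₁.bijective_of_nat_card_le (hΓcard.trans hcard₁)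
  have hb₂ : Function.Bijective π₂ := hs₂.bijective_of_nat_card_le (hΓcard.trans hcard₂)
  exact ⟨(MulEquiv.ofBijective π₁ hb₁).symm.trans (MulEquiv.ofBijective π₂ hb₂)⟩

/-- generators of `SL(2,3)` -/
def sl23A : Matrix.SpecialLinearGroup (Fin 2) (ZMod 3) := ⟨!![0, 1; 2, 0], by decide⟩

/-- generators of `SL(2,3)` -/
def sl23G : Matrix.SpecialLinearGroup (Fin 2) (ZMod 3) := ⟨!![1, 1; 0, 1], by decide⟩

/-- generators of `SL(2,3)` -/
def sl23B : Matrix.SpecialLinearGroup (Fin 2) (ZMod 3) := ⟨!![2, 2; 2, 1], by decide⟩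

theorem sl23_rel : Q8C3 sl23A sl23B sl23G where
  r1 := by decide
  r2 := by decide
  r3 := by decide
  r4 := by decide
  r5 := by decide
  r6 := by decide

set_option maxRecDepth 100000 in
theorem sl23_gen_aux : ∀ M : Matrix.SpecialLinearGroup (Fin 2) (ZMod 3),
    ∃ i : Fin 4, ∃ j : Fin 2, ∃ k : Fin 3,
      M = sl23A ^ (i : ℕ) * sl23B ^ (j : ℕ) * sl23G ^ (k : ℕ) := by decide

theorem sl23_gen : Subgroup.closure {sl23A, sl23G} = ⊤ := by
  rw [eq_top_iff]
  intro M _
  obtain ⟨i, j, k, rfl⟩ := sl23_gen_aux M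
  have hA : sl23A ∈ Subgroup.closure {sl23A, sl23G} := Subgroup.subset_closure (by simp)
  have hG : sl23G ∈ Subgroup.closure {sl23A, sl23G} := Subgroup.subset_closure (by simp)
  have hB : sl23B ∈ Subgroup.closure {sl23A, sl23G} := by
    have e : sl23B = sl23G * sl23A * sl23G⁻¹ := by rw [sl23_rel.r4]; group
    rw [e]; exact mul_mem (mul_mem hG hA) (inv_mem hG)
  exact mul_mem (mul_mem (pow_mem hA _) (pow_mem hB _)) (pow_mem hG _)

set_option maxRecDepth 100000 in
theorem sl23_card : Nat.card (Matrix.SpecialLinearGroup (Fin 2) (ZMod 3)) = 24 := by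
  rw [Nat.card_eq_fintype_card]; decide

/-- a group of order at least `24` generated by `a, g` subject to the relations is `SL(2,3)` -/
theorem Q8C3.sl23 {X : Type*} [Group X] [Finite X] {a b g : X} (h : Q8C3 a b g)
    (hgen : Subgroup.closure {a, g} = ⊤) (hcard : 24 ≤ Nat.card X) :
    Nonempty (X ≃* Matrix.SpecialLinearGroup (Fin 2) (ZMod 3)) :=
  h.iso sl23_rel hgen sl23_gen hcard sl23_card.ge

end Cfsg.Agent.Helper1
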