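import Mathlib

/-!
Helper library (seat helper1): a finite subgroup of odd order of `GL(2, F)` (char `F ≠ 2`)
cannot contain both an upper and a lower non-trivial unitriangular matrix.  As a consequence an
irreducible subgroup of odd order of `GL(2, F)`, `F` of odd characteristic `p`, is a `p'`-group.
-/

set_option autoImplicit false

namespace Cfsg.Agent.Helper1.GL2Odd

open Matrix

/-- in a group of odd order normalized by an involution `d`, every element is `c * i` with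
`c` centralized and `i` inverted by `d` -/
theorem odd_decomp {G : Type*} [Group G] (G₀ : Subgroup G) [Finite G₀]
    (hodd : Odd (Nat.card G₀)) (d : G) (hd : d * d = 1) (hinv : ∀ g ∈ G₀, d * g * d⁻¹ ∈ G₀)
    (g : G) (hg : g ∈ G₀) :
    ∃ i ∈ G₀, d * i * d⁻¹ = i⁻¹ ∧ d * (g * i⁻¹) * d⁻¹ = g * i⁻¹ := by
  obtain ⟨k, hk⟩ := hodd
  obtain ⟨w, hw⟩ : ∃ w, w = (d * g * d⁻¹)⁻¹ * g := ⟨_, rfl⟩
  have hwG : w ∈ G₀ := by
    rw [hw]; exact G₀.mul_mem (G₀.inv_mem (hinv g hg)) hg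
  have hwm : w ^ (2 * k + 1) = 1 := by
    have h1 := pow_card_eq_one' (G := G₀) (x := ⟨w, hwG⟩)
    rw [hk] at h1
    exact congrArg Subtype.val h1
  have hdinv : d⁻¹ = d := inv_eq_of_mul_eq_one_left hd
  have hdw : d * w * d⁻¹ = w⁻¹ := by
    have e1 : d * w * d⁻¹ = (d * d) * g⁻¹ * (d * g * d) := by
      rw [hw, hdinv, _root_.mul_inv_rev, _root_.mul_inv_rev, hdinv]; simp only [mul_assoc]
    have e2 : w⁻¹ = g⁻¹ * (d * g * d) := by
      rw [hw, hdinv, _root_.mul_inv_rev, inv_inv]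
    rw [e1, e2, hd, one_mul]
  obtain ⟨i, hi⟩ : ∃ i, i = w ^ (k + 1) := ⟨_, rfl⟩
  have hiG : i ∈ G₀ := by rw [hi]; exact G₀.pow_mem hwG _
  have hi2 : i * i = w := by
    rw [hi, ← pow_add, show k + 1 + (k + 1) = (2 * k + 1) + 1 by ring, pow_succ, hwm, one_mul]
  have hdi : d * i * d⁻¹ = i⁻¹ := by
    rw [hi, ← conj_pow, hdw, inv_pow]
  refine ⟨i, hiG, hdi, ?_⟩
  have h1 : d * i⁻¹ * d⁻¹ = i := by
    have e : d * i⁻¹ * d⁻¹ = (d * i * d⁻¹)⁻¹ := by group
    rw [e, hdi, inv_inv]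
  have h2 : d * g * d⁻¹ * w = g := by rw [hw]; group
  calc d * (g * i⁻¹) * d⁻¹ = (d * g * d⁻¹) * (d * i⁻¹ * d⁻¹) := by group
    _ = (d * g * d⁻¹) * i := by rw [h1]
    _ = (d * g * d⁻¹) * (i * i) * i⁻¹ := by group
    _ = g * i⁻¹ := by rw [hi2, h2]

/-- in a group of odd order, an element of order dividing `4` is trivial -/
theorem eq_one_of_pow_four {G : Type*} [Group G] (G₀ : Subgroup G) [Finite G₀]
    (hodd : Odd (Nat.card G₀)) (g : G) (hg : g ∈ G₀) (h4 : g ^ 4 = 1) : g = 1 := by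
  obtain ⟨k, hk⟩ := hodd
  have h1 := pow_card_eq_one' (G := G₀) (x := ⟨g, hg⟩)
  rw [hk] at h1
  have h2 : g ^ (2 * k + 1) = 1 := congrArg Subtype.val h1
  have h3 : orderOf g ∣ 4 := orderOf_dvd_of_pow_eq_one h4
  have h4' : orderOf g ∣ 2 * k + 1 := orderOf_dvd_of_pow_eq_one h2
  have h5 : orderOf g ∣ Nat.gcd 4 (2 * k + 1) := Nat.dvd_gcd h3 h4'
  have h6 : Nat.gcd 4 (2 * k + 1) = 1 := by
    have : Nat.Coprime 4 (2 * k + 1) := by
      have h2' : Nat.Coprime 2 (2 * k + 1) := by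
        rw [Nat.coprime_comm, Nat.coprime_two_right]
        exact ⟨k, rfl⟩
      exact Nat.Coprime.pow_left 2 h2'
    exact this
  rw [h6, Nat.dvd_one] at h5
  exact orderOf_eq_one_iff.mp h5

variable {F : Type*} [Field F]

/-- upper unitriangular matrices -/
def up (r : F) : GL (Fin 2) F :=
  ⟨!![1, r; 0, 1], !![1, -r; 0, 1], by simp [Matrix.one_fin_two],
    by simp [Matrix.one_fin_two]⟩

/-- lower unitriangular matrices -/
def lo (r : F) : GL (Fin 2) F :=
  ⟨!![1, 0; r, 1], !![1, 0; -r, 1], by simp [Matrix.one_fin_two],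
    by simp [Matrix.one_fin_two]⟩

/-- the reflection `diag(1, -1)` -/
def dg : GL (Fin 2) F :=
  ⟨!![1, 0; 0, -1], !![1, 0; 0, -1], by simp [Matrix.one_fin_two],
    by simp [Matrix.one_fin_two]⟩

theorem up_val (r : F) : ((up r : GL (Fin 2) F) : Matrix (Fin 2) (Fin 2) F) = !![1, r; 0, 1] := rfl
theorem lo_val (r : F) : ((lo r : GL (Fin 2) F) : Matrix (Fin 2) (Fin 2) F) = !![1, 0; r, 1] := rfl
theorem dg_val : ((dg : GL (Fin 2) F) : Matrix (Fin 2) (Fin 2) F) = !![1, 0; 0, -1] := rfl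

theorem up_mul (r s : F) : up r * up s = up (r + s) := by
  apply Units.ext
  rw [Units.val_mul, up_val, up_val, up_val, Matrix.mul_fin_two]
  simp [add_comm]

theorem lo_mul (r s : F) : lo r * lo s = lo (r + s) := by
  apply Units.ext
  rw [Units.val_mul, lo_val, lo_val, lo_val, Matrix.mul_fin_two]
  simp [add_comm]

theorem up_inv (r : F) : (up r)⁻¹ = up (-r) := by
  apply Units.ext
  show !![1, -r; 0, 1] = !![1, -r; 0, 1]
  rfl

theorem lo_inv (r : F) : (lo r)⁻¹ = lo (-r) := by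
  apply Units.ext
  show !![1, 0; -r, 1] = !![1, 0; -r, 1]
  rfl

theorem dg_mul : (dg : GL (Fin 2) F) * dg = 1 := by
  apply Units.ext
  rw [Units.val_mul, dg_val, Matrix.mul_fin_two, Units.val_one, Matrix.one_fin_two]
  simp

theorem dg_inv : (dg : GL (Fin 2) F)⁻¹ = dg := inv_eq_of_mul_eq_one_left dg_mul

theorem up_injective (r s : F) (h : up r = up s) : r = s := by
  have h1 : ((up r : GL (Fin 2) F) : Matrix (Fin 2) (Fin 2) F) 0 1 =
      ((up s : GL (Fin 2) F) : Matrix (Fin 2) (Fin 2) F) 0 1 := by rw [h]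
  simpa [up_val] using h1

theorem dg_up (r : F) : dg * up r * dg⁻¹ = up (-r) := by
  rw [dg_inv]
  apply Units.ext
  rw [Units.val_mul, Units.val_mul, dg_val, up_val, up_val, Matrix.mul_fin_two, Matrix.mul_fin_two]
  simp

theorem dg_lo (r : F) : dg * lo r * dg⁻¹ = lo (-r) := by
  rw [dg_inv]
  apply Units.ext
  rw [Units.val_mul, Units.val_mul, dg_val, lo_val, lo_val, Matrix.mul_fin_two, Matrix.mul_fin_two]
  simp

theorem fin_two_eq {a b c d a' b' c' d' : F} (h : !![a, b; c, d] = !![a', b'; c', d']) :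
    a = a' ∧ b = b' ∧ c = c' ∧ d = d' := by
  refine ⟨?_, ?_, ?_, ?_⟩
  · simpa using congrFun (congrFun h 0) 0
  · simpa using congrFun (congrFun h 0) 1
  · simpa using congrFun (congrFun h 1) 0
  · simpa using congrFun (congrFun h 1) 1

/-- the key step: the diagonal part of `up r₁ * lo r₂` scales the upper unitriangular group -/
theorem key (h2 : (2 : F) ≠ 0) (G₀ : Subgroup (GL (Fin 2) F)) [Finite G₀]
    (hodd : Odd (Nat.card G₀)) (hinv : ∀ g ∈ G₀, dg * g * dg⁻¹ ∈ G₀) (r₁ r₂ : F)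
    (h1 : up r₁ ∈ G₀) (h2' : lo r₂ ∈ G₀) :
    1 + r₁ * r₂ ≠ 0 ∧ (∀ r, up r ∈ G₀ → up ((1 + r₁ * r₂) * r) ∈ G₀) := by
  obtain ⟨i, hiG, hdi, hdc⟩ :=
    odd_decomp G₀ hodd dg dg_mul hinv (up r₁ * lo r₂) (G₀.mul_mem h1 h2')
  obtain ⟨c, hc⟩ : ∃ c, c = up r₁ * lo r₂ * i⁻¹ := ⟨_, rfl⟩
  rw [← hc] at hdc
  have hcG : c ∈ G₀ := by
    rw [hc]; exact G₀.mul_mem (G₀.mul_mem h1 h2') (G₀.inv_mem hiG)
  have hg : up r₁ * lo r₂ = c * i := by rw [hc]; group
  obtain ⟨α, β, γ, ε, hi⟩ : ∃ α β γ ε, (i : Matrix (Fin 2) (Fin 2) F) = !![α, β; γ, ε] :=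
    ⟨_, _, _, _, Matrix.eta_fin_two _⟩
  obtain ⟨c₁, c₁₂, c₂₁, c₂, hcm⟩ :
      ∃ c₁ c₁₂ c₂₁ c₂, (c : Matrix (Fin 2) (Fin 2) F) = !![c₁, c₁₂; c₂₁, c₂] :=
    ⟨_, _, _, _, Matrix.eta_fin_two _⟩
  -- the entries of `i`
  have e1 : dg * i * dg * i = 1 := by
    have h3 := hdi
    rw [dg_inv] at h3
    rw [h3, inv_mul_cancel]
  have e2 := congrArg (fun g : GL (Fin 2) F => (g : Matrix (Fin 2) (Fin 2) F)) e1
  simp only [Units.val_mul, Units.val_one, dg_val] at e2
  rw [hi, Matrix.mul_fin_two, Matrix.mul_fin_two, Matrix.mul_fin_two, Matrix.one_fin_two] at e2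
  obtain ⟨ea, eb, ec, ed⟩ := fin_two_eq e2
  have hαε : α = ε := by
    by_contra hne
    have hne' : α - ε ≠ 0 := sub_ne_zero.mpr hne
    have hβ : β = 0 := by
      have h3 : β * (α - ε) = 0 := by linear_combination eb
      exact (mul_eq_zero.mp h3).resolve_right hne'
    have hγ : γ = 0 := by
      have h3 : γ * (α - ε) = 0 := by linear_combination -ec
      exact (mul_eq_zero.mp h3).resolve_right hne'
    have hα2 : α * α = 1 := by rw [hβ] at ea; linear_combination ea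
    have hε2 : ε * ε = 1 := by rw [hβ] at ed; linear_combination ed
    have hii : i * i = 1 := by
      apply Units.ext
      rw [Units.val_mul, hi, Matrix.mul_fin_two, Units.val_one, Matrix.one_fin_two, hβ, hγ]
      simp [hα2, hε2]
    have hi4 : i ^ 4 = 1 := by
      rw [show (4 : ℕ) = 2 + 2 from rfl, pow_add, pow_two, hii, one_mul]
    have hi1 := eq_one_of_pow_four G₀ hodd i hiG hi4
    rw [hi1, Units.val_one, Matrix.one_fin_two] at hi
    obtain ⟨h5, -, -, h6⟩ := fin_two_eq hi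
    exact hne (h5.symm.trans h6)
  -- the entries of `c`
  have e3 : dg * c = c * dg := by
    have h3 := hdc
    rw [dg_inv] at h3
    calc dg * c = (dg * c * dg) * dg := by rw [mul_assoc, mul_assoc, dg_mul, mul_one]
      _ = c * dg := by rw [h3]
  have e4 := congrArg (fun g : GL (Fin 2) F => (g : Matrix (Fin 2) (Fin 2) F)) e3
  simp only [Units.val_mul, dg_val] at e4
  rw [hcm, Matrix.mul_fin_two, Matrix.mul_fin_two] at e4
  obtain ⟨-, fb, fc, -⟩ := fin_two_eq e4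
  have hc12 : c₁₂ = 0 := by
    have h3 : 2 * c₁₂ = 0 := by linear_combination fb
    exact (mul_eq_zero.mp h3).resolve_left h2
  have hc21 : c₂₁ = 0 := by
    have h3 : 2 * c₂₁ = 0 := by linear_combination -fc
    exact (mul_eq_zero.mp h3).resolve_left h2
  rw [hc12, hc21] at hcm
  -- `up r₁ * lo r₂ = c * i`
  have e5 := congrArg (fun g : GL (Fin 2) F => (g : Matrix (Fin 2) (Fin 2) F)) hg
  simp only [Units.val_mul, up_val, lo_val] at e5
  rw [hcm, hi, Matrix.mul_fin_two, Matrix.mul_fin_two] at e5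
  obtain ⟨ga, -, -, gd⟩ := fin_two_eq e5
  have hdet : c₁ * c₂ ≠ 0 := by
    have h3 := (Matrix.isUnits_det_units c).ne_zero
    rw [hcm, Matrix.det_fin_two_of] at h3
    intro h4
    apply h3
    rw [h4]; ring
  have hc1 : c₁ ≠ 0 := left_ne_zero_of_mul hdet
  have hc2α : c₂ * α = 1 := by rw [hαε]; linear_combination -gd
  have hα0 : α ≠ 0 := right_ne_zero_of_mul (by rw [hc2α]; exact one_ne_zero)
  have hu : 1 + r₁ * r₂ = c₁ * α := by linear_combination ga
  have hc1eq : c₁ = (1 + r₁ * r₂) * c₂ := by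
    rw [hu]; linear_combination (-c₁) * hc2α
  refine ⟨by rw [hu]; exact mul_ne_zero hc1 hα0, ?_⟩
  intro r hr
  have e6 : c * up r = up ((1 + r₁ * r₂) * r) * c := by
    apply Units.ext
    rw [Units.val_mul, Units.val_mul, up_val, up_val, hcm, Matrix.mul_fin_two, Matrix.mul_fin_two]
    congr 1
    simp only [mul_one, mul_zero, add_zero, zero_add, one_mul, zero_mul]
    rw [hc1eq]
    ext j k
    fin_cases j <;> fin_cases k <;> simp <;> ring
  have e7 : up ((1 + r₁ * r₂) * r) = c * up r * c⁻¹ := by rw [e6]; group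
  rw [e7]
  exact G₀.mul_mem (G₀.mul_mem hcG hr) (G₀.inv_mem hcG)

/-- a finite subgroup of odd order of `GL(2, F)` normalized by `diag(1, -1)` does not contain
non-trivial upper and lower unitriangular matrices at the same time -/
theorem no_up_lo (h2 : (2 : F) ≠ 0) (G₀ : Subgroup (GL (Fin 2) F)) [Finite G₀]
    (hodd : Odd (Nat.card G₀)) (hinv : ∀ g ∈ G₀, dg * g * dg⁻¹ ∈ G₀) (a b : F) (ha : a ≠ 0)
    (hb : b ≠ 0) (hua : up a ∈ G₀) (hlb : lo b ∈ G₀) : False := by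
  have hA_sub : ∀ r s, up r ∈ G₀ → up s ∈ G₀ → up (r - s) ∈ G₀ := by
    intro r s hr hs
    have e : up (r - s) = up r * (up s)⁻¹ := by rw [up_inv, up_mul, sub_eq_add_neg]
    rw [e]; exact G₀.mul_mem hr (G₀.inv_mem hs)
  have hstep : ∀ r, up r ∈ G₀ → up (a * b * r) ∈ G₀ := by
    intro r hr
    have h1 := (key h2 G₀ hodd hinv a b hua hlb).2 r hr
    have h3 := hA_sub _ _ h1 hr
    have e : (1 + a * b) * r - r = a * b * r := by ring
    rwa [e] at h3
  have hpow : ∀ k : ℕ, up ((a * b) ^ k * a) ∈ G₀ := by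
    intro k
    induction k with
    | zero => simpa using hua
    | succ k ih =>
      have h3 := hstep _ ih
      have e : a * b * ((a * b) ^ k * a) = (a * b) ^ (k + 1) * a := by ring
      rwa [e] at h3
  obtain ⟨k, l, hkl, hEq⟩ := Finite.exists_ne_map_eq_of_infinite
    (fun k : ℕ => (⟨up ((a * b) ^ k * a), hpow k⟩ : G₀))
  have hEq' : (a * b) ^ k * a = (a * b) ^ l * a := up_injective _ _ (congrArg Subtype.val hEq)
  have hEq'' : (a * b) ^ k = (a * b) ^ l := mul_right_cancel₀ ha hEq'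
  have hab : a * b ≠ 0 := mul_ne_zero ha hb
  have hn : ∃ n : ℕ, (a * b) ^ (n + 1) = 1 := by
    have aux : ∀ k l : ℕ, k < l → (a * b) ^ k = (a * b) ^ l → ∃ n : ℕ, (a * b) ^ (n + 1) = 1 := by
      intro k l h hE
      refine ⟨l - k - 1, ?_⟩
      have e : l = k + (l - k - 1 + 1) := by omega
      rw [e, pow_add] at hE
      have h3 : (a * b) ^ k * 1 = (a * b) ^ k * (a * b) ^ (l - k - 1 + 1) := by
        rw [mul_one]; exact hE
      exact (mul_left_cancel₀ (pow_ne_zero k hab) h3).symm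
    rcases Nat.lt_or_gt_of_ne hkl with h | h
    · exact aux k l h hEq''
    · exact aux l k h hEq''.symm
  obtain ⟨n, hn⟩ := hn
  have h1 : up (-((a * b) ^ n * a)) ∈ G₀ := by
    rw [← up_inv]; exact G₀.inv_mem (hpow n)
  have h3 := (key h2 G₀ hodd hinv _ b h1 hlb).1
  apply h3
  have e : -((a * b) ^ n * a) * b = -((a * b) ^ (n + 1)) := by ring
  rw [e, hn]; ring

/-- a unipotent element of order `p` fixing the first basis vector is upper unitriangular -/
theorem eq_up_of_fix (p : ℕ) [Fact p.Prime] [CharP F p] (M : GL (Fin 2) F)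
    (hfix : (M : Matrix (Fin 2) (Fin 2) F).mulVec ![1, 0] = ![1, 0]) (hMp : M ^ p = 1)
    (hM1 : M ≠ 1) : ∃ a : F, a ≠ 0 ∧ M = up a := by
  obtain ⟨m₁, m₁₂, m₂₁, m₂, hm⟩ :
      ∃ m₁ m₁₂ m₂₁ m₂, (M : Matrix (Fin 2) (Fin 2) F) = !![m₁, m₁₂; m₂₁, m₂] :=
    ⟨_, _, _, _, Matrix.eta_fin_two _⟩
  rw [hm] at hfix
  have h00 : m₁ = 1 := by simpa [Matrix.mulVec, dotProduct] using congrFun hfix 0
  have h10 : m₂₁ = 0 := by simpa [Matrix.mulVec, dotProduct] using congrFun hfix 1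
  rw [h00, h10] at hm
  have hdet : (M : Matrix (Fin 2) (Fin 2) F).det = m₂ := by
    rw [hm, Matrix.det_fin_two_of]; ring
  have hdp : m₂ ^ p = 1 := by
    have h1 : ((M ^ p : GL (Fin 2) F) : Matrix (Fin 2) (Fin 2) F).det = 1 := by
      rw [hMp, Units.val_one, Matrix.det_one]
    rw [Units.val_pow_eq_pow_val, Matrix.det_pow, hdet] at h1
    exact h1
  have hm2 : m₂ = 1 := by
    have h1 : (m₂ - 1) ^ p = 0 := by rw [sub_pow_char, hdp, one_pow, sub_self]
    exact sub_eq_zero.mp (pow_eq_zero_iff (Fact.out : p.Prime).ne_zero |>.mp h1)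
  rw [hm2] at hm
  have hMup : M = up m₁₂ := Units.ext (by rw [hm, up_val])
  refine ⟨m₁₂, ?_, hMup⟩
  intro h0
  apply hM1
  rw [hMup, h0]
  apply Units.ext
  rw [up_val, Units.val_one, Matrix.one_fin_two]

/-- a unipotent element of order `p` fixing the second basis vector is lower unitriangular -/
theorem eq_lo_of_fix (p : ℕ) [Fact p.Prime] [CharP F p] (M : GL (Fin 2) F)
    (hfix : (M : Matrix (Fin 2) (Fin 2) F).mulVec ![0, 1] = ![0, 1]) (hMp : M ^ p = 1)
    (hM1 : M ≠ 1) : ∃ b : F, b ≠ 0 ∧ M = lo b := by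
  obtain ⟨m₁, m₁₂, m₂₁, m₂, hm⟩ :
      ∃ m₁ m₁₂ m₂₁ m₂, (M : Matrix (Fin 2) (Fin 2) F) = !![m₁, m₁₂; m₂₁, m₂] :=
    ⟨_, _, _, _, Matrix.eta_fin_two _⟩
  rw [hm] at hfix
  have h01 : m₁₂ = 0 := by simpa [Matrix.mulVec, dotProduct] using congrFun hfix 0
  have h11 : m₂ = 1 := by simpa [Matrix.mulVec, dotProduct] using congrFun hfix 1
  rw [h01, h11] at hm
  have hdet : (M : Matrix (Fin 2) (Fin 2) F).det = m₁ := by
    rw [hm, Matrix.det_fin_two_of]; ring
  have hdp : m₁ ^ p = 1 := by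
    have h1 : ((M ^ p : GL (Fin 2) F) : Matrix (Fin 2) (Fin 2) F).det = 1 := by
      rw [hMp, Units.val_one, Matrix.det_one]
    rw [Units.val_pow_eq_pow_val, Matrix.det_pow, hdet] at h1
    exact h1
  have hm1 : m₁ = 1 := by
    have h1 : (m₁ - 1) ^ p = 0 := by rw [sub_pow_char, hdp, one_pow, sub_self]
    exact sub_eq_zero.mp (pow_eq_zero_iff (Fact.out : p.Prime).ne_zero |>.mp h1)
  rw [hm1] at hm
  have hMlo : M = lo m₂₁ := Units.ext (by rw [hm, lo_val])
  refine ⟨m₂₁, ?_, hMlo⟩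
  intro h0
  apply hM1
  rw [hMlo, h0]
  apply Units.ext
  rw [lo_val, Units.val_one, Matrix.one_fin_two]

/-- A finite subgroup of odd order of `GL(2, F)`, `F` of odd characteristic `p`, leaving no
line invariant has order prime to `p`. -/
theorem odd_irreducible_gl2 (p : ℕ) [Fact p.Prime] [CharP F p] (hp : p ≠ 2)
    (H : Subgroup (GL (Fin 2) F)) [Finite H] (hodd : Odd (Nat.card H))
    (hirr : ∀ v : Fin 2 → F, v ≠ 0 →
      ∃ g ∈ H, (g : Matrix (Fin 2) (Fin 2) F).mulVec v ∉ Submodule.span F {v}) :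
    ¬ p ∣ Nat.card H := by
  intro hdvd
  have hpr : p.Prime := Fact.out
  have h2 : (2 : F) ≠ 0 := by
    intro h
    have h' : ((2 : ℕ) : F) = 0 := by exact_mod_cast h
    have h3 := (CharP.cast_eq_zero_iff F p 2).mp h'
    exact hp ((Nat.prime_dvd_prime_iff_eq hpr Nat.prime_two).mp h3)
  obtain ⟨x', hx'⟩ := exists_prime_orderOf_dvd_card' (G := H) p hdvd
  obtain ⟨x, hxH, hxx⟩ : ∃ x : GL (Fin 2) F, x ∈ H ∧ x = (x' : GL (Fin 2) F) := ⟨_, x'.2, rfl⟩
  have hxp : x ^ p = 1 := by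
    have h1 := pow_orderOf_eq_one x'
    rw [hx'] at h1
    rw [hxx]
    exact_mod_cast congrArg Subtype.val h1
  have hx1 : x ≠ 1 := by
    intro h
    have h1 : x' = 1 := Subtype.ext (by rw [← hxx, h]; rfl)
    rw [h1, orderOf_one] at hx'
    exact hpr.one_lt.ne hx'
  obtain ⟨X, hX⟩ : ∃ X : Matrix (Fin 2) (Fin 2) F, X = (x : Matrix (Fin 2) (Fin 2) F) :=
    ⟨_, rfl⟩
  have hXp : X ^ p = 1 := by rw [hX, ← Units.val_pow_eq_pow_val, hxp, Units.val_one]
  have hNp : (X - 1) ^ p = 0 := by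
    rw [sub_pow_char_of_commute p (Commute.one_right X), hXp, one_pow, sub_self]
  have hdet : (X - 1).det = 0 := by
    have h1 := congrArg Matrix.det hNp
    rw [Matrix.det_pow, Matrix.det_zero] at h1
    exact pow_eq_zero_iff hpr.ne_zero |>.mp h1
  obtain ⟨e, he0, heN⟩ := Matrix.exists_mulVec_eq_zero_iff.mpr hdet
  have hXe : X.mulVec e = e := by
    rw [Matrix.sub_mulVec, Matrix.one_mulVec, sub_eq_zero] at heN
    exact heN
  obtain ⟨g, hgH, hgw⟩ := hirr e he0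
  obtain ⟨w, hw⟩ : ∃ w, w = (g : Matrix (Fin 2) (Fin 2) F).mulVec e := ⟨_, rfl⟩
  rw [← hw] at hgw
  have hdetT : e 0 * w 1 - w 0 * e 1 ≠ 0 := by
    intro h0
    apply hgw
    rw [Submodule.mem_span_singleton]
    by_cases h : e 0 = 0
    · have he1 : e 1 ≠ 0 := by
        intro h1
        apply he0
        ext i
        fin_cases i
        · exact h
        · exact h1
      have hw0 : w 0 = 0 := by
        have h3 : w 0 * e 1 = 0 := by rw [h] at h0; linear_combination -h0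
        exact (mul_eq_zero.mp h3).resolve_right he1
      refine ⟨w 1 / e 1, ?_⟩
      ext i
      fin_cases i
      · show w 1 / e 1 * e 0 = w 0
        rw [h, hw0, mul_zero]
      · show w 1 / e 1 * e 1 = w 1
        field_simp
    · refine ⟨w 0 / e 0, ?_⟩
      ext i
      fin_cases i
      · show w 0 / e 0 * e 0 = w 0
        field_simp
      · show w 0 / e 0 * e 1 = w 1
        field_simp
        linear_combination -h0
  obtain ⟨T, hT⟩ : ∃ T : GL (Fin 2) F,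
      (T : Matrix (Fin 2) (Fin 2) F) = !![e 0, w 0; e 1, w 1] :=
    ⟨Matrix.GeneralLinearGroup.mkOfDetNeZero !![e 0, w 0; e 1, w 1]
      (by rw [Matrix.det_fin_two_of]; exact hdetT), rfl⟩
  have hTe : (T : Matrix (Fin 2) (Fin 2) F).mulVec ![1, 0] = e := by
    rw [hT]
    ext i
    fin_cases i <;> simp [Matrix.mulVec, dotProduct]
  have hTw : (T : Matrix (Fin 2) (Fin 2) F).mulVec ![0, 1] = w := by
    rw [hT]
    ext i
    fin_cases i <;> simp [Matrix.mulVec, dotProduct]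
  have hTinv : ((T⁻¹ : GL (Fin 2) F) : Matrix (Fin 2) (Fin 2) F) *
      (T : Matrix (Fin 2) (Fin 2) F) = 1 := by
    rw [← Units.val_mul, inv_mul_cancel, Units.val_one]
  -- the conjugated group
  obtain ⟨K, hK⟩ : ∃ K : Subgroup (GL (Fin 2) F), K = H.map (MulAut.conj T⁻¹).toMonoidHom :=
    ⟨_, rfl⟩
  have hKmem : ∀ h ∈ H, T⁻¹ * h * T ∈ K := by
    intro h hh
    rw [hK]
    refine ⟨h, hh, ?_⟩
    show T⁻¹ * h * T⁻¹⁻¹ = T⁻¹ * h * T
    rw [inv_inv]
  have hKcard : Nat.card K = Nat.card H := by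
    rw [hK]
    exact Subgroup.card_map_of_injective (MulAut.conj T⁻¹).injective
  -- the two unipotent elements
  have hxK : T⁻¹ * x * T ∈ K := hKmem x hxH
  have hyK : T⁻¹ * (g * x * g⁻¹) * T ∈ K :=
    hKmem _ (H.mul_mem (H.mul_mem hgH hxH) (H.inv_mem hgH))
  obtain ⟨a, ha, hxa⟩ := eq_up_of_fix p (T⁻¹ * x * T)
    (by
      rw [Units.val_mul, Units.val_mul, ← Matrix.mulVec_mulVec, ← Matrix.mulVec_mulVec, hTe,
        ← hX, hXe, ← hTe, Matrix.mulVec_mulVec, hTinv, Matrix.one_mulVec])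
    (by
      have e1 : (T⁻¹ * x * T) ^ p = T⁻¹ * x ^ p * T⁻¹⁻¹ := by rw [← conj_pow, inv_inv]
      rw [e1, hxp]; group)
    (by
      intro h
      apply hx1
      have e1 : x = T * (T⁻¹ * x * T) * T⁻¹ := by group
      rw [e1, h]; group)
  obtain ⟨b, hb, hyb⟩ := eq_lo_of_fix p (T⁻¹ * (g * x * g⁻¹) * T)
    (by
      have hginv : ((g⁻¹ : GL (Fin 2) F) : Matrix (Fin 2) (Fin 2) F) *
          (g : Matrix (Fin 2) (Fin 2) F) = 1 := by
        rw [← Units.val_mul, inv_mul_cancel, Units.val_one]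
      rw [Units.val_mul, Units.val_mul, Units.val_mul, Units.val_mul,
        ← Matrix.mulVec_mulVec, ← Matrix.mulVec_mulVec, ← Matrix.mulVec_mulVec,
        ← Matrix.mulVec_mulVec, hTw, hw, Matrix.mulVec_mulVec e, hginv, Matrix.one_mulVec,
        ← hX, hXe, ← hw, ← hTw, Matrix.mulVec_mulVec, hTinv, Matrix.one_mulVec])
    (by
      have e1 : (T⁻¹ * (g * x * g⁻¹) * T) ^ p = (T⁻¹ * g) * x ^ p * (T⁻¹ * g)⁻¹ := by
        rw [← conj_pow]; group
      rw [e1, hxp]; group)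
    (by
      intro h
      apply hx1
      have e1 : x = (g⁻¹ * T) * (T⁻¹ * (g * x * g⁻¹) * T) * (g⁻¹ * T)⁻¹ := by group
      rw [e1, h]; group)
  rw [hxa] at hxK
  rw [hyb] at hyK
  -- the `dg`-invariant subgroup
  obtain ⟨G₀, hG₀⟩ : ∃ G₀ : Subgroup (GL (Fin 2) F),
      G₀ = K ⊓ K.map (MulAut.conj (dg : GL (Fin 2) F)).toMonoidHom := ⟨_, rfl⟩
  have hmem : ∀ g : GL (Fin 2) F, g ∈ G₀ ↔ g ∈ K ∧ dg * g * dg⁻¹ ∈ K := by
    intro g
    rw [hG₀, Subgroup.mem_inf]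
    constructor
    · rintro ⟨h1, k, hk, hkg⟩
      refine ⟨h1, ?_⟩
      have e1 : dg * k * dg⁻¹ = g := hkg
      rw [← e1, dg_inv]
      have e2 : dg * (dg * k * dg) * dg = (dg * dg) * k * (dg * dg) := by group
      rw [e2, dg_mul, one_mul, mul_one]
      exact hk
    · rintro ⟨h1, h3⟩
      refine ⟨h1, dg * g * dg⁻¹, h3, ?_⟩
      show dg * (dg * g * dg⁻¹) * dg⁻¹ = g
      rw [dg_inv]
      have e2 : dg * (dg * g * dg) * dg = (dg * dg) * g * (dg * dg) := by group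
      rw [e2, dg_mul, one_mul, mul_one]
  have hG₀K : G₀ ≤ K := by rw [hG₀]; exact inf_le_left
  have hoddG : Odd (Nat.card G₀) := by
    have h1 : Nat.card G₀ ∣ Nat.card K := Subgroup.card_dvd_of_le hG₀K
    rw [hKcard] at h1
    exact Odd.of_dvd_nat hodd h1
  have : Finite G₀ :=
    Nat.finite_of_card_ne_zero (fun h => by rw [h] at hoddG; exact Nat.not_odd_zero hoddG)
  have hinv : ∀ g ∈ G₀, dg * g * dg⁻¹ ∈ G₀ := by
    intro g hg
    obtain ⟨h1, h3⟩ := (hmem g).mp hg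
    refine (hmem _).mpr ⟨h3, ?_⟩
    rw [dg_inv]
    have e2 : dg * (dg * g * dg) * dg = (dg * dg) * g * (dg * dg) := by group
    rw [e2, dg_mul, one_mul, mul_one]
    exact h1
  have huG : up a ∈ G₀ := by
    refine (hmem _).mpr ⟨hxK, ?_⟩
    rw [dg_up, ← up_inv]
    exact K.inv_mem hxK
  have hlG : lo b ∈ G₀ := by
    refine (hmem _).mpr ⟨hyK, ?_⟩
    rw [dg_lo, ← lo_inv]
    exact K.inv_mem hyK
  exact no_up_lo h2 G₀ hoddG hinv a b ha hb huG hlG

end Cfsg.Agent.Helper1.GL2Odd
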