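import Mathlib
import Cfsg.Agent.Helper1.GL2Odd
import Cfsg.Agent.Lead.Quat

/-!
Helper library (seat helper1): a subgroup of `SL(2, F)` (`F` finite of odd characteristic `p`)
with more than one Sylow `p`-subgroup has generalized quaternion Sylow `2`-subgroups.
-/

set_option autoImplicit false

namespace Cfsg.Agent.Helper1.GL2Odd

open Matrix

variable {F : Type*} [Field F]

/-- two non-trivial unipotent elements with independent fixed vectors cannot lie in a subgroup
of odd order -/
theorem odd_no_two_unipotent (p : ℕ) [Fact p.Prime] [CharP F p] (hp : p ≠ 2)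
    (N : Subgroup (GL (Fin 2) F)) [Finite N] (hodd : Odd (Nat.card N))
    (x y : GL (Fin 2) F) (hxN : x ∈ N) (hyN : y ∈ N) (hxp : x ^ p = 1) (hyp : y ^ p = 1)
    (hx1 : x ≠ 1) (hy1 : y ≠ 1) (e w : Fin 2 → F)
    (hXe : (x : Matrix (Fin 2) (Fin 2) F).mulVec e = e)
    (hYw : (y : Matrix (Fin 2) (Fin 2) F).mulVec w = w)
    (hdetT : e 0 * w 1 - w 0 * e 1 ≠ 0) : False := by
  have hpr : p.Prime := Fact.out
  have h2 : (2 : F) ≠ 0 := by
    intro h
    have h' : ((2 : ℕ) : F) = 0 := by exact_mod_cast h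
    have h3 := (CharP.cast_eq_zero_iff F p 2).mp h'
    exact hp ((Nat.prime_dvd_prime_iff_eq hpr Nat.prime_two).mp h3)
  obtain ⟨T, hT⟩ : ∃ T : GL (Fin 2) F,
      (T : Matrix (Fin 2) (Fin 2) F) = !![e 0, w 0; e 1, w 1] :=
    ⟨Matrix.GeneralLinearGroup.mkOfDetNeZero !![e 0, w 0; e 1, w 1]
      (by rw [Matrix.det_fin_two_of]; exact hdetT), rfl⟩
  have hTe : (T : Matrix (Fin 2) (Fin 2) F).mulVec ![1, 0] = e := by
    rw [hT]
    ext i
    fin_cases i <;> simp [Matrix.mulVec, dotProduct]
  have hTw : (T : Matrix (Fin 2) (Fin 2) F).mulVec ![0, 1] = w := by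
    rw [hT]
    ext i
    fin_cases i <;> simp [Matrix.mulVec, dotProduct]
  have hTinv : ((T⁻¹ : GL (Fin 2) F) : Matrix (Fin 2) (Fin 2) F) *
      (T : Matrix (Fin 2) (Fin 2) F) = 1 := by
    rw [← Units.val_mul, inv_mul_cancel, Units.val_one]
  obtain ⟨K, hK⟩ : ∃ K : Subgroup (GL (Fin 2) F), K = N.map (MulAut.conj T⁻¹).toMonoidHom :=
    ⟨_, rfl⟩
  have hKmem : ∀ h ∈ N, T⁻¹ * h * T ∈ K := by
    intro h hh
    rw [hK]
    refine ⟨h, hh, ?_⟩
    show T⁻¹ * h * T⁻¹⁻¹ = T⁻¹ * h * T
    rw [inv_inv]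
  have hKcard : Nat.card K = Nat.card N := by
    rw [hK]
    exact Subgroup.card_map_of_injective (MulAut.conj T⁻¹).injective
  have hxK : T⁻¹ * x * T ∈ K := hKmem x hxN
  have hyK : T⁻¹ * y * T ∈ K := hKmem y hyN
  obtain ⟨a, ha, hxa⟩ := eq_up_of_fix p (T⁻¹ * x * T)
    (by
      rw [Units.val_mul, Units.val_mul, ← Matrix.mulVec_mulVec, ← Matrix.mulVec_mulVec, hTe,
        hXe, ← hTe, Matrix.mulVec_mulVec, hTinv, Matrix.one_mulVec])
    (by
      have e1 : (T⁻¹ * x * T) ^ p = T⁻¹ * x ^ p * T⁻¹⁻¹ := by rw [← conj_pow, inv_inv]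
      rw [e1, hxp]; group)
    (by
      intro h
      apply hx1
      have e1 : x = T * (T⁻¹ * x * T) * T⁻¹ := by group
      rw [e1, h]; group)
  obtain ⟨b, hb, hyb⟩ := eq_lo_of_fix p (T⁻¹ * y * T)
    (by
      rw [Units.val_mul, Units.val_mul, ← Matrix.mulVec_mulVec, ← Matrix.mulVec_mulVec, hTw,
        hYw, ← hTw, Matrix.mulVec_mulVec, hTinv, Matrix.one_mulVec])
    (by
      have e1 : (T⁻¹ * y * T) ^ p = T⁻¹ * y ^ p * T⁻¹⁻¹ := by rw [← conj_pow, inv_inv]
      rw [e1, hyp]; group)
    (by
      intro h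
      apply hy1
      have e1 : y = T * (T⁻¹ * y * T) * T⁻¹ := by group
      rw [e1, h]; group)
  rw [hxa] at hxK
  rw [hyb] at hyK
  obtain ⟨G₀, hG₀⟩ : ∃ G₀ : Subgroup (GL (Fin 2) F),
      G₀ = K ⊓ K.map (MulAut.conj (dg : GL (Fin 2) F)).toMonoidHom := ⟨_, rfl⟩
  have hmem : ∀ g : GL (Fin 2) F, g ∈ G₀ ↔ g ∈ K ∧ dg * g * dg⁻¹ ∈ K := by
    intro g
    rw [hG₀, Subgroup.mem_inf]
    constructor
    · rintro ⟨h1, k, hk, hkg⟩
      refine ⟨h1, ?_⟩
      have e1 : dg * k * dg⁻¹ = g := hkg
      rw [← e1, dg_inv]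
      have e2 : dg * (dg * k * dg) * dg = (dg * dg) * k * (dg * dg) := by group
      rw [e2, dg_mul, one_mul, mul_one]
      exact hk
    · rintro ⟨h1, h3⟩
      refine ⟨h1, dg * g * dg⁻¹, h3, ?_⟩
      show dg * (dg * g * dg⁻¹) * dg⁻¹ = g
      rw [dg_inv]
      have e2 : dg * (dg * g * dg) * dg = (dg * dg) * g * (dg * dg) := by group
      rw [e2, dg_mul, one_mul, mul_one]
  have hG₀K : G₀ ≤ K := by rw [hG₀]; exact inf_le_left
  have hoddG : Odd (Nat.card G₀) := by
    have h1 : Nat.card G₀ ∣ Nat.card K := Subgroup.card_dvd_of_le hG₀K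
    rw [hKcard] at h1
    exact Odd.of_dvd_nat hodd h1
  have : Finite G₀ :=
    Nat.finite_of_card_ne_zero (fun h => by rw [h] at hoddG; exact Nat.not_odd_zero hoddG)
  have hinv : ∀ g ∈ G₀, dg * g * dg⁻¹ ∈ G₀ := by
    intro g hg
    obtain ⟨h1, h3⟩ := (hmem g).mp hg
    refine (hmem _).mpr ⟨h3, ?_⟩
    rw [dg_inv]
    have e2 : dg * (dg * g * dg) * dg = (dg * dg) * g * (dg * dg) := by group
    rw [e2, dg_mul, one_mul, mul_one]
    exact h1
  have huG : up a ∈ G₀ := by
    refine (hmem _).mpr ⟨hxK, ?_⟩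
    rw [dg_up, ← up_inv]
    exact K.inv_mem hxK
  have hlG : lo b ∈ G₀ := by
    refine (hmem _).mpr ⟨hyK, ?_⟩
    rw [dg_lo, ← lo_inv]
    exact K.inv_mem hyK
  exact no_up_lo h2 G₀ hoddG hinv a b ha hb huG hlG

/-- an element of `SL(2, F)` of square one other than `1` is `-1` -/
theorem sl2_sq_one (h2 : (2 : F) ≠ 0) (t : Matrix.SpecialLinearGroup (Fin 2) F)
    (ht : t * t = 1) (ht1 : t ≠ 1) : (t : Matrix (Fin 2) (Fin 2) F) = !![-1, 0; 0, -1] := by
  obtain ⟨a, b, c, d, hm⟩ : ∃ a b c d, (t : Matrix (Fin 2) (Fin 2) F) = !![a, b; c, d] :=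
    ⟨_, _, _, _, Matrix.eta_fin_two _⟩
  have hdet : a * d - b * c = 1 := by
    have h1 := t.det_coe
    rw [hm, Matrix.det_fin_two_of] at h1
    exact h1
  have hsq := congrArg
    (fun g : Matrix.SpecialLinearGroup (Fin 2) F => (g : Matrix (Fin 2) (Fin 2) F)) ht
  simp only [Matrix.SpecialLinearGroup.coe_mul, Matrix.SpecialLinearGroup.coe_one] at hsq
  rw [hm, Matrix.mul_fin_two, Matrix.one_fin_two] at hsq
  obtain ⟨e1, e2, e3, e4⟩ := fin_two_eq hsq
  have hs : a + d ≠ 0 := by
    intro h0
    have hd : d = -a := by linear_combination h0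
    rw [hd] at hdet
    apply h2
    linear_combination -e1 - hdet
  have hb : b = 0 := by
    have h3 : b * (a + d) = 0 := by linear_combination e2
    exact (mul_eq_zero.mp h3).resolve_right hs
  have hc : c = 0 := by
    have h3 : c * (a + d) = 0 := by linear_combination e3
    exact (mul_eq_zero.mp h3).resolve_right hs
  rw [hb, hc] at hdet e1 e4 hm
  have had : a = d := by
    have h3 : a * (a - d) = 0 := by linear_combination e1 - hdet
    have ha0 : a ≠ 0 := by
      intro h0
      rw [h0] at hdet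
      simp at hdet
    exact sub_eq_zero.mp ((mul_eq_zero.mp h3).resolve_left ha0)
  have ha : (a - 1) * (a + 1) = 0 := by linear_combination e1
  rcases mul_eq_zero.mp ha with h | h
  · exfalso
    apply ht1
    apply Subtype.ext
    have ha1 : a = 1 := sub_eq_zero.mp h
    rw [hm, ← had, ha1, Matrix.SpecialLinearGroup.coe_one, Matrix.one_fin_two]
  · have ha1 : a = -1 := eq_neg_of_add_eq_zero_left h
    rw [hm, ← had, ha1]

theorem sl2_invol_unique (h2 : (2 : F) ≠ 0) (s t : Matrix.SpecialLinearGroup (Fin 2) F)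
    (hs : s * s = 1) (hs1 : s ≠ 1) (ht : t * t = 1) (ht1 : t ≠ 1) : s = t :=
  Subtype.ext ((sl2_sq_one h2 s hs hs1).trans (sl2_sq_one h2 t ht ht1).symm)

/-- an element of `SL(2, F)` fixing a non-zero vector has order dividing `p` -/
theorem sl2_pow_p_of_fix (p : ℕ) [Fact p.Prime] [CharP F p]
    (h : Matrix.SpecialLinearGroup (Fin 2) F) (e : Fin 2 → F) (he0 : e ≠ 0)
    (hfix : (h : Matrix (Fin 2) (Fin 2) F).mulVec e = e) : h ^ p = 1 := by
  have hpr : p.Prime := Fact.out
  obtain ⟨a, b, c, d, hm⟩ : ∃ a b c d, (h : Matrix (Fin 2) (Fin 2) F) = !![a, b; c, d] :=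
    ⟨_, _, _, _, Matrix.eta_fin_two _⟩
  have hdet : a * d - b * c = 1 := by
    have h1 := h.det_coe
    rw [hm, Matrix.det_fin_two_of] at h1
    exact h1
  have hdet0 : ((h : Matrix (Fin 2) (Fin 2) F) - 1).det = 0 := by
    apply Matrix.exists_mulVec_eq_zero_iff.mp
    refine ⟨e, he0, ?_⟩
    rw [Matrix.sub_mulVec, Matrix.one_mulVec, hfix, sub_self]
  have htr : a + d = 2 := by
    rw [hm, Matrix.one_fin_two] at hdet0
    have h1 : (!![a, b; c, d] - !![1, 0; 0, 1] : Matrix (Fin 2) (Fin 2) F) =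
        !![a - 1, b; c, d - 1] := by
      ext i j
      fin_cases i <;> fin_cases j <;> simp
    rw [h1, Matrix.det_fin_two_of] at hdet0
    linear_combination hdet - hdet0
  have hN2 : ((h : Matrix (Fin 2) (Fin 2) F) - 1) * ((h : Matrix (Fin 2) (Fin 2) F) - 1) = 0 := by
    rw [hm, Matrix.one_fin_two]
    have h1 : (!![a, b; c, d] - !![1, 0; 0, 1] : Matrix (Fin 2) (Fin 2) F) =
        !![a - 1, b; c, d - 1] := by
      ext i j
      fin_cases i <;> fin_cases j <;> simp
    rw [h1, Matrix.mul_fin_two]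
    have hd : d = 2 - a := by linear_combination htr
    ext i j
    fin_cases i <;> fin_cases j
    · show (a - 1) * (a - 1) + b * c = 0
      rw [hd] at hdet
      linear_combination -hdet
    · show (a - 1) * b + b * (d - 1) = 0
      linear_combination b * htr
    · show c * (a - 1) + (d - 1) * c = 0
      linear_combination c * htr
    · show c * b + (d - 1) * (d - 1) = 0
      rw [hd] at hdet ⊢
      linear_combination -hdet
  have hNp : ((h : Matrix (Fin 2) (Fin 2) F) - 1) ^ p = 0 := by
    obtain ⟨k, hk⟩ : ∃ k, p = 2 + k := ⟨p - 2, by have := hpr.two_le; omega⟩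
    rw [hk, pow_add, pow_two, hN2, zero_mul]
  apply Subtype.ext
  rw [Matrix.SpecialLinearGroup.coe_pow, Matrix.SpecialLinearGroup.coe_one]
  have h3 : ((h : Matrix (Fin 2) (Fin 2) F) - 1) ^ p = (h : Matrix (Fin 2) (Fin 2) F) ^ p - 1 := by
    rw [sub_pow_char_of_commute p (Commute.one_right _), one_pow]
  rw [hNp] at h3
  exact (sub_eq_zero.mp h3.symm)

theorem exists_smul_of_det_zero (e w : Fin 2 → F) (he0 : e ≠ 0)
    (h0 : e 0 * w 1 - w 0 * e 1 = 0) : ∃ c : F, w = c • e := by
  by_cases h : e 0 = 0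
  · have he1 : e 1 ≠ 0 := by
      intro h1
      apply he0
      ext i
      fin_cases i
      · exact h
      · exact h1
    have hw0 : w 0 = 0 := by
      have h3 : w 0 * e 1 = 0 := by rw [h] at h0; linear_combination -h0
      exact (mul_eq_zero.mp h3).resolve_right he1
    refine ⟨w 1 / e 1, ?_⟩
    ext i
    fin_cases i
    · show w 0 = w 1 / e 1 * e 0
      rw [h, hw0, mul_zero]
    · show w 1 = w 1 / e 1 * e 1
      field_simp
  · refine ⟨w 0 / e 0, ?_⟩
    ext i
    fin_cases i
    · show w 0 = w 0 / e 0 * e 0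
      field_simp
    · show w 1 = w 0 / e 0 * e 1
      field_simp
      linear_combination h0

theorem pow_mulVec_of_eigen (M : Matrix (Fin 2) (Fin 2) F) (e : Fin 2 → F) (c : F)
    (h : M.mulVec e = c • e) (n : ℕ) : (M ^ n).mulVec e = c ^ n • e := by
  induction n with
  | zero => simp
  | succ n ih =>
    rw [pow_succ, ← Matrix.mulVec_mulVec, h, Matrix.mulVec_smul, ih, smul_smul, pow_succ,
      mul_comm]

section main

variable [Fintype F]

local notation "SL2F" => Matrix.SpecialLinearGroup (Fin 2) F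
local notation "Mat2F" => Matrix (Fin 2) (Fin 2) F

/-- a subgroup of `SL(2, F)` with more than one Sylow `p`-subgroup does not have cyclic
Sylow `2`-subgroups -/
theorem sl2_sylow_two_not_cyclic (p : ℕ) [Fact p.Prime] [CharP F p] (hp : p ≠ 2)
    (H : Subgroup SL2F) (hH : 1 < Nat.card (Sylow p H))
    (S : Sylow 2 H) (hS : IsCyclic (S : Subgroup H)) : False := by
  classical
  have hpr : p.Prime := Fact.out
  have : Finite SL2F :=
    Finite.of_injective (fun g : SL2F => (g : Mat2F)) Subtype.val_injective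
  have : Fact (Nat.Prime 2) := ⟨Nat.prime_two⟩
  -- an odd order normal subgroup containing all elements of order `p`
  have hN : ∃ N : Subgroup H, N.Normal ∧ Odd (Nat.card N) ∧ ∀ h : H, h ^ p = 1 → h ∈ N := by
    by_cases hev : 2 ∣ Nat.card H
    · have hmin : (Nat.card H).minFac = 2 := (Nat.minFac_eq_two_iff _).mpr hev
      have hcompl := IsCyclic.isComplement' hmin hS
      refine ⟨(MonoidHom.transferSylow S (hS.normalizer_le_centralizer hmin)).ker,
        inferInstance, ?_, ?_⟩
      · have h1 := hcompl.card_mul_card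
        have h2 : ¬ 2 ∣ (S : Subgroup H).index := S.not_dvd_index
        have h3 := (S : Subgroup H).card_mul_index
        have h4 : Nat.card (MonoidHom.transferSylow S (hS.normalizer_le_centralizer hmin)).ker =
            (S : Subgroup H).index := by
          have hpos : 0 < Nat.card (S : Subgroup H) := Nat.card_pos
          apply Nat.eq_of_mul_eq_mul_right hpos
          rw [h1, mul_comm, h3]
        rw [h4]
        exact Nat.odd_iff.mpr (by omega)
      · intro h hh
        rw [MonoidHom.mem_ker]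
        have h1 : orderOf (MonoidHom.transferSylow S (hS.normalizer_le_centralizer hmin) h) ∣ p :=
          orderOf_dvd_of_pow_eq_one (by rw [← map_pow, hh, map_one])
        have h2 : orderOf (MonoidHom.transferSylow S (hS.normalizer_le_centralizer hmin) h) ∣
            Nat.card (S : Subgroup H) := orderOf_dvd_natCard _
        obtain ⟨k, hk⟩ := S.2.exists_card_eq
        rw [hk] at h2
        have hcop : Nat.Coprime p (2 ^ k) :=
          Nat.Coprime.pow_right k ((Nat.coprime_primes hpr Nat.prime_two).mpr hp)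
        exact orderOf_eq_one_iff.mp (Nat.eq_one_of_dvd_coprimes hcop h1 h2)
    · refine ⟨⊤, inferInstance, ?_, fun h _ => Subgroup.mem_top h⟩
      rw [Subgroup.card_top]
      exact Nat.odd_iff.mpr (by omega)
  obtain ⟨N, hNn, hNodd, hNp⟩ := hN
  obtain ⟨P, Q, hPQ⟩ : ∃ P Q : Sylow p H, P ≠ Q := by
    have : Nontrivial (Sylow p H) := Finite.one_lt_card_iff_nontrivial.mp hH
    exact exists_pair_ne _
  by_cases hcfg : ∃ (x g : H) (e : Fin 2 → F), x ^ p = 1 ∧ x ≠ 1 ∧
      (((x : SL2F) : Mat2F).mulVec e = e) ∧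
      e 0 * ((((g : SL2F) : Mat2F).mulVec e) 1) - ((((g : SL2F) : Mat2F).mulVec e) 0) * e 1 ≠ 0
  · obtain ⟨x, g, e, hxp, hx1, hxe, hdet⟩ := hcfg
    obtain ⟨ι, hι_def⟩ : ∃ ι : H →* GL (Fin 2) F,
        ι = Matrix.SpecialLinearGroup.toGL.comp H.subtype := ⟨_, rfl⟩
    have hι : Function.Injective ι := by
      rw [hι_def]
      exact Matrix.SpecialLinearGroup.toGL_injective.comp H.subtype_injective
    have hιval : ∀ h : H, ((ι h : GL (Fin 2) F) : Mat2F) = ((h : SL2F) : Mat2F) := by
      intro h; rw [hι_def]; rfl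
    have hcard : Nat.card (N.map ι) = Nat.card N := Subgroup.card_map_of_injective hι
    have hodd' : Odd (Nat.card (N.map ι)) := by rw [hcard]; exact hNodd
    have : Finite (N.map ι) :=
      Nat.finite_of_card_ne_zero (fun h => by rw [h] at hodd'; exact Nat.not_odd_zero hodd')
    have hxN : x ∈ N := hNp x hxp
    have hyN : g * x * g⁻¹ ∈ N := hNn.conj_mem x hxN g
    have hyp : (g * x * g⁻¹) ^ p = 1 := by rw [conj_pow, hxp]; group
    refine odd_no_two_unipotent p hp (N.map ι) hodd' (ι x) (ι (g * x * g⁻¹)) ⟨x, hxN, rfl⟩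
      ⟨_, hyN, rfl⟩ ?_ ?_ ?_ ?_ e (((g : SL2F) : Mat2F).mulVec e) ?_ ?_ hdet
    · rw [← map_pow, hxp, map_one]
    · rw [← map_pow, hyp, map_one]
    · intro h; exact hx1 (hι (by rw [h, map_one]))
    · intro h
      have h1 : g * x * g⁻¹ = 1 := hι (by rw [h, map_one])
      apply hx1
      have e1 : x = g⁻¹ * (g * x * g⁻¹) * g := by group
      rw [e1, h1]; group
    · rw [hιval]; exact hxe
    · rw [hιval]
      have e1 : (((g * x * g⁻¹ : H) : SL2F) : Mat2F) =
          ((g : SL2F) : Mat2F) * ((x : SL2F) : Mat2F) * (((g⁻¹ : H) : SL2F) : Mat2F) := by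
        show ((((g : SL2F) * (x : SL2F) * ((g⁻¹ : H) : SL2F) : SL2F)) : Mat2F) = _
        rw [Matrix.SpecialLinearGroup.coe_mul, Matrix.SpecialLinearGroup.coe_mul]
      have e2 : (((g⁻¹ : H) : SL2F) : Mat2F) * ((g : SL2F) : Mat2F) = 1 := by
        rw [← Matrix.SpecialLinearGroup.coe_mul, ← Subgroup.coe_mul, inv_mul_cancel]
        rfl
      rw [e1, ← Matrix.mulVec_mulVec, ← Matrix.mulVec_mulVec, Matrix.mulVec_mulVec e, e2,
        Matrix.one_mulVec, hxe]
  · push Not at hcfg
    apply hPQ
    by_cases hPbot : (P : Subgroup H) = ⊥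
    · have h1 : Nat.card (P : Subgroup H) = Nat.card (Q : Subgroup H) := by
        rw [P.card_eq_multiplicity, Q.card_eq_multiplicity]
      rw [hPbot, Subgroup.card_bot] at h1
      have hQbot : (Q : Subgroup H) = ⊥ := Subgroup.card_eq_one.mp h1.symm
      exact Sylow.ext (hPbot.trans hQbot.symm)
    · have hPnt : Nat.card (P : Subgroup H) ≠ 1 := fun h => hPbot (Subgroup.card_eq_one.mp h)
      obtain ⟨n, hn⟩ := P.2.exists_card_eq
      have hpdvd : p ∣ Nat.card (P : Subgroup H) := by
        rw [hn]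
        rcases n with _ | n
        · exact absurd (by rw [hn]; rfl) hPnt
        · exact dvd_pow_self p (Nat.succ_ne_zero n)
      obtain ⟨x', hx'⟩ := exists_prime_orderOf_dvd_card' (G := (P : Subgroup H)) p hpdvd
      obtain ⟨x, hx⟩ : ∃ x : H, x = (x' : H) := ⟨_, rfl⟩
      have hxp : x ^ p = 1 := by
        have h1 := pow_orderOf_eq_one x'
        rw [hx'] at h1
        rw [hx]
        exact_mod_cast congrArg Subtype.val h1
      have hx1 : x ≠ 1 := by
        intro h
        have h1 : x' = 1 := Subtype.ext (by rw [← hx, h]; rfl)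
        rw [h1, orderOf_one] at hx'
        exact hpr.one_lt.ne hx'
      obtain ⟨X, hX⟩ : ∃ X : Mat2F, X = ((x : SL2F) : Mat2F) := ⟨_, rfl⟩
      have hXp : X ^ p = 1 := by
        rw [hX, ← Matrix.SpecialLinearGroup.coe_pow, ← Subgroup.coe_pow, hxp]
        rfl
      have hNp' : (X - 1) ^ p = 0 := by
        rw [sub_pow_char_of_commute p (Commute.one_right X), hXp, one_pow, sub_self]
      have hdet : (X - 1).det = 0 := by
        have h1 := congrArg Matrix.det hNp'
        rw [Matrix.det_pow, Matrix.det_zero] at h1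
        exact pow_eq_zero_iff hpr.ne_zero |>.mp h1
      obtain ⟨e, he0, heN⟩ := Matrix.exists_mulVec_eq_zero_iff.mpr hdet
      have hXe : X.mulVec e = e := by
        rw [Matrix.sub_mulVec, Matrix.one_mulVec, sub_eq_zero] at heN
        exact heN
      rw [hX] at hXe
      have hscal : ∀ g : H, ∃ c : F, ((g : SL2F) : Mat2F).mulVec e = c • e := by
        intro g
        have h0 := hcfg x g e hxp hx1 hXe
        exact exists_smul_of_det_zero e _ he0 h0
      let U : Subgroup H :=
        { carrier := {h | ((h : SL2F) : Mat2F).mulVec e = e}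
          one_mem' := by
            show (((1 : H) : SL2F) : Mat2F).mulVec e = e
            rw [Subgroup.coe_one, Matrix.SpecialLinearGroup.coe_one, Matrix.one_mulVec]
          mul_mem' := by
            intro a b ha hb
            have ha' : ((a : SL2F) : Mat2F).mulVec e = e := ha
            have hb' : ((b : SL2F) : Mat2F).mulVec e = e := hb
            show (((a * b : H) : SL2F) : Mat2F).mulVec e = e
            rw [Subgroup.coe_mul, Matrix.SpecialLinearGroup.coe_mul, ← Matrix.mulVec_mulVec, hb',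
              ha']
          inv_mem' := by
            intro a ha
            have ha' : ((a : SL2F) : Mat2F).mulVec e = e := ha
            have e2 : (((a⁻¹ : H) : SL2F) : Mat2F) * ((a : SL2F) : Mat2F) = 1 := by
              rw [← Matrix.SpecialLinearGroup.coe_mul, ← Subgroup.coe_mul, inv_mul_cancel]
              rfl
            show (((a⁻¹ : H) : SL2F) : Mat2F).mulVec e = e
            calc (((a⁻¹ : H) : SL2F) : Mat2F).mulVec e
                = (((a⁻¹ : H) : SL2F) : Mat2F).mulVec (((a : SL2F) : Mat2F).mulVec e) := by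
                  rw [ha']
              _ = e := by rw [Matrix.mulVec_mulVec, e2, Matrix.one_mulVec] }
      have hUmem : ∀ h : H, h ∈ U ↔ ((h : SL2F) : Mat2F).mulVec e = e := fun h => Iff.rfl
      have hUp : IsPGroup p U := by
        intro u
        refine ⟨1, ?_⟩
        rw [pow_one]
        apply Subtype.ext
        apply Subtype.ext
        have h1 := sl2_pow_p_of_fix p ((u : H) : SL2F) e he0 ((hUmem _).mp u.2)
        rw [Subgroup.coe_pow, Subgroup.coe_pow, h1]
        rfl
      have hle : ∀ R : Sylow p H, (R : Subgroup H) ≤ U := by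
        intro R h hh
        obtain ⟨c, hc⟩ := hscal h
        obtain ⟨k, hk⟩ := R.2 ⟨h, hh⟩
        have hk' : h ^ (p ^ k) = 1 := by
          have h5 := congrArg Subtype.val hk
          simpa using h5
        have h1 := pow_mulVec_of_eigen _ e c hc (p ^ k)
        rw [← Matrix.SpecialLinearGroup.coe_pow, ← Subgroup.coe_pow, hk', Subgroup.coe_one,
          Matrix.SpecialLinearGroup.coe_one, Matrix.one_mulVec] at h1
        have hc1 : c ^ (p ^ k) = 1 := by
          obtain ⟨i, hi⟩ : ∃ i, e i ≠ 0 := by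
            by_contra hcon
            push Not at hcon
            exact he0 (funext hcon)
          have h3 := congrFun h1 i
          simp only [Pi.smul_apply, smul_eq_mul] at h3
          have h4 : (c ^ (p ^ k) - 1) * e i = 0 := by linear_combination -h3
          exact sub_eq_zero.mp ((mul_eq_zero.mp h4).resolve_right hi)
        have hc' : c = 1 := by
          have h3 : (c - 1) ^ (p ^ k) = 0 := by rw [sub_pow_char_pow, hc1, one_pow, sub_self]
          exact sub_eq_zero.mp (pow_eq_zero_iff (pow_ne_zero k hpr.ne_zero) |>.mp h3)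
        rw [hUmem, hc, hc', one_smul]
      have hPU : U = (P : Subgroup H) := P.is_maximal' hUp (hle P)
      have hQU : U = (Q : Subgroup H) := Q.is_maximal' hUp (hle Q)
      exact Sylow.ext (hPU.symm.trans hQU)

/-- a subgroup of `SL(2, F)`, `F` finite of odd characteristic `p`, with more than one Sylow
`p`-subgroup has generalized quaternion Sylow `2`-subgroups -/
theorem sl2_sylow_two_quaternion (p : ℕ) [Fact p.Prime] [CharP F p] (hp : p ≠ 2)
    (H : Subgroup SL2F) (hH : 1 < Nat.card (Sylow p H)) (S : Sylow 2 H) :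
    ∃ k : ℕ, 1 ≤ k ∧ Nonempty ((S : Subgroup H) ≃* QuaternionGroup (2 ^ k)) := by
  classical
  have hpr : p.Prime := Fact.out
  have : Finite SL2F :=
    Finite.of_injective (fun g : SL2F => (g : Mat2F)) Subtype.val_injective
  have h2 : (2 : F) ≠ 0 := by
    intro h
    have h' : ((2 : ℕ) : F) = 0 := by exact_mod_cast h
    have h3 := (CharP.cast_eq_zero_iff F p 2).mp h'
    exact hp ((Nat.prime_dvd_prime_iff_eq hpr Nat.prime_two).mp h3)
  have hnc : ¬ IsCyclic (S : Subgroup H) := fun h => sl2_sylow_two_not_cyclic p hp H hH S h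
  obtain ⟨ι, hι⟩ : ∃ ι : (S : Subgroup H) →* SL2F, Function.Injective ι :=
    ⟨H.subtype.comp (S : Subgroup H).subtype,
      H.subtype_injective.comp (S : Subgroup H).subtype_injective⟩
  have huniq : ∀ A B : Subgroup (S : Subgroup H), Nat.card A = 2 → Nat.card B = 2 → A = B := by
    have key : ∀ A : Subgroup (S : Subgroup H), Nat.card A = 2 →
        ∀ s : (S : Subgroup H), s ∈ A ↔ (s = 1 ∨ (s ≠ 1 ∧ s * s = 1)) := by
      intro A hA s
      have hsq : ∀ a ∈ A, a * a = 1 := by
        intro a ha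
        have h1 := pow_card_eq_one' (G := A) (x := ⟨a, ha⟩)
        rw [hA, pow_two] at h1
        exact congrArg Subtype.val h1
      constructor
      · intro hs
        by_cases h1 : s = 1
        · exact Or.inl h1
        · exact Or.inr ⟨h1, hsq s hs⟩
      · rintro (h1 | ⟨h1, h3⟩)
        · rw [h1]; exact A.one_mem
        · have hAne : A ≠ ⊥ := by
            intro hb
            rw [hb, Subgroup.card_bot] at hA
            omega
          obtain ⟨t, ht⟩ := (Subgroup.ne_bot_iff_exists_ne_one).mp hAne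
          have ht1 : (t : (S : Subgroup H)) ≠ 1 := fun h => ht (Subtype.ext h)
          have ht2 := hsq t t.2
          have hst : s = (t : (S : Subgroup H)) := by
            apply hι
            apply sl2_invol_unique h2
            · rw [← map_mul, h3, map_one]
            · intro h; exact h1 (hι (by rw [h, map_one]))
            · rw [← map_mul, ht2, map_one]
            · intro h; exact ht1 (hι (by rw [h, map_one]))
          rw [hst]; exact t.2
    intro A B hA hB
    ext s
    rw [key A hA, key B hB]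
  rcases Cfsg.Agent.Lead.cyclic_or_quaternion_of_unique_involution S.isPGroup' huniq with
    hc | ⟨n, ⟨e⟩⟩
  · exact absurd hc hnc
  · refine ⟨n, ?_, ⟨e⟩⟩
    by_contra hn
    have hn0 : n = 0 := by omega
    subst hn0
    apply hnc
    have : IsCyclic (QuaternionGroup (2 ^ 0)) := by
      show IsCyclic (QuaternionGroup 1)
      exact QuaternionGroup.quaternionGroup_one_isCyclic
    exact isCyclic_of_surjective e.symm.toMonoidHom e.symm.surjective

end main

end Cfsg.Agent.Helper1.GL2Odd
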