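import Mathlib
import Cfsg.Prelude.Def_Transfer
import Cfsg.Agent.S0012
import Cfsg.Agent.Helper22.PRankBound
import Cfsg.Agent.Helper1.ExtraIso

/-!
Helper library (seat helper1): the Heisenberg group of order `p^(1+2n)` over `ZMod p`, its
extraspecial structure and a faithful linear representation of degree `n + 2`.
-/

set_option autoImplicit false

namespace Cfsg.Agent.Helper1

open scoped commutatorElement
open Matrix

/-- a non-abelian group with `ESData p` is extraspecial -/
theorem extraspecial_of_esdata {p : ℕ} [Fact p.Prime] {E : Type*} [Group E] [Finite E] {z : E}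
    (es : ESData p E z) (hna : ∃ x : E, x ∉ Subgroup.center E) : Cfsg.IsExtraspecial p E := by
  have hp : p.Prime := Fact.out
  have hcomm : commutator E = Subgroup.center E := by
    apply le_antisymm
    · rw [commutator_eq_closure, Subgroup.closure_le]
      rintro _ ⟨a, b, rfl⟩
      rw [es.hcen]; exact es.hcomm a b
    · rw [es.hcen, Subgroup.zpowers_le]
      obtain ⟨x, hx⟩ := hna
      obtain ⟨y, hy⟩ := es.exists_comm_eq x hx
      rw [← hy]
      exact Subgroup.commutator_mem_commutator (Subgroup.mem_top y) (Subgroup.mem_top x)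
  have hpg : IsPGroup p E := by
    intro g
    refine ⟨2, ?_⟩
    obtain ⟨k, hk⟩ := Subgroup.mem_zpowers_iff.mp (es.hpow g)
    rw [pow_two, pow_mul, ← hk, ← zpow_natCast, ← _root_.zpow_mul, mul_comm, _root_.zpow_mul, zpow_natCast,
      es.hzp, _root_.one_zpow]
  refine ⟨⟨hpg, ?_, hcomm⟩, es.card_center⟩
  apply le_antisymm
  · apply Cfsg.Agent.Helper22.frattini_le_of_pow_mem p hp (Subgroup.center E)
    · intro x m
      rw [es.hcen]
      exact es.hcomm x m
    · intro x; rw [es.hcen]; exact es.hpow x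
  · rw [← hcomm]; exact (Cfsg.Agent.S0012.result p hpg).1

/-- transport of `ESData` along an isomorphism -/
theorem ESData.map {p : ℕ} {E F : Type*} [Group E] [Group F] {z : E} (es : ESData p E z)
    (e : E ≃* F) : ESData p F (e z) := by
  have hmem : ∀ g : E, g ∈ Subgroup.zpowers z → e g ∈ Subgroup.zpowers (e z) := by
    intro g hg
    obtain ⟨k, rfl⟩ := Subgroup.mem_zpowers_iff.mp hg
    rw [map_zpow]; exact Subgroup.zpow_mem_zpowers _ _
  refine ⟨?_, ?_, ?_, ?_, ?_⟩
  · exact (MulEquiv.map_ne_one_iff e).mpr es.hz1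
  · rw [← map_pow, es.hzp, map_one]
  · ext x
    constructor
    · intro hx
      have h1 : e.symm x ∈ Subgroup.center E := by
        rw [Subgroup.mem_center_iff]
        intro g
        apply e.injective
        rw [map_mul, map_mul, e.apply_symm_apply]
        exact Subgroup.mem_center_iff.mp hx (e g)
      rw [es.hcen] at h1
      have := hmem _ h1
      rwa [e.apply_symm_apply] at this
    · intro hx
      obtain ⟨k, rfl⟩ := Subgroup.mem_zpowers_iff.mp hx
      rw [← map_zpow]
      rw [Subgroup.mem_center_iff]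
      intro g
      have h1 : z ^ k ∈ Subgroup.center E := by
        rw [es.hcen]; exact Subgroup.zpow_mem_zpowers _ _
      have h2 := Subgroup.mem_center_iff.mp h1 (e.symm g)
      have h3 := congrArg e h2
      rwa [map_mul, map_mul, e.apply_symm_apply] at h3
  · intro a b
    have h1 := hmem _ (es.hcomm (e.symm a) (e.symm b))
    rwa [map_commutatorElement, e.apply_symm_apply, e.apply_symm_apply] at h1
  · intro a
    have h1 := hmem _ (es.hpow (e.symm a))
    rwa [map_pow, e.apply_symm_apply] at h1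

/-- the Heisenberg group over `ZMod p` -/
@[ext] structure HeisP (p n : ℕ) where
  /-- row part -/
  a : Fin n → ZMod p
  /-- column part -/
  b : Fin n → ZMod p
  /-- central part -/
  c : ZMod p

namespace HeisP

variable {p n : ℕ}

instance : Mul (HeisP p n) := ⟨fun x y => ⟨x.a + y.a, x.b + y.b, x.c + y.c + x.a ⬝ᵥ y.b⟩⟩
instance : One (HeisP p n) := ⟨⟨0, 0, 0⟩⟩
instance : Inv (HeisP p n) := ⟨fun x => ⟨-x.a, -x.b, -x.c + x.a ⬝ᵥ x.b⟩⟩

@[simp] theorem mul_a (x y : HeisP p n) : (x * y).a = x.a + y.a := rfl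
@[simp] theorem mul_b (x y : HeisP p n) : (x * y).b = x.b + y.b := rfl
@[simp] theorem mul_c (x y : HeisP p n) : (x * y).c = x.c + y.c + x.a ⬝ᵥ y.b := rfl
@[simp] theorem one_a : (1 : HeisP p n).a = 0 := rfl
@[simp] theorem one_b : (1 : HeisP p n).b = 0 := rfl
@[simp] theorem one_c : (1 : HeisP p n).c = 0 := rfl
@[simp] theorem inv_a (x : HeisP p n) : (x⁻¹).a = -x.a := rfl
@[simp] theorem inv_b (x : HeisP p n) : (x⁻¹).b = -x.b := rfl
@[simp] theorem inv_c (x : HeisP p n) : (x⁻¹).c = -x.c + x.a ⬝ᵥ x.b := rfl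

instance : Group (HeisP p n) where
  mul_assoc x y z := by
    ext1
    · simp only [mul_a]; rw [add_assoc]
    · simp only [mul_b]; rw [add_assoc]
    · simp only [mul_c, mul_a, mul_b]
      rw [add_dotProduct, dotProduct_add]; ring
  one_mul x := by
    ext1
    · simp
    · simp
    · simp
  mul_one x := by
    ext1
    · simp
    · simp
    · simp
  inv_mul_cancel x := by
    ext1
    · simp
    · simp
    · simp

theorem pow_a (x : HeisP p n) (k : ℕ) : (x ^ k).a = k • x.a := by
  induction k with
  | zero => simp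
  | succ k ih => rw [pow_succ, mul_a, ih, succ_nsmul]

theorem pow_b (x : HeisP p n) (k : ℕ) : (x ^ k).b = k • x.b := by
  induction k with
  | zero => simp
  | succ k ih => rw [pow_succ, mul_b, ih, succ_nsmul]

theorem pow_c (x : HeisP p n) (k : ℕ) :
    (x ^ k).c = (k : ZMod p) * x.c + (k.choose 2 : ZMod p) * (x.a ⬝ᵥ x.b) := by
  induction k with
  | zero => simp
  | succ k ih =>
    rw [pow_succ, mul_c, ih, pow_a, smul_dotProduct, Nat.choose_succ_succ', Nat.choose_one_right]
    rw [nsmul_eq_mul]
    push_cast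
    ring

theorem pow_p [Fact p.Prime] (hp2 : p ≠ 2) (x : HeisP p n) : x ^ p = 1 := by
  have hp : p.Prime := Fact.out
  have h0 : ((p : ℕ) : ZMod p) = 0 := ZMod.natCast_self p
  ext1
  · rw [pow_a, one_a]
    ext i
    simp [nsmul_eq_mul]
  · rw [pow_b, one_b]
    ext i
    simp [nsmul_eq_mul]
  · rw [pow_c, one_c, h0]
    have h2 : ((p.choose 2 : ℕ) : ZMod p) = 0 := by
      rw [ZMod.natCast_eq_zero_iff]
      exact hp.dvd_choose_self (by norm_num) (by have := hp.two_le; omega)
    rw [h2]; ring

/-- the central generator -/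
def z : HeisP p n := ⟨0, 0, 1⟩

/-- projection onto the abelian quotient -/
def proj : HeisP p n →* Multiplicative ((Fin n → ZMod p) × (Fin n → ZMod p)) where
  toFun g := Multiplicative.ofAdd (g.a, g.b)
  map_one' := rfl
  map_mul' _ _ := rfl

theorem mem_ker_proj (g : HeisP p n) : g ∈ (proj (p := p) (n := n)).ker ↔ g.a = 0 ∧ g.b = 0 := by
  rw [MonoidHom.mem_ker]
  show Multiplicative.ofAdd (g.a, g.b) = Multiplicative.ofAdd ((0 : Fin n → ZMod p), (0 : Fin n → ZMod p)) ↔ _
  rw [Multiplicative.ofAdd.injective.eq_iff, Prod.mk.injEq]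

theorem zpowers_z [NeZero p] : Subgroup.zpowers (z : HeisP p n) = (proj (p := p) (n := n)).ker := by
  apply le_antisymm
  · rw [Subgroup.zpowers_le, mem_ker_proj]; exact ⟨rfl, rfl⟩
  · intro g hg
    rw [mem_ker_proj] at hg
    have : g = z ^ g.c.val := by
      ext1
      · rw [pow_a, hg.1]; simp [z]
      · rw [pow_b, hg.2]; simp [z]
      · rw [pow_c]; simp [z]
    rw [this]; exact Subgroup.npow_mem_zpowers _ _

theorem z_central (g : HeisP p n) : g * z = z * g := by
  ext1
  · simp [z]
  · simp [z]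
  · simp [z]; ring

theorem esdata [Fact p.Prime] (hp2 : p ≠ 2) : ESData p (HeisP p n) z := by
  have hp : p.Prime := Fact.out
  have : NeZero p := ⟨hp.ne_zero⟩
  have : Fact (1 < p) := ⟨hp.one_lt⟩
  refine ⟨?_, pow_p hp2 z, ?_, ?_, ?_⟩
  · intro h
    have := congrArg HeisP.c h
    simp [z] at this
  · apply le_antisymm
    · intro x hx
      rw [zpowers_z, mem_ker_proj]
      rw [Subgroup.mem_center_iff] at hx
      constructor
      · ext i
        have := congrArg HeisP.c (hx ⟨0, Pi.single i 1, 0⟩)
        simp at this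
        simpa using this
      · ext i
        have := congrArg HeisP.c (hx ⟨Pi.single i 1, 0, 0⟩)
        simp at this
        simpa using this
    · rw [Subgroup.zpowers_le, Subgroup.mem_center_iff]
      exact z_central
  · intro a b
    rw [zpowers_z, MonoidHom.mem_ker, map_commutatorElement]
    exact commutatorElement_eq_one_iff_commute.mpr (Commute.all _ _)
  · intro a
    rw [pow_p hp2 a]; exact one_mem _

/-- underlying data -/
def equivProd : HeisP p n ≃ (Fin n → ZMod p) × (Fin n → ZMod p) × ZMod p where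
  toFun g := (g.a, g.b, g.c)
  invFun t := ⟨t.1, t.2.1, t.2.2⟩
  left_inv _ := rfl
  right_inv _ := rfl

instance [NeZero p] : Finite (HeisP p n) := Finite.of_equiv _ (equivProd (p := p) (n := n)).symm

theorem card [NeZero p] : Nat.card (HeisP p n) = p ^ (1 + 2 * n) := by
  rw [Nat.card_congr (equivProd (p := p) (n := n)), Nat.card_prod, Nat.card_prod, Nat.card_fun,
    Nat.card_zmod, Nat.card_fin]
  ring

theorem exists_noncentral [Fact p.Prime] (hn : 1 ≤ n) :
    ∃ x : HeisP p n, x ∉ Subgroup.center (HeisP p n) := by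
  have hp : p.Prime := Fact.out
  have : Fact (1 < p) := ⟨hp.one_lt⟩
  refine ⟨⟨Pi.single ⟨0, hn⟩ 1, 0, 0⟩, ?_⟩
  intro hx
  rw [Subgroup.mem_center_iff] at hx
  have := congrArg HeisP.c (hx ⟨0, Pi.single ⟨0, hn⟩ 1, 0⟩)
  simp at this

theorem extraspecial [Fact p.Prime] (hp2 : p ≠ 2) (hn : 1 ≤ n) :
    Cfsg.IsExtraspecial p (HeisP p n) := by
  have hp : p.Prime := Fact.out
  have : NeZero p := ⟨hp.ne_zero⟩
  exact extraspecial_of_esdata (esdata hp2) (exists_noncentral hn)

/-- the module of the natural representation -/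
abbrev W (p n : ℕ) := ZMod p × (Fin n → ZMod p) × ZMod p

/-- the natural representation -/
def T (h : HeisP p n) : W p n →ₗ[ZMod p] W p n where
  toFun w := (w.1 + h.a ⬝ᵥ w.2.1 + h.c * w.2.2, w.2.1 + w.2.2 • h.b, w.2.2)
  map_add' u v := by
    refine Prod.ext ?_ (Prod.ext ?_ ?_)
    · simp [dotProduct_add, mul_add]; ring
    · simp [add_smul]; abel
    · simp
  map_smul' r v := by
    refine Prod.ext ?_ (Prod.ext ?_ ?_)
    · simp [dotProduct_smul, mul_add]; ring
    · simp [mul_smul, smul_add]
    · simp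

theorem T_apply (h : HeisP p n) (w : W p n) :
    T h w = (w.1 + h.a ⬝ᵥ w.2.1 + h.c * w.2.2, w.2.1 + w.2.2 • h.b, w.2.2) := rfl

theorem T_mul (h h' : HeisP p n) : T (h * h') = T h * T h' := by
  apply LinearMap.ext
  intro w
  rw [Module.End.mul_apply, T_apply, T_apply, T_apply]
  refine Prod.ext ?_ (Prod.ext ?_ ?_)
  · simp [add_dotProduct, dotProduct_add, dotProduct_smul]; ring
  · simp [smul_add]; abel
  · simp

theorem T_one : T (1 : HeisP p n) = 1 := by
  apply LinearMap.ext
  intro w
  rw [T_apply]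
  simp

/-- the representation as a monoid hom -/
def Thom : HeisP p n →* Module.End (ZMod p) (W p n) where
  toFun := T
  map_one' := T_one
  map_mul' := T_mul

theorem T_eq_one [Fact p.Prime] (h : HeisP p n) (hT : T h = 1) : h = 1 := by
  have hp : p.Prime := Fact.out
  have : Fact (1 < p) := ⟨hp.one_lt⟩
  have h1 := congrArg (fun f : Module.End (ZMod p) (W p n) => f (0, 0, 1)) hT
  simp only [T_apply, Module.End.one_apply] at h1
  have hc : h.c = 0 := by
    have := congrArg Prod.fst h1
    simpa using this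
  have hb : h.b = 0 := by
    have := congrArg (fun t : W p n => t.2.1) h1
    simpa using this
  have ha : h.a = 0 := by
    ext i
    have h2 := congrArg (fun f : Module.End (ZMod p) (W p n) => f (0, Pi.single i 1, 0)) hT
    simp only [T_apply, Module.End.one_apply] at h2
    have := congrArg Prod.fst h2
    simpa using this
  ext1
  · exact ha
  · exact hb
  · exact hc

theorem finrank_W [NeZero p] [Fact p.Prime] : Module.finrank (ZMod p) (W p n) =
    Module.finrank (ZMod p) (Fin (n + 2) → ZMod p) := by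
  rw [Module.finrank_prod, Module.finrank_prod, Module.finrank_fin_fun, Module.finrank_fin_fun,
    Module.finrank_self]
  omega

/-- the embedding into `GL_{n+2}(p)` -/
noncomputable def toGL [NeZero p] [Fact p.Prime] :
    HeisP p n →* Matrix.GeneralLinearGroup (Fin (n + 2)) (ZMod p) :=
  (Matrix.GeneralLinearGroup.toLin.symm.toMonoidHom).comp
    ((Units.mapEquiv (LinearEquiv.conjRingEquiv
      (LinearEquiv.ofFinrankEq (W p n) (Fin (n + 2) → ZMod p) finrank_W)).toMulEquiv).toMonoidHom.comp
      (Thom (p := p) (n := n)).toHomUnits)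

theorem toGL_injective [NeZero p] [Fact p.Prime] : Function.Injective (toGL (p := p) (n := n)) := by
  rw [injective_iff_map_eq_one]
  intro h hh
  unfold toGL at hh
  rw [MonoidHom.comp_apply, MonoidHom.comp_apply] at hh
  have h1 := (MulEquiv.map_eq_one_iff _).mp hh
  have h2 := (MulEquiv.map_eq_one_iff _).mp h1
  apply T_eq_one
  have h3 := congrArg Units.val h2
  rwa [MonoidHom.coe_toHomUnits] at h3

/-- extraspecial groups of exponent `p` and order `p^(1+2n)` inside `GL_{n+2}(p)` -/
theorem exists_extraspecial_gl (p : ℕ) [Fact p.Prime] (hp2 : p ≠ 2) (n : ℕ) (hn : 1 ≤ n) :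
    ∃ E : Subgroup (Matrix.GeneralLinearGroup (Fin (n + 2)) (ZMod p)),
      Cfsg.IsExtraspecial p ↥E ∧ Nat.card E = p ^ (1 + 2 * n) ∧ ∀ x ∈ E, x ^ p = 1 := by
  have hp : p.Prime := Fact.out
  have : NeZero p := ⟨hp.ne_zero⟩
  let e : HeisP p n ≃* (toGL (p := p) (n := n)).range := MonoidHom.ofInjective toGL_injective
  refine ⟨(toGL (p := p) (n := n)).range, ?_, ?_, ?_⟩
  · obtain ⟨x, hx⟩ := exists_noncentral (p := p) hn
    apply extraspecial_of_esdata ((esdata hp2).map e)
    refine ⟨e x, ?_⟩
    intro hc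
    apply hx
    rw [Subgroup.mem_center_iff] at hc ⊢
    intro g
    apply e.injective
    rw [map_mul, map_mul]
    exact hc (e g)
  · rw [← Nat.card_congr e.toEquiv, card]
  · rintro _ ⟨h, rfl⟩
    rw [← map_pow, pow_p hp2, map_one]

end HeisP

end Cfsg.Agent.Helper1
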