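import Mathlib
import Cfsg.Prelude.Def_IsolatedElements
import Cfsg.Prelude.Def_CaseTheorems
import Cfsg.Agent.Helper24.CycSylow
import Cfsg.Agent.S0071
import Cfsg.Agent.S0120
import Cfsg.Agent.Helper10.CopGen
import Cfsg.Agent.Helper1.Alperin

/-!
# Isolated elements of order `p` in groups of `p`-rank at most two (helper1)
-/

set_option autoImplicit false

namespace Cfsg.Agent.Helper1.IsoRank2

open Cfsg
open scoped commutatorElement

universe u

/-- a nontrivial `p`-subgroup has an element of order `p`. -/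
theorem exists_order_p {G : Type*} [Group G] [Finite G] {p : ℕ} [Fact p.Prime]
    (A : Subgroup G) (hA : IsPGroup p A) (hA1 : A ≠ ⊥) : ∃ a ∈ A, orderOf a = p := by
  have hp : p.Prime := Fact.out
  obtain ⟨n, hn⟩ := hA.exists_card_eq
  have hn0 : n ≠ 0 := by
    rintro rfl
    rw [pow_zero] at hn
    exact hA1 ((Subgroup.card_eq_one).mp hn)
  have hdvd : p ∣ Nat.card A := by rw [hn]; exact dvd_pow_self p hn0
  obtain ⟨a', ha'⟩ := exists_prime_orderOf_dvd_card' p hdvd
  exact ⟨(a' : G), a'.2, by rw [Subgroup.orderOf_coe]; exact ha'⟩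

/-- an isolated element commutes with every `p`-subgroup containing it. -/
theorem iso_comm_pgroup {G : Type*} [Group G] [Finite G] {p : ℕ} [Fact p.Prime] (x : G)
    (hiso : Cfsg.IsIsolated x) (Q : Subgroup G) (hQ : IsPGroup p Q) (hxQ : x ∈ Q) :
    ∀ y ∈ Q, x * y = y * x := by
  have hnil : Group.IsNilpotent ↥Q := hQ.isNilpotent
  obtain ⟨C, hC⟩ : ∃ C : Subgroup ↥Q, C = Subgroup.centralizer {(⟨x, hxQ⟩ : ↥Q)} := ⟨_, rfl⟩
  have hxC : (⟨x, hxQ⟩ : ↥Q) ∈ C := by
    rw [hC, Subgroup.mem_centralizer_iff]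
    intro h hh
    rw [Set.mem_singleton_iff] at hh
    rw [hh]
  have htop : C = ⊤ := by
    by_contra hne
    have hlt : C < ⊤ := lt_top_iff_ne_top.mpr hne
    have hN := Group.normalizerCondition_of_isNilpotent (G := ↥Q) C hlt
    obtain ⟨g, hgN, hgC⟩ := SetLike.exists_of_lt hN
    apply hgC
    have h1 : g * ⟨x, hxQ⟩ * g⁻¹ ∈ C := (Subgroup.mem_normalizer_iff.mp hgN _).mp hxC
    rw [hC, Subgroup.mem_centralizer_iff] at h1
    have h2 := h1 ⟨x, hxQ⟩ (Set.mem_singleton _)
    have h3 : x * ((g : G) * x * (g : G)⁻¹) = (g : G) * x * (g : G)⁻¹ * x := by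
      have := congrArg Subtype.val h2
      simpa using this
    have h4 := hiso (g : G) h3
    rw [hC, Subgroup.mem_centralizer_iff]
    intro h hh
    rw [Set.mem_singleton_iff] at hh
    rw [hh]
    apply Subtype.ext
    show x * (g : G) = (g : G) * x
    calc x * (g : G) = ((g : G) * x * (g : G)⁻¹) * (g : G) := by rw [h4]
      _ = (g : G) * x := by group
  intro y hy
  have hyC : (⟨y, hy⟩ : ↥Q) ∈ C := by rw [htop]; exact Subgroup.mem_top _
  rw [hC, Subgroup.mem_centralizer_iff] at hyC
  have := hyC ⟨x, hxQ⟩ (Set.mem_singleton _)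
  exact congrArg Subtype.val this

/-- in an abelian group of exponent `p` and order at most `p ^ 2`, an element of order `p` and
an element outside its cyclic subgroup generate. -/
theorem rank2_comm {A : Type*} [Group A] [Finite A] {p : ℕ} [Fact p.Prime]
    (hc : ∀ a b : A, a * b = b * a) (hexp : ∀ a : A, a ^ p = 1) (hcard : Nat.card A ≤ p ^ 2)
    (x t u : A) (hx : orderOf x = p) (htx : t ∉ Subgroup.zpowers x) :
    ∃ i j : ℤ, u = x ^ i * t ^ j := by
  have hp : p.Prime := Fact.out
  have hA : IsPGroup p A := fun a => ⟨1, by rw [pow_one]; exact hexp a⟩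
  obtain ⟨B, hB⟩ : ∃ B : Subgroup A, B = Subgroup.zpowers x ⊔ Subgroup.zpowers t := ⟨_, rfl⟩
  have hxB : Subgroup.zpowers x ≤ B := hB ▸ le_sup_left
  have htB : t ∈ B := by
    rw [hB]
    exact (le_sup_right : Subgroup.zpowers t ≤ _) (Subgroup.mem_zpowers t)
  obtain ⟨m, hm⟩ := (hA.to_subgroup B).exists_card_eq
  have hlt : p < Nat.card B := by
    by_contra hle
    push Not at hle
    have : Subgroup.zpowers x = B := by
      apply Subgroup.eq_of_le_of_card_ge hxB
      rw [Nat.card_zpowers, hx]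
      exact hle
    exact htx (this ▸ htB)
  have hm2 : 2 ≤ m := by
    by_contra hm2
    have : m = 0 ∨ m = 1 := by omega
    rcases this with rfl | rfl
    · rw [pow_zero] at hm
      rw [hm] at hlt
      have := hp.one_lt
      omega
    · rw [pow_one] at hm
      rw [hm] at hlt
      exact lt_irrefl _ hlt
  have hBtop : B = ⊤ := by
    apply Subgroup.eq_top_of_le_card
    rw [hm]
    exact hcard.trans (Nat.pow_le_pow_right hp.pos hm2)
  have hu : u ∈ B := by rw [hBtop]; exact Subgroup.mem_top u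
  rw [hB] at hu
  let _ : CommGroup A := { ‹Group A› with mul_comm := hc }
  obtain ⟨a, ha, b, hb, hab⟩ := Subgroup.mem_sup.mp hu
  obtain ⟨i, rfl⟩ := Subgroup.mem_zpowers_iff.mp ha
  obtain ⟨j, rfl⟩ := Subgroup.mem_zpowers_iff.mp hb
  exact ⟨i, j, hab.symm⟩

/-- in a group of `p`-rank at most two: an element of order dividing `p` commuting with two
commuting independent elements of order (dividing) `p` is a product of their powers. -/
theorem rank2_gen {G : Type*} [Group G] [Finite G] {p : ℕ} [Fact p.Prime]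
    (hrank : Cfsg.PRankLE p 2 G) (x t u : G) (hx : orderOf x = p) (ht : t ^ p = 1)
    (hu : u ^ p = 1) (hxt : x * t = t * x) (hxu : x * u = u * x) (htu : t * u = u * t)
    (htx : t ∉ Subgroup.zpowers x) : ∃ i j : ℤ, u = x ^ i * t ^ j := by
  obtain ⟨A, hA⟩ : ∃ A : Subgroup G, A = Subgroup.closure ({x, t, u} : Set G) := ⟨_, rfl⟩
  have hS : ∀ s ∈ ({x, t, u} : Set G), ∀ r ∈ ({x, t, u} : Set G), s * r = r * s := by
    intro s hs r hr
    simp only [Set.mem_insert_iff, Set.mem_singleton_iff] at hs hr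
    rcases hs with rfl | rfl | rfl <;> rcases hr with rfl | rfl | rfl <;>
      first | rfl | assumption | (symm; assumption)
  have hcomm : ∀ a ∈ A, ∀ b ∈ A, a * b = b * a := by
    rw [hA]; exact Cfsg.Agent.Helper1.closure_comm _ hS
  have hexp : ∀ a ∈ A, a ^ p = 1 := by
    intro a ha
    rw [hA] at ha
    induction ha using Subgroup.closure_induction with
    | mem s hs =>
      simp only [Set.mem_insert_iff, Set.mem_singleton_iff] at hs
      rcases hs with rfl | rfl | rfl
      · rw [← hx]; exact pow_orderOf_eq_one _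
      · exact ht
      · exact hu
    | one => exact one_pow p
    | mul a b ha hb iha ihb =>
      have hab : Commute a b := hcomm a (by rw [hA]; exact ha) b (by rw [hA]; exact hb)
      rw [hab.mul_pow, iha, ihb, one_mul]
    | inv a ha iha => rw [inv_pow, iha, inv_one]
  have hAc : IsMulCommutative ↥A := ⟨⟨fun a b => Subtype.ext (hcomm a a.2 b b.2)⟩⟩
  have hcard := hrank A hAc hexp
  have hxA : x ∈ A := by rw [hA]; exact Subgroup.subset_closure (by simp)
  have htA : t ∈ A := by rw [hA]; exact Subgroup.subset_closure (by simp)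
  have huA : u ∈ A := by rw [hA]; exact Subgroup.subset_closure (by simp)
  obtain ⟨i, j, hij⟩ := rank2_comm (A := ↥A) (p := p)
    (fun a b => Subtype.ext (hcomm a a.2 b b.2))
    (fun a => Subtype.ext (by simpa using hexp a a.2)) hcard ⟨x, hxA⟩ ⟨t, htA⟩ ⟨u, huA⟩
    (by rw [Subgroup.orderOf_mk]; exact hx) (by
      intro hmem
      obtain ⟨k, hk⟩ := Subgroup.mem_zpowers_iff.mp hmem
      apply htx
      rw [Subgroup.mem_zpowers_iff]
      refine ⟨k, ?_⟩
      have := congrArg Subtype.val hk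
      simpa using this)
  refine ⟨i, j, ?_⟩
  have := congrArg Subtype.val hij
  simpa using this

/-- the fusion step: a `K`-conjugate inside `P` of an element of order dividing `p` of `P ∩ K`
is the element itself, when some element `t` of order `p` of `P` outside `⟨x⟩` centralizes `K`. -/
theorem fusion_trivial {G : Type*} [Group G] [Finite G] {p : ℕ} [Fact p.Prime]
    (hrank : Cfsg.PRankLE p 2 G) (x : G) (hx : orderOf x = p) (hiso : Cfsg.IsIsolated x)
    (P : Sylow p G) (hxP : x ∈ (P : Subgroup G)) (K : Subgroup G) (t : G)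
    (htP : t ∈ (P : Subgroup G)) (ht : orderOf t = p) (htK : ∀ k ∈ K, t * k = k * t)
    (htx : t ∉ Subgroup.zpowers x)
    (u : G) (huP : u ∈ (P : Subgroup G)) (huK : u ∈ K) (hu : u ^ p = 1) (k : G) (hk : k ∈ K)
    (hku : k * u * k⁻¹ ∈ (P : Subgroup G)) : k * u * k⁻¹ = u := by
  have hp : p.Prime := Fact.out
  have hcP := iso_comm_pgroup x hiso (P : Subgroup G) P.isPGroup' hxP
  have htp : t ^ p = 1 := by rw [← ht]; exact pow_orderOf_eq_one t
  obtain ⟨i, j, hij⟩ := rank2_gen hrank x t u hx htp hu (hcP t htP) (hcP u huP) (htK u huK) htx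
  have htk0 : Commute k t := (htK k hk).symm
  have htk : Commute k (t ^ j) := htk0.zpow_right j
  have hconj : k * u * k⁻¹ = (k * x * k⁻¹) ^ i * t ^ j := by
    have e : t ^ j * k⁻¹ = k⁻¹ * t ^ j := htk.inv_left.eq.symm
    rw [hij, conj_zpow]
    calc k * (x ^ i * t ^ j) * k⁻¹ = k * x ^ i * (t ^ j * k⁻¹) := by simp only [mul_assoc]
      _ = k * x ^ i * k⁻¹ * t ^ j := by rw [e]; simp only [mul_assoc]
  have hxc : Commute x ((k * x * k⁻¹) ^ i) := by
    have h1 : Commute x (k * u * k⁻¹) := hcP _ hku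
    have h2 : Commute x (t ^ j) := Commute.zpow_right (hcP t htP) j
    have h3 : (k * x * k⁻¹) ^ i = (k * u * k⁻¹) * (t ^ j)⁻¹ := by
      rw [hconj, mul_inv_cancel_right]
    rw [h3]
    exact h1.mul_right h2.inv_right
  by_cases hdvd : (p : ℤ) ∣ i
  · have hxi : x ^ i = 1 := by
      rw [← orderOf_dvd_iff_zpow_eq_one, hx]; exact hdvd
    have hut : u = t ^ j := by rw [hij, hxi, one_mul]
    rw [hut, htk.eq, mul_inv_cancel_right]
  · have hpi : Prime (p : ℤ) := Nat.prime_iff_prime_int.mp hp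
    have hcop : IsCoprime (p : ℤ) i := hpi.coprime_iff_not_dvd.mpr hdvd
    obtain ⟨b, a, hab⟩ := hcop
    have hyp : (k * x * k⁻¹) ^ (p : ℤ) = 1 := by
      rw [conj_zpow, zpow_natCast, ← hx, pow_orderOf_eq_one, mul_one, mul_inv_cancel]
    have hy : k * x * k⁻¹ = ((k * x * k⁻¹) ^ i) ^ a := by
      have h5 : (k * x * k⁻¹) ^ (b * (p : ℤ) + a * i) = ((k * x * k⁻¹) ^ i) ^ a := by
        rw [zpow_add, zpow_mul', zpow_mul', hyp, one_zpow, one_mul]
      rw [hab, zpow_one] at h5
      exact h5
    have hxy : Commute x (k * x * k⁻¹) := by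
      rw [hy]; exact hxc.zpow_right a
    have h4 := hiso k hxy
    rw [hconj, h4, ← hij]

/-- **Key lemma.** No element of order `p` of the Sylow subgroup `P` centralizes a
component `K` not centralized by the isolated element `x`. -/
theorem no_central {G : Type u} [Group G] [Finite G] {p : ℕ} [Fact p.Prime] (hp2 : p ≠ 2)
    (hcore : Cfsg.pPrimeCore p G = ⊥) (hrank : Cfsg.PRankLE p 2 G) (x : G) (hx : orderOf x = p)
    (hiso : Cfsg.IsIsolated x) (P : Sylow p G) (hxP : x ∈ (P : Subgroup G)) (K : Subgroup G)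
    (hK : Cfsg.IsComponent K) (k₀ : G) (hk₀ : k₀ ∈ K) (hxk : x * k₀ ≠ k₀ * x) (t : G)
    (htP : t ∈ (P : Subgroup G)) (ht : orderOf t = p) (htK : ∀ k ∈ K, t * k = k * t) :
    False := by
  have hp : p.Prime := Fact.out
  have htx : t ∉ Subgroup.zpowers x := by
    intro hmem
    have heq : Subgroup.zpowers t = Subgroup.zpowers x := by
      apply Subgroup.eq_of_le_of_card_ge (Subgroup.zpowers_le.mpr hmem)
      rw [Nat.card_zpowers, Nat.card_zpowers, hx, ht]
    have hxt : x ∈ Subgroup.zpowers t := by rw [heq]; exact Subgroup.mem_zpowers x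
    obtain ⟨m, hm⟩ := Subgroup.mem_zpowers_iff.mp hxt
    apply hxk
    rw [← hm]
    have h0 : Commute t k₀ := htK k₀ hk₀
    exact (h0.zpow_left m).eq
  have hfus := fusion_trivial hrank x hx hiso P hxP K t htP ht htK htx
  obtain ⟨Q, hQ⟩ := Cfsg.Agent.S0542.result p K hK.1 P
  have hkey : ∀ Q' : Subgroup ↥K, Q' ≤ (Q : Subgroup ↥K) →
      ∀ g ∈ Subgroup.normalizer (Q' : Set ↥K),
      Nat.Coprime (orderOf g) p → g ∈ Subgroup.centralizer (Q' : Set ↥K) := by
    intro Q' hQ' g hg hgo
    have hQp : IsPGroup p ↥Q' := Q.isPGroup'.to_le hQ'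
    have ha : Nat.Coprime
        (orderOf (Cfsg.Agent.Helper10.conjNormalizer Q' g hg : MulAut ↥Q')) p := by
      apply Nat.Coprime.coprime_dvd_left _ hgo
      apply orderOf_dvd_of_pow_eq_one
      ext z
      rw [Cfsg.Agent.Helper10.conjNormalizer_pow_coe, pow_orderOf_eq_one]
      simp
    have h : ∀ z : ↥Q', z ^ p = 1 →
        (Cfsg.Agent.Helper10.conjNormalizer Q' g hg : MulAut ↥Q') z = z := by
      intro z hz
      apply Subtype.ext
      rw [Cfsg.Agent.Helper10.conjNormalizer_coe]
      have hzQ : (z : ↥K) ∈ (P : Subgroup G).subgroupOf K := by rw [← hQ]; exact hQ' z.2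
      have hgz : g * (z : ↥K) * g⁻¹ ∈ (P : Subgroup G).subgroupOf K := by
        rw [← hQ]; exact hQ' ((Subgroup.mem_normalizer_iff.mp hg _).mp z.2)
      rw [Subgroup.mem_subgroupOf] at hzQ hgz
      have hzp : ((z : ↥K) : G) ^ p = 1 := by
        have := congrArg (fun w : ↥Q' => ((w : ↥K) : G)) hz
        simpa using this
      apply Subtype.ext
      have := hfus ((z : ↥K) : G) hzQ (z : ↥K).2 hzp (g : G) g.2 (by simpa using hgz)
      simpa using this
    have h1 := Cfsg.Agent.S0120.result hp2 hQp _ ha h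
    rw [Subgroup.mem_centralizer_iff]
    intro z hz
    have h2 := congrArg (fun f : MulAut ↥Q' => ((f ⟨z, hz⟩ : ↥Q') : ↥K)) h1
    simp only [Cfsg.Agent.Helper10.conjNormalizer_coe, MulAut.one_apply] at h2
    calc z * g = (g * z * g⁻¹) * g := by rw [h2]
      _ = g * z := by group
  obtain ⟨N, hN, hc⟩ := (Cfsg.Agent.S0071.result Q).mpr hkey
  have hperf : Group.IsPerfect ↥K := hK.2.1
  have hPne : (Q : Subgroup ↥K) ≠ ⊥ := by
    rw [hQ]
    intro hbot
    apply Cfsg.Agent.Helper24.h24_sylow_inf_comp_ne_bot p hcore P K hK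
    exact disjoint_iff.mp (Subgroup.subgroupOf_eq_bot.mp hbot)
  have hcard : Nat.card N * Nat.card (Q : Subgroup ↥K) = Nat.card ↥K := hc.card_mul_card
  have hidx : N.index = Nat.card (Q : Subgroup ↥K) := by
    have h3 := N.card_mul_index
    rw [← hcard] at h3
    have hNpos : 0 < Nat.card N := Nat.card_pos
    exact Nat.eq_of_mul_eq_mul_left hNpos h3
  have hQp : IsPGroup p (↥K ⧸ N) := by
    obtain ⟨n, hn⟩ := IsPGroup.iff_card.mp Q.isPGroup'
    apply IsPGroup.of_card (n := n)
    rw [← Subgroup.index_eq_card, hidx, hn]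
  have hnt : Nontrivial (↥K ⧸ N) := by
    rw [← Finite.one_lt_card_iff_nontrivial, ← Subgroup.index_eq_card, hidx]
    by_contra hle
    have h1 : Nat.card (Q : Subgroup ↥K) = 1 := by
      have hpos : 0 < Nat.card (Q : Subgroup ↥K) := Nat.card_pos
      omega
    exact hPne (Subgroup.card_eq_one.mp h1)
  exact Group.IsPerfect.not_isNilpotent (↥K ⧸ N) hQp.isNilpotent

/-- the main theorem: an isolated non-central element of odd prime order `p` in a group of
`p`-rank at most two with `O_{p'} = 1` forces `F*` to be non-abelian simple. -/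
theorem main {G : Type u} [Group G] [Finite G] {p : ℕ} [Fact p.Prime] (hp2 : p ≠ 2)
    (hcore : Cfsg.pPrimeCore p G = ⊥) (hrank : Cfsg.PRankLE p 2 G) (x : G) (hx : orderOf x = p)
    (hiso : Cfsg.IsIsolated x) (hnc : x ∉ Subgroup.center G) :
    IsSimpleGroup ↥(Cfsg.generalizedFittingSubgroup G) ∧
      ¬ IsMulCommutative ↥(Cfsg.generalizedFittingSubgroup G) := by
  have hp : p.Prime := Fact.out
  have hxpg : IsPGroup p ↥(Subgroup.zpowers x) := by
    apply IsPGroup.of_card (n := 1)
    rw [Nat.card_zpowers, hx, pow_one]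
  obtain ⟨P, hP⟩ := hxpg.exists_le_sylow
  have hxP : x ∈ (P : Subgroup G) := hP (Subgroup.mem_zpowers x)
  have hcP := iso_comm_pgroup x hiso (P : Subgroup G) P.isPGroup' hxP
  have hFp : Cfsg.fittingSubgroup G = Cfsg.pCore p G :=
    Cfsg.Agent.Helper24.h24_fitting_eq_pCore p hcore
  have hpc : Cfsg.pCore p G ≤ (P : Subgroup G) := by
    rw [Cfsg.Agent.S0010.result]; exact iInf_le _ P
  obtain ⟨K, hK, k₀, hk₀, hxk⟩ :
      ∃ K : Subgroup G, Cfsg.IsComponent K ∧ ∃ k₀ ∈ K, x * k₀ ≠ k₀ * x := by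
    by_contra hno
    push Not at hno
    apply hnc
    have hlay : Cfsg.layer G ≤ Subgroup.centralizer {x} := by
      unfold Cfsg.layer
      apply sSup_le
      intro K hK k hk
      rw [Subgroup.mem_centralizer_iff]
      intro h hh
      rw [Set.mem_singleton_iff] at hh
      rw [hh]
      exact hno K hK k hk
    have hfit : Cfsg.fittingSubgroup G ≤ Subgroup.centralizer {x} := by
      intro f hf
      rw [Subgroup.mem_centralizer_iff]
      intro h hh
      rw [Set.mem_singleton_iff] at hh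
      rw [hh]
      exact hcP f (hpc (hFp ▸ hf))
    have hgf : Cfsg.generalizedFittingSubgroup G ≤ Subgroup.centralizer {x} :=
      sup_le hlay hfit
    have hxF : x ∈ Cfsg.generalizedFittingSubgroup G := by
      apply Cfsg.Agent.Helper10.centralizer_gfitting_le G
      rw [Subgroup.mem_centralizer_iff]
      intro f hf
      have h0 := hgf hf
      rw [Subgroup.mem_centralizer_iff] at h0
      exact (h0 x (Set.mem_singleton x)).symm
    have hn := Cfsg.Agent.Helper10.gfitting_normal G
    rw [Subgroup.mem_center_iff]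
    intro g
    have hg : g * x * g⁻¹ ∈ Cfsg.generalizedFittingSubgroup G := hn.conj_mem x hxF g
    have h1 := hgf hg
    rw [Subgroup.mem_centralizer_iff] at h1
    have h2 := hiso g (h1 x (Set.mem_singleton x))
    calc g * x = (g * x * g⁻¹) * g := by group
      _ = x * g := by rw [h2]
  have hno : ∀ t ∈ (P : Subgroup G), orderOf t = p → (∀ k ∈ K, t * k = k * t) → False :=
    fun t htP ht htK =>
      no_central hp2 hcore hrank x hx hiso P hxP K hK k₀ hk₀ hxk t htP ht htK
  have huniq : ∀ L : Subgroup G, Cfsg.IsComponent L → L = K := by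
    intro L hL
    rcases Cfsg.Agent.Helper10.comp_eq_or_comm hL hK with h | h
    · exact h
    · exfalso
      have hne := Cfsg.Agent.Helper24.h24_sylow_inf_comp_ne_bot p hcore P L hL
      obtain ⟨t, ht, hto⟩ := exists_order_p (p := p) ((P : Subgroup G) ⊓ L)
        (P.isPGroup'.to_le inf_le_left) hne
      apply hno t ht.1 hto
      intro k hk
      exact (Cfsg.Agent.Helper10.comm_bot_iff L K).mp h t ht.2 k hk
  have hpcore : Cfsg.pCore p G = ⊥ := by
    by_contra hne
    obtain ⟨t, ht, hto⟩ := exists_order_p (p := p) (Cfsg.pCore p G)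
      (Cfsg.Agent.S0010.pCore_isPGroup p) hne
    apply hno t (hpc ht) hto
    intro k hk
    have h0 := (Cfsg.Agent.Helper10.comm_bot_iff _ _).mp
      (Cfsg.Agent.Helper10.layer_comm_fitting G) k
      (Cfsg.Agent.Helper10.comp_le_layer hK hk) t (hFp ▸ ht)
    exact h0.symm
  have hF : Cfsg.fittingSubgroup G = ⊥ := by rw [hFp, hpcore]
  have gF : Cfsg.generalizedFittingSubgroup G = Cfsg.layer G := by
    unfold Cfsg.generalizedFittingSubgroup
    rw [hF, sup_bot_eq]
  have hlayer : Cfsg.layer G = K := by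
    unfold Cfsg.layer
    exact le_antisymm (sSup_le (fun L' hL' => (huniq L' hL').le)) (le_sSup hK)
  have hcenter : Subgroup.center ↥K = ⊥ := by
    rw [eq_bot_iff]
    intro z hz
    rw [Subgroup.mem_bot]
    have hzF : (z : G) ∈ Cfsg.fittingSubgroup G := by
      apply Cfsg.Agent.Helper10.center_layer_mem_fitting (by rw [hlayer]; exact z.2)
      intro e he
      rw [hlayer] at he
      have := Subgroup.mem_center_iff.mp hz ⟨e, he⟩
      exact congrArg Subtype.val this
    rw [hF, Subgroup.mem_bot] at hzF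
    exact Subtype.ext hzF
  have hKsimple : IsSimpleGroup ↥K := by
    have hs := hK.2.2
    obtain ⟨e⟩ : Nonempty (↥K ⧸ Subgroup.center ↥K ≃* ↥K) :=
      ⟨(QuotientGroup.quotientMulEquivOfEq hcenter).trans QuotientGroup.quotientBot⟩
    exact e.symm.isSimpleGroup
  have hKnc : ¬ ∀ a b : K, a * b = b * a := Cfsg.Agent.Helper10.qs_not_comm hK.2
  rw [gF, hlayer]
  exact ⟨hKsimple, fun h => hKnc (fun a b => h.is_comm.comm a b)⟩

end Cfsg.Agent.Helper1.IsoRank2
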