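import Mathlib
import Cfsg.Agent.S0638
import Cfsg.Agent.S0650
import Cfsg.Agent.S0055
import Cfsg.Agent.S0660
import Cfsg.Agent.Helper1.QuotSub
import Cfsg.Agent.Helper1.Class2
import Cfsg.Agent.Helper1.Cop2
import Cfsg.Agent.Helper27.MetaEnd

set_option autoImplicit false

/-! Coprime action on a metacyclic `p`-group, `p` odd: if `[R, A] = R` then `R` is abelian. -/

namespace Cfsg.Agent.Helper1.Meta

universe u

open scoped commutatorElement

theorem exists_order_p {G : Type*} [Group G] {p : ℕ} [Fact p.Prime] (H : Subgroup G)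
    (hH : IsPGroup p H) (hne : H ≠ ⊥) : ∃ g ∈ H, g ≠ 1 ∧ g ^ p = 1 := by
  classical
  obtain ⟨c, hc1⟩ := (Subgroup.ne_bot_iff_exists_ne_one).mp hne
  have hex : ∃ k : ℕ, (c : G) ^ (p ^ k) = 1 := by
    obtain ⟨k, hk⟩ := hH c
    exact ⟨k, by simpa using congrArg Subtype.val hk⟩
  have hk0 : Nat.find hex ≠ 0 := by
    intro h0
    have := Nat.find_spec hex
    rw [h0, pow_zero, pow_one] at this
    exact hc1 (Subtype.ext this)
  obtain ⟨j, hj⟩ := Nat.exists_eq_succ_of_ne_zero hk0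
  refine ⟨(c : G) ^ (p ^ j), H.pow_mem c.2 _, ?_, ?_⟩
  · exact Nat.find_min hex (by omega)
  · rw [← pow_mul, ← pow_succ, ← Nat.succ_eq_add_one, ← hj]
    exact Nat.find_spec hex

theorem omega_exists {G : Type*} [Group G] [Finite G] {p : ℕ} [Fact p.Prime] (hp : p ≠ 2)
    (R : Subgroup G) (hR : IsPGroup p R) (hRm : Cfsg.IsMetacyclic R) (hnc : ¬ IsCyclic R) :
    ∃ E : Subgroup G, Nat.card E = p ^ 2 ∧ (∀ g, g ∈ E ↔ g ∈ R ∧ g ^ p = 1) ∧
      (∀ x ∈ E, ∀ y ∈ E, x * y = y * x) := by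
  obtain ⟨⟨hcomm, hexp⟩, hcard⟩ := Cfsg.Agent.S0638.result hp hR hRm hnc
  have hmem : ∀ x : ↥R, x ∈ Cfsg.omegaOne p (⊤ : Subgroup ↥R) ↔ x ^ p = 1 := by
    intro x
    constructor
    · exact hexp x
    · intro hx
      exact Subgroup.subset_closure ⟨Subgroup.mem_top x, hx⟩
  refine ⟨(Cfsg.omegaOne p (⊤ : Subgroup ↥R)).map R.subtype, ?_, ?_, ?_⟩
  · rw [Subgroup.card_map_of_injective R.subtype_injective]
    exact hcard
  · intro g
    rw [Subgroup.mem_map]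
    constructor
    · rintro ⟨x, hx, rfl⟩
      refine ⟨x.2, ?_⟩
      have := (hmem x).mp hx
      exact congrArg Subtype.val this
    · rintro ⟨hgR, hgp⟩
      exact ⟨⟨g, hgR⟩, (hmem _).mpr (Subtype.ext hgp), rfl⟩
  · rintro _ ⟨x, hx, rfl⟩ _ ⟨y, hy, rfl⟩
    have h := hcomm.is_comm.comm ⟨x, hx⟩ ⟨y, hy⟩
    have h' := congrArg (fun z : ↥(Cfsg.omegaOne p (⊤ : Subgroup ↥R)) => ((z : ↥R) : G)) h
    exact h'

theorem star (p : ℕ) [Fact p.Prime] (hp : p ≠ 2) : ∀ n : ℕ, ∀ (G : Type u) [Group G] [Finite G]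
    (R A : Subgroup G), Nat.card R = n → IsPGroup p R → Cfsg.IsMetacyclic R →
    A ≤ Subgroup.normalizer (R : Set G) → (Nat.card A).Coprime p → ⁅R, A⁆ = R →
    ∀ x ∈ R, ∀ y ∈ R, x * y = y * x := by
  intro n
  induction n using Nat.strong_induction_on with
  | _ n ih =>
  intro G _ _ R A hn hR hRm hA hcop hRA
  by_contra hna
  have hp' : p.Prime := Fact.out
  -- (Q): nontrivial invariant normal subgroups contain all commutators
  have hQ : ∀ D : Subgroup G, D ≤ R → D ≠ ⊥ → R ≤ Subgroup.normalizer (D : Set G) →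
      A ≤ Subgroup.normalizer (D : Set G) → ∀ x ∈ R, ∀ y ∈ R, ⁅x, y⁆ ∈ D := by
    intro D hDR hD hRD hAD
    have hlt : Nat.card (QS.im D R) < n := hn ▸ QS.card_im_lt hD hDR hRD
    have hcop' : (Nat.card (QS.im D A)).Coprime p :=
      Nat.Coprime.coprime_dvd_left (QS.card_im_dvd hAD) hcop
    have hcomm' : ⁅QS.im D R, QS.im D A⁆ = QS.im D R := by rw [QS.im_commutator hRD hAD, hRA]
    have key := ih _ hlt (QS.Q D) (QS.im D R) (QS.im D A) rfl (QS.im_isPGroup hR)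
      (QS.im_metacyclic hRD hRm) (QS.im_le_normalizer hA) hcop' hcomm'
    intro x hx y hy
    have h1 := key _ (QS.cls_mem_im y⁻¹ (hRD (R.inv_mem hy)) (R.inv_mem hy)) _
      (QS.cls_mem_im x⁻¹ (hRD (R.inv_mem hx)) (R.inv_mem hx))
    rw [QS.cls_mul, QS.cls_mul, QS.cls_eq_iff] at h1
    have e : (y⁻¹ * x⁻¹)⁻¹ * (x⁻¹ * y⁻¹) = ⁅x, y⁆ := by rw [commutatorElement_def]; group
    rw [e] at h1
    exact h1
  push Not at hna
  obtain ⟨x₁, hx₁, y₁, hy₁, hxy₁⟩ := hna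
  have hcopR : (Nat.card A).Coprime (Nat.card R) := by
    obtain ⟨k, hk⟩ := (IsPGroup.iff_card).mp hR
    rw [hk]
    exact Nat.Coprime.pow_right k hcop
  -- the center
  obtain ⟨Z, hZdef⟩ : ∃ Z : Subgroup G, Z = R ⊓ Subgroup.centralizer (R : Set G) := ⟨_, rfl⟩
  have hZR : Z ≤ R := hZdef ▸ inf_le_left
  have hZc : ∀ z ∈ Z, ∀ r ∈ R, r * z = z * r := fun z hz r hr =>
    (Subgroup.mem_centralizer_iff.mp (hZdef ▸ hz : z ∈ R ⊓ Subgroup.centralizer (R : Set G)).2) r hr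
  have hZmk : ∀ z ∈ R, (∀ r ∈ R, r * z = z * r) → z ∈ Z := by
    intro z hz h
    rw [hZdef]
    exact ⟨hz, Subgroup.mem_centralizer_iff.mpr h⟩
  have hRZn : R ≤ Subgroup.normalizer (Z : Set G) := by
    intro r hr
    apply Cfsg.Agent.S0650.mem_normalizer_of_conj
    intro z hz
    have : r * z * r⁻¹ = z := by rw [hZc z hz r hr, mul_inv_cancel_right]
    rw [this]
    exact hz
  have hAconjR : ∀ a ∈ A, ∀ r ∈ R, a * r * a⁻¹ ∈ R := fun a ha r hr =>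
    ((Subgroup.mem_normalizer_iff.mp (hA ha)) r).mp hr
  have hAconjR' : ∀ a ∈ A, ∀ r ∈ R, a⁻¹ * r * a ∈ R := fun a ha r hr => by
    simpa using hAconjR a⁻¹ (A.inv_mem ha) r hr
  have hAZn : A ≤ Subgroup.normalizer (Z : Set G) := by
    intro a ha
    apply Cfsg.Agent.S0650.mem_normalizer_of_conj
    intro z hz
    refine hZmk _ (hAconjR a ha z (hZR hz)) ?_
    intro r hr
    have h1 := hZc z hz (a⁻¹ * r * a) (hAconjR' a ha r hr)
    calc r * (a * z * a⁻¹) = a * ((a⁻¹ * r * a) * z) * a⁻¹ := by group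
      _ = a * (z * (a⁻¹ * r * a)) * a⁻¹ := by rw [h1]
      _ = a * z * a⁻¹ * r := by group
  have hZne : Z ≠ ⊥ := by
    have : Nontrivial ↥R :=
      ⟨⟨⟨x₁, hx₁⟩, ⟨y₁, hy₁⟩, fun h => hxy₁ (by
        have e : x₁ = y₁ := congrArg Subtype.val h
        rw [e])⟩⟩
    have := hR.center_nontrivial
    obtain ⟨z, hz1⟩ := exists_ne (1 : ↥(Subgroup.center ↥R))
    intro hbot
    apply hz1
    have hzZ : ((z : ↥R) : G) ∈ Z := by
      refine hZmk _ (z : ↥R).2 ?_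
      intro r hr
      have := (Subgroup.mem_center_iff.mp z.2) ⟨r, hr⟩
      exact congrArg Subtype.val this
    rw [hbot, Subgroup.mem_bot] at hzZ
    exact Subtype.ext (Subtype.ext hzZ)
  have hRZ : ∀ x ∈ R, ∀ y ∈ R, ⁅x, y⁆ ∈ Z := hQ Z hZR hZne hRZn hAZn
  have hR'Z : ⁅R, R⁆ ≤ Z := Subgroup.commutator_le.mpr hRZ
  have hR'R : ⁅R, R⁆ ≤ R := hR'Z.trans hZR
  have hR'ne : ⁅R, R⁆ ≠ ⊥ := by
    intro h
    have h1 : ⁅x₁, y₁⁆ ∈ ⁅R, R⁆ := Subgroup.commutator_mem_commutator hx₁ hy₁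
    rw [h, Subgroup.mem_bot] at h1
    exact hxy₁ (commutatorElement_eq_one_iff_mul_comm.mp h1)
  have hAR' : A ≤ Subgroup.normalizer ((⁅R, R⁆ : Subgroup G) : Set G) :=
    Cfsg.Agent.Helper1.le_normalizer_commutator A R R hA hA
  -- commutators have order p
  let D1 : Subgroup G :=
    { carrier := {g | g ∈ ⁅R, R⁆ ∧ g ^ p = 1}
      mul_mem' := by
        rintro g h ⟨hg, hgp⟩ ⟨hh, hhp⟩
        refine ⟨Subgroup.mul_mem _ hg hh, ?_⟩
        have hc : Commute g h := (hZc g (hR'Z hg) h (hR'R hh)).symm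
        rw [hc.mul_pow, hgp, hhp, one_mul]
      one_mem' := ⟨Subgroup.one_mem _, one_pow _⟩
      inv_mem' := by
        rintro g ⟨hg, hgp⟩
        exact ⟨Subgroup.inv_mem _ hg, by rw [inv_pow, hgp, inv_one]⟩ }
  have hD1mem : ∀ g, g ∈ D1 ↔ g ∈ ⁅R, R⁆ ∧ g ^ p = 1 := fun g => Iff.rfl
  have hD1R : D1 ≤ R := fun g hg => hR'R ((hD1mem g).mp hg).1
  have hD1ne : D1 ≠ ⊥ := by
    obtain ⟨g, hg, hg1, hgp⟩ := exists_order_p (p := p) ⁅R, R⁆ (hR.to_le hR'R) hR'ne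
    intro h
    have : g ∈ D1 := (hD1mem g).mpr ⟨hg, hgp⟩
    rw [h, Subgroup.mem_bot] at this
    exact hg1 this
  have hRD1 : R ≤ Subgroup.normalizer (D1 : Set G) := by
    intro r hr
    apply Cfsg.Agent.S0650.mem_normalizer_of_conj
    intro z hz
    have : r * z * r⁻¹ = z := by
      rw [hZc z (hR'Z ((hD1mem z).mp hz).1) r hr, mul_inv_cancel_right]
    rw [this]
    exact hz
  have hAD1 : A ≤ Subgroup.normalizer (D1 : Set G) := by
    intro a ha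
    apply Cfsg.Agent.S0650.mem_normalizer_of_conj
    intro z hz
    obtain ⟨hz1, hz2⟩ := (hD1mem z).mp hz
    refine (hD1mem _).mpr ⟨((Subgroup.mem_normalizer_iff.mp (hAR' ha)) z).mp hz1, ?_⟩
    rw [conj_pow, hz2, mul_one, mul_inv_cancel]
  have hexp : ∀ g ∈ ⁅R, R⁆, g ^ p = 1 := by
    have hle : ⁅R, R⁆ ≤ D1 := Subgroup.commutator_le.mpr (hQ D1 hD1R hD1ne hRD1 hAD1)
    exact fun g hg => ((hD1mem g).mp (hle hg)).2
  -- the p-power map is a homomorphism into the center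
  have hpow : ∀ x ∈ R, ∀ y ∈ R, (x * y) ^ p = x ^ p * y ^ p := by
    intro x hx y hy
    have hc : ∀ g : ↥R, Commute ⁅(⟨y, hy⟩ : ↥R), ⟨x, hx⟩⁆ g := by
      intro g
      apply Subtype.ext
      exact (hZc ⁅y, x⁆ (hRZ y hy x hx) g g.2).symm
    obtain ⟨t, ht, hxy⟩ := Cfsg.Agent.Helper1.exists_mul_pow_eq (⟨x, hx⟩ : ↥R) ⟨y, hy⟩ hc p
    have hpt : p ∣ t := by
      have h2 : p ∣ 2 * t := by rw [ht]; exact dvd_mul_right p _
      have hc2 : Nat.Coprime p 2 := (Nat.coprime_primes hp' Nat.prime_two).mpr hp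
      exact hc2.dvd_of_dvd_mul_left h2
    obtain ⟨s, rfl⟩ := hpt
    have h3 : (x * y) ^ p = ⁅y, x⁆ ^ (p * s) * x ^ p * y ^ p := congrArg Subtype.val hxy
    rw [h3, pow_mul, hexp _ (Subgroup.commutator_mem_commutator hy hx), one_pow, one_mul]
  have hpc : ∀ x ∈ R, x ^ p ∈ Z := by
    intro x hx
    refine hZmk _ (R.pow_mem hx p) ?_
    intro y hy
    have hc : Commute ⁅x, y⁆ x := (hZc ⁅x, y⁆ (hRZ x hx y hy) x hx).symm
    have h1 := Cfsg.Agent.Helper1.commutatorElement_pow_left x y hc p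
    rw [hexp _ (Subgroup.commutator_mem_commutator hx hy)] at h1
    exact ((commutatorElement_eq_one_iff_mul_comm).mp h1).symm
  have hnc : ¬ IsCyclic ↥R := by
    intro h
    have hc := (IsCyclic.isMulCommutative (α := ↥R)).is_comm.comm ⟨x₁, hx₁⟩ ⟨y₁, hy₁⟩
    exact hxy₁ (congrArg Subtype.val hc)
  obtain ⟨E, hEcard, hEmem, hEcomm⟩ := omega_exists hp R hR hRm hnc
  have hER : E ≤ R := fun g hg => ((hEmem g).mp hg).1
  have hAE : A ≤ Subgroup.normalizer (E : Set G) := by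
    intro a ha
    apply Cfsg.Agent.S0650.mem_normalizer_of_conj
    intro z hz
    obtain ⟨hz1, hz2⟩ := (hEmem z).mp hz
    refine (hEmem _).mpr ⟨hAconjR a ha z hz1, ?_⟩
    rw [conj_pow, hz2, mul_one, mul_inv_cancel]
  -- the derived group has order p
  have hR'cyc : IsCyclic ↥⁅R, R⁆ := by
    obtain ⟨N, hNn, hNc, hQc⟩ := hRm
    have hle : ⁅R, R⁆ ≤ N.map R.subtype := by
      rw [Subgroup.commutator_le]
      intro x hx y hy
      refine ⟨⁅(⟨x, hx⟩ : ↥R), ⟨y, hy⟩⁆, ?_, rfl⟩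
      have := hQc
      have h := (IsCyclic.isMulCommutative (α := ↥R ⧸ N)).is_comm.comm
        (((⟨y, hy⟩ : ↥R)⁻¹ : ↥R) : ↥R ⧸ N) (((⟨x, hx⟩ : ↥R)⁻¹ : ↥R) : ↥R ⧸ N)
      rw [← QuotientGroup.mk_mul, ← QuotientGroup.mk_mul, QuotientGroup.eq] at h
      have e : ((⟨y, hy⟩ : ↥R)⁻¹ * (⟨x, hx⟩ : ↥R)⁻¹)⁻¹ * ((⟨x, hx⟩ : ↥R)⁻¹ * (⟨y, hy⟩ : ↥R)⁻¹)
          = ⁅(⟨x, hx⟩ : ↥R), ⟨y, hy⟩⁆ := by rw [commutatorElement_def]; group
      rw [e] at h
      exact h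
    have : IsCyclic ↥N := hNc
    have : IsCyclic ↥(N.map R.subtype) :=
      isCyclic_of_surjective (R.subtype.subgroupMap N) (MonoidHom.subgroupMap_surjective _ _)
    exact Subgroup.isCyclic_of_le hle
  have hR'card : Nat.card ↥⁅R, R⁆ = p := by
    have := hR'cyc
    obtain ⟨g, hg⟩ := IsCyclic.exists_generator (α := ↥⁅R, R⁆)
    have h1 : orderOf g = Nat.card ↥⁅R, R⁆ := orderOf_eq_card_of_forall_mem_zpowers hg
    have h2 : g ^ p = 1 := Subtype.ext (hexp g g.2)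
    have h3 : orderOf g ∣ p := orderOf_dvd_of_pow_eq_one h2
    rcases (Nat.dvd_prime hp').mp h3 with h4 | h4
    · exfalso
      rw [h4] at h1
      exact hR'ne (Subgroup.eq_bot_of_card_eq _ h1.symm)
    · rw [← h1, h4]
  have hR'E : ⁅R, R⁆ ≤ E := fun g hg => (hEmem g).mpr ⟨hR'R hg, hexp g hg⟩
  have hEab : IsMulCommutative ↥E := ⟨⟨fun a b => Subtype.ext (hEcomm a a.2 b b.2)⟩⟩
  have hcopE : (Nat.card A).Coprime (Nat.card E) := by
    rw [hEcard]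
    exact Nat.Coprime.pow_right 2 hcop
  -- E is not central
  have hEZ : ¬ E ≤ Z := by
    intro hEZ
    obtain ⟨w, hwE, hwU⟩ : ∃ w ∈ E, w ∉ ⁅R, R⁆ := by
      by_contra hcon
      push Not at hcon
      have : Nat.card E ≤ Nat.card ↥⁅R, R⁆ := Subgroup.card_le_of_le hcon
      rw [hEcard, hR'card] at this
      nlinarith [hp'.two_le]
    have hw1 : w ≠ 1 := fun h => hwU (h ▸ Subgroup.one_mem _)
    have hwp : w ^ p = 1 := ((hEmem w).mp hwE).2
    have hWcard : Nat.card (Subgroup.zpowers w) = p := by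
      rw [Nat.card_zpowers, orderOf_eq_prime hwp hw1]
    have hWE : Subgroup.zpowers w ≤ E := Subgroup.zpowers_le.mpr hwE
    have hUW : ⁅R, R⁆ ⊓ Subgroup.zpowers w = ⊥ := by
      have hd := Subgroup.card_dvd_of_le
        (inf_le_right : ⁅R, R⁆ ⊓ Subgroup.zpowers w ≤ Subgroup.zpowers w)
      rw [hWcard] at hd
      rcases (Nat.dvd_prime hp').mp hd with h | h
      · exact Subgroup.eq_bot_of_card_eq _ h
      · exfalso
        have h' : ⁅R, R⁆ ⊓ Subgroup.zpowers w = Subgroup.zpowers w :=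
          Subgroup.eq_of_le_of_card_ge inf_le_right (by rw [h, hWcard])
        have h'' : w ∈ ⁅R, R⁆ ⊓ Subgroup.zpowers w := h'.symm ▸ Subgroup.mem_zpowers w
        exact hwU h''.1
    have hUWE : ⁅R, R⁆ ⊔ Subgroup.zpowers w = E := by
      apply Subgroup.eq_of_le_of_card_ge (sup_le hR'E hWE)
      have hd1 : Nat.card ↥⁅R, R⁆ ∣ Nat.card ↥(⁅R, R⁆ ⊔ Subgroup.zpowers w) :=
        Subgroup.card_dvd_of_le le_sup_left
      have hd2 : Nat.card ↥(⁅R, R⁆ ⊔ Subgroup.zpowers w) ∣ Nat.card E :=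
        Subgroup.card_dvd_of_le (sup_le hR'E hWE)
      rw [hEcard] at hd2 ⊢
      rw [hR'card] at hd1
      obtain ⟨i, hi, hi'⟩ := (Nat.dvd_prime_pow hp').mp hd2
      have hi2 : i = 2 := by
        by_contra hne
        have hi1 : i = 0 ∨ i = 1 := by omega
        rcases hi1 with rfl | rfl
        · rw [hi', pow_zero] at hd1
          exact hp'.one_lt.ne' (Nat.dvd_one.mp hd1)
        · have h' : ⁅R, R⁆ = ⁅R, R⁆ ⊔ Subgroup.zpowers w :=
            Subgroup.eq_of_le_of_card_ge le_sup_left (by rw [hi', hR'card, pow_one])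
          have h'' : w ∈ ⁅R, R⁆ ⊔ Subgroup.zpowers w :=
            (le_sup_right : Subgroup.zpowers w ≤ _) (Subgroup.mem_zpowers w)
          exact hwU (h'.symm ▸ h'')
      rw [hi', hi2]
    obtain ⟨W', hW'E, hAW', hUW', hUW'E⟩ := Cfsg.Agent.S0660.result E A ⁅R, R⁆ hEab hAE hcopE
      hR'E hAR' (Subgroup.zpowers w) hWE hUW hUWE
    have hW'ne : W' ≠ ⊥ := by
      intro h
      rw [h, sup_bot_eq] at hUW'E
      exact hwU (hUW'E ▸ hwE)
    have hRW' : R ≤ Subgroup.normalizer (W' : Set G) := by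
      intro r hr
      apply Cfsg.Agent.S0650.mem_normalizer_of_conj
      intro z hz
      have : r * z * r⁻¹ = z := by rw [hZc z (hEZ (hW'E hz)) r hr, mul_inv_cancel_right]
      rw [this]
      exact hz
    have h1 := hQ W' (hW'E.trans hER) hW'ne hRW' hAW' x₁ hx₁ y₁ hy₁
    have h2 : ⁅x₁, y₁⁆ ∈ ⁅R, R⁆ ⊓ W' := ⟨Subgroup.commutator_mem_commutator hx₁ hy₁, h1⟩
    rw [hUW', Subgroup.mem_bot] at h2
    exact hxy₁ (commutatorElement_eq_one_iff_mul_comm.mp h2)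
  -- the center is cyclic
  have hZp : IsPGroup p Z := hR.to_le hZR
  have hZm : Cfsg.IsMetacyclic ↥Z :=
    Cfsg.Agent.Helper27.metacyclic_of_injective hRm (Subgroup.inclusion hZR)
      (Subgroup.inclusion_injective hZR)
  have hZcyc : IsCyclic ↥Z := by
    by_contra hnc'
    obtain ⟨E', hE'card, hE'mem, -⟩ := omega_exists hp Z hZp hZm hnc'
    have hle : E' ≤ E := fun g hg =>
      (hEmem g).mpr ⟨hZR ((hE'mem g).mp hg).1, ((hE'mem g).mp hg).2⟩
    have h' : E' = E := Subgroup.eq_of_le_of_card_ge hle (by rw [hEcard, hE'card])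
    exact hEZ (fun g hg => ((hE'mem g).mp (h'.symm ▸ hg)).1)
  -- A acts on Z by powers
  have hAk : ∀ a ∈ A, ∃ k : ℕ, ∀ z ∈ Z, a * z * a⁻¹ = z ^ k := by
    intro a ha
    have := hZcyc
    obtain ⟨z₀, hz₀⟩ := IsCyclic.exists_generator (α := ↥Z)
    have h1 : a * (z₀ : G) * a⁻¹ ∈ Z := ((Subgroup.mem_normalizer_iff.mp (hAZn ha)) z₀).mp z₀.2
    have h2 := hz₀ ⟨_, h1⟩
    rw [← mem_powers_iff_mem_zpowers] at h2
    obtain ⟨k, hk⟩ := h2
    have hk' : (z₀ : G) ^ k = a * z₀ * a⁻¹ := congrArg Subtype.val hk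
    refine ⟨k, fun z hz => ?_⟩
    obtain ⟨j, hj⟩ := Subgroup.mem_zpowers_iff.mp (hz₀ ⟨z, hz⟩)
    have hj' : (z₀ : G) ^ j = z := congrArg Subtype.val hj
    rw [← hj']
    calc a * (z₀ : G) ^ j * a⁻¹ = (a * z₀ * a⁻¹) ^ j := (conj_zpow).symm
      _ = ((z₀ : G) ^ k) ^ j := by rw [hk']
      _ = ((z₀ : G) ^ j) ^ k := by
        rw [← zpow_natCast, ← zpow_mul, mul_comm, zpow_mul, zpow_natCast]
  -- A centralizes E modulo Z
  have hS8 : ∀ a ∈ A, ∀ x ∈ E, x⁻¹ * (a * x * a⁻¹) ∈ Z := by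
    intro a ha x hxE
    obtain ⟨k, hk⟩ := hAk a ha
    have hx : x ∈ R := hER hxE
    obtain ⟨x', hx'def⟩ : ∃ x' : G, x' = a * x * a⁻¹ := ⟨_, rfl⟩
    have hx'E : x' ∈ E := hx'def ▸ ((Subgroup.mem_normalizer_iff.mp (hAE ha)) x).mp hxE
    have hx' : x' ∈ R := hER hx'E
    have key : ∀ y ∈ R, ⁅x, y⁆ = ⁅x', y⁆ := by
      intro y hy
      obtain ⟨y', hy'def⟩ : ∃ y' : G, y' = a * y * a⁻¹ := ⟨_, rfl⟩
      have hy' : y' ∈ R := hy'def ▸ hAconjR a ha y hy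
      obtain ⟨v, hvdef⟩ : ∃ v : G, v = y ^ k := ⟨_, rfl⟩
      have hv : v ∈ R := hvdef ▸ R.pow_mem hy k
      obtain ⟨u, hudef⟩ : ∃ u : G, u = y' * v⁻¹ := ⟨_, rfl⟩
      have huR : u ∈ R := hudef ▸ R.mul_mem hy' (R.inv_mem hv)
      have hup : u ^ p = 1 := by
        rw [hudef, hpow y' hy' _ (R.inv_mem hv), hy'def, conj_pow, hk _ (hpc y hy), hvdef,
          inv_pow, ← pow_mul, ← pow_mul, mul_comm k p, mul_inv_cancel]
      have huE : u ∈ E := (hEmem u).mpr ⟨huR, hup⟩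
      have hy'eq : y' = u * v := by rw [hudef, inv_mul_cancel_right]
      have h1 : a * ⁅x, y⁆ * a⁻¹ = ⁅x', y'⁆ := by
        rw [hx'def, hy'def, commutatorElement_def, commutatorElement_def]; group
      have h2 : a * ⁅x, y⁆ * a⁻¹ = ⁅x, y⁆ ^ k := hk _ (hRZ x hx y hy)
      have h3 : ⁅x', y'⁆ = ⁅x', v⁆ := by
        rw [hy'eq]
        have hc1 : x' * u = u * x' := hEcomm x' hx'E u huE
        have hc2 : u * ⁅x', v⁆ = ⁅x', v⁆ * u := hZc _ (hRZ x' hx' _ hv) u huR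
        calc ⁅x', u * v⁆ = (x' * u) * v * x'⁻¹ * v⁻¹ * u⁻¹ := by
              rw [commutatorElement_def]; group
          _ = (u * x') * v * x'⁻¹ * v⁻¹ * u⁻¹ := by rw [hc1]
          _ = (u * ⁅x', v⁆) * u⁻¹ := by rw [commutatorElement_def]; group
          _ = ⁅x', v⁆ := by rw [hc2, mul_inv_cancel_right]
      have h4 : ⁅x', v⁆ = ⁅x', y⁆ ^ k := by
        have hc : Commute ⁅y, x'⁆ y := (hZc _ (hRZ y hy x' hx') y hy).symm
        have h := Cfsg.Agent.Helper1.commutatorElement_pow_left y x' hc k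
        rw [hvdef, ← commutatorElement_inv, h, ← inv_pow, commutatorElement_inv]
      have h5 : a * ⁅x', y⁆ * a⁻¹ = ⁅x', y⁆ ^ k := hk _ (hRZ x' hx' y hy)
      have h6 : a * ⁅x, y⁆ * a⁻¹ = a * ⁅x', y⁆ * a⁻¹ := by rw [h5, ← h4, ← h3, h1]
      exact mul_left_cancel (mul_right_cancel h6)
    have hcen : x'⁻¹ * x ∈ Z := by
      refine hZmk _ (R.mul_mem (R.inv_mem hx') hx) ?_
      intro y hy
      have h := key y hy
      rw [commutatorElement_def, commutatorElement_def] at h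
      have h' : x * y * x⁻¹ = x' * y * x'⁻¹ := mul_right_cancel h
      calc y * (x'⁻¹ * x) = x'⁻¹ * (x' * y * x'⁻¹) * x := by group
        _ = x'⁻¹ * (x * y * x⁻¹) * x := by rw [h']
        _ = x'⁻¹ * x * y := by group
    have h7 := Z.inv_mem hcen
    rw [mul_inv_rev, inv_inv] at h7
    rw [← hx'def]
    exact h7
  -- final contradiction in R/Z
  obtain ⟨x, hxE, hxZ⟩ : ∃ x ∈ E, x ∉ Z := by
    by_contra h
    push Not at h
    exact hEZ h
  have hx : x ∈ R := hER hxE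
  have hRbar : ⁅QS.im Z R, QS.im Z A⁆ = QS.im Z R := by rw [QS.im_commutator hRZn hAZn, hRA]
  have hRRbar : ⁅QS.im Z R, QS.im Z R⁆ = ⊥ := by
    rw [QS.im_commutator hRZn hRZn, QS.im_eq_bot_iff (hR'R.trans hRZn)]
    exact hR'Z
  have hab : IsMulCommutative ↥(QS.im Z R) := by
    have hle := Subgroup.commutator_eq_bot_iff_le_centralizer.mp hRRbar
    exact ⟨⟨fun a b => Subtype.ext ((Subgroup.mem_centralizer_iff.mp (hle b.2)) a a.2)⟩⟩
  have hcopbar : (Nat.card (QS.im Z A)).Coprime (Nat.card (QS.im Z R)) :=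
    Nat.Coprime.coprime_dvd_left (QS.card_im_dvd hAZn)
      (Nat.Coprime.coprime_dvd_right (QS.card_im_dvd hRZn) hcopR)
  have h55 := (Cfsg.Agent.S0055.result (QS.im Z A) (QS.im Z R) (QS.im_le_normalizer hA)
    hcopbar).1
  rw [hRbar] at h55
  have hxbar : QS.cls Z x (hRZn hx) ∈
      (QS.im Z R ⊓ Subgroup.centralizer (QS.im Z A : Set (QS.Q Z))) ⊓ QS.im Z R := by
    refine ⟨⟨QS.cls_mem_im x _ hx, ?_⟩, QS.cls_mem_im x _ hx⟩
    apply QS.cls_mem_centralizer_im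
    intro a ha
    have h := hS8 a⁻¹ (A.inv_mem ha) x hxE
    rw [inv_inv] at h
    have e : x⁻¹ * a⁻¹ * x * a = x⁻¹ * (a⁻¹ * x * a) := by group
    rw [e]
    exact h
  rw [h55, Subgroup.mem_bot] at hxbar
  exact hxZ ((QS.cls_eq_one_iff Z x _).mp hxbar)

end Cfsg.Agent.Helper1.Meta
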