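import Mathlib
import Cfsg.Agent.Helper1.CycIdx
import Cfsg.Agent.Helper1.Critical
import Cfsg.Agent.Helper1.Special

set_option autoImplicit false

namespace Cfsg.Agent.Helper1

/-- in a finite `p`-group, between normal subgroups `A < E` there is a normal subgroup `B` with
`A ≤ B ≤ E` and `|B : A| = p` -/
theorem exists_normal_step {R : Type*} [Group R] [Finite R] {p : ℕ} [hp : Fact p.Prime]
    (hR : IsPGroup p R) (A E : Subgroup R) (hA : A.Normal) (hE : E.Normal) (hAE : A ≤ E)
    (hne : A ≠ E) :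
    ∃ B : Subgroup R, B.Normal ∧ A ≤ B ∧ B ≤ E ∧ A.relIndex B = p := by
  have hQ : IsPGroup p (R ⧸ A) := hR.to_quotient A
  have hEn : (E.map (QuotientGroup.mk' A)).Normal := hE.map _ (QuotientGroup.mk'_surjective A)
  have hEne : E.map (QuotientGroup.mk' A) ≠ ⊥ := by
    intro h
    apply hne
    apply le_antisymm hAE
    intro x hx
    have : (QuotientGroup.mk' A) x ∈ E.map (QuotientGroup.mk' A) := Subgroup.mem_map_of_mem _ hx
    rw [h, Subgroup.mem_bot] at this
    exact (QuotientGroup.eq_one_iff x).mp this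
  obtain ⟨z, hzE, hz1, hzc⟩ := exists_mem_centerOmega hQ (E.map (QuotientGroup.mk' A)) hEne
  have hzord : orderOf z = p := orderOf_eq_prime hzc.2 hz1
  have hzn : (Subgroup.zpowers z).Normal := by
    constructor
    intro n hn g
    have hnc : n ∈ Subgroup.center (R ⧸ A) := (Subgroup.zpowers_le.mpr hzc.1) hn
    have h1 : g * n = n * g := (Subgroup.mem_center_iff.mp hnc g)
    rw [h1, mul_inv_cancel_right]
    exact hn
  refine ⟨(Subgroup.zpowers z).comap (QuotientGroup.mk' A), hzn.comap _, ?_, ?_, ?_⟩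
  · intro a ha
    rw [Subgroup.mem_comap]
    have : (QuotientGroup.mk' A) a = 1 := (QuotientGroup.eq_one_iff a).mpr ha
    rw [this]; exact one_mem _
  · intro x hx
    rw [Subgroup.mem_comap] at hx
    have h1 : (QuotientGroup.mk' A) x ∈ E.map (QuotientGroup.mk' A) :=
      (Subgroup.zpowers_le.mpr hzE) hx
    obtain ⟨e, he, hex⟩ := h1
    have h2 : e⁻¹ * x ∈ A := QuotientGroup.eq.mp hex
    have : x = e * (e⁻¹ * x) := by group
    rw [this]; exact mul_mem he (hAE h2)
  · have hker : A = (⊥ : Subgroup (R ⧸ A)).comap (QuotientGroup.mk' A) := by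
      rw [MonoidHom.comap_bot, QuotientGroup.ker_mk']
    have hrw : A.relIndex ((Subgroup.zpowers z).comap (QuotientGroup.mk' A)) =
        ((⊥ : Subgroup (R ⧸ A)).comap (QuotientGroup.mk' A)).relIndex
          ((Subgroup.zpowers z).comap (QuotientGroup.mk' A)) := by
      rw [← hker]
    rw [hrw, Subgroup.relIndex_comap,
      Subgroup.map_comap_eq_self_of_surjective (QuotientGroup.mk'_surjective A),
      Subgroup.relIndex_bot_left, Nat.card_zpowers, hzord]

/-- for odd `p`, every non-cyclic `p`-group has a normal elementary abelian subgroup of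
order `p²` -/
theorem exists_normal_elem_abelian_sq {R : Type*} [Group R] [Finite R] {p : ℕ}
    [hp : Fact p.Prime] (hp2 : p ≠ 2) (hR : IsPGroup p R) (hnc : ¬ IsCyclic R) :
    ∃ B : Subgroup R, B.Normal ∧ (∀ x ∈ B, ∀ y ∈ B, x * y = y * x) ∧ (∀ x ∈ B, x ^ p = 1) ∧
      Nat.card B = p ^ 2 := by
  obtain ⟨A, -, hAmax⟩ := Finite.exists_le_maximal
    (p := fun M : Subgroup R => M.Normal ∧ ∀ x ∈ M, ∀ y ∈ M, x * y = y * x)
    (a := ⊥) ⟨inferInstance, by
      intro x hx y hy
      rw [Subgroup.mem_bot] at hx hy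
      rw [hx, hy]⟩
  obtain ⟨⟨hAn, hAc⟩, hAmax'⟩ := hAmax
  by_cases hAcyc : IsCyclic A
  · have hAtop : A ≠ ⊤ := by
      rintro rfl
      apply hnc
      exact isCyclic_of_surjective (Subgroup.topEquiv : (⊤ : Subgroup R) ≃* R)
        Subgroup.topEquiv.surjective
    obtain ⟨B, hBn, hAB, -, hrel⟩ := exists_normal_step hR A ⊤ hAn inferInstance le_top hAtop
    have hBp : IsPGroup p B := hR.to_subgroup B
    have hBnc : ¬ IsCyclic B := by
      intro hBc
      have hBcomm : ∀ x ∈ B, ∀ y ∈ B, x * y = y * x := by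
        intro x hx y hy
        obtain ⟨g, hg⟩ := hBc.exists_generator
        obtain ⟨i, hi⟩ := hg ⟨x, hx⟩
        obtain ⟨j, hj⟩ := hg ⟨y, hy⟩
        have hi' : (g : R) ^ i = x := by
          have := congrArg (Subtype.val) hi
          simpa using this
        have hj' : (g : R) ^ j = y := by
          have := congrArg (Subtype.val) hj
          simpa using this
        rw [← hi', ← hj', ← zpow_add, ← zpow_add, add_comm]
      have hBA : B ≤ A := hAmax' ⟨hBn, hBcomm⟩ hAB
      rw [← Subgroup.relIndex_eq_one] at hBA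
      rw [hBA] at hrel
      exact hp.out.one_lt.ne hrel
    have hAsub : IsCyclic (A.subgroupOf B) :=
      isCyclic_of_surjective (Subgroup.subgroupOfEquivOfLe hAB).symm
        (Subgroup.subgroupOfEquivOfLe hAB).symm.surjective
    obtain ⟨h1, h2, h3⟩ := omega_cyclic_index hp2 hBp hBnc (A.subgroupOf B) hAsub hrel
    have hWchar : (Subgroup.closure {x : B | x ^ p = 1}).Characteristic := by
      apply closure_characteristic
      intro φ s hs
      show (φ s) ^ p = 1
      rw [← map_pow, show s ^ p = 1 from hs, map_one]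
    refine ⟨(Subgroup.closure {x : B | x ^ p = 1}).map B.subtype,
      ConjAct.normal_of_characteristic_of_normal, ?_, ?_, ?_⟩
    · rintro _ ⟨x, hx, rfl⟩ _ ⟨y, hy, rfl⟩
      have := h1 x hx y hy
      rw [← map_mul, ← map_mul, this]
    · rintro _ ⟨x, hx, rfl⟩
      have := h2 x hx
      rw [← map_pow, this, map_one]
    · rw [Subgroup.card_map_of_injective (Subgroup.subtype_injective B)]
      exact h3
  · have hAp : IsPGroup p A := hR.to_subgroup A
    have hex : ∃ H K : Subgroup A, Nat.card H = p ∧ Nat.card K = p ∧ H ≠ K := by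
      by_contra hno
      apply hAcyc
      rcases Cfsg.Agent.S0016.result p hAp (fun H K hH hK => by
         by_contra hne; exact hno ⟨H, K, hH, hK, hne⟩) with h | h
      · exact h
      · exact absurd h.1 hp2
    obtain ⟨H, K, hH, hK, hHK⟩ := hex
    have hScomm : ∀ s ∈ {a : R | a ∈ A ∧ a ^ p = 1}, ∀ t ∈ {a : R | a ∈ A ∧ a ^ p = 1},
        s * t = t * s := fun s hs t ht => hAc s hs.1 t ht.1
    have hE1 := closure_comm _ hScomm
    have hE2 := closure_pow_eq_one _ hScomm p (fun s hs => hs.2)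
    have hEn : (Subgroup.closure {a : R | a ∈ A ∧ a ^ p = 1}).Normal := by
      apply closure_normal_of_conj
      intro g s hs
      apply Subgroup.subset_closure
      exact ⟨hAn.conj_mem s hs.1 g, by rw [conj_pow, hs.2, mul_one, mul_inv_cancel]⟩
    have hsub : ∀ L : Subgroup A, Nat.card L = p →
        L.map A.subtype ≤ Subgroup.closure {a : R | a ∈ A ∧ a ^ p = 1} := by
      intro L hL
      rintro _ ⟨x, hx, rfl⟩
      apply Subgroup.subset_closure
      refine ⟨x.2, ?_⟩
      have h1 : (⟨x, hx⟩ : L) ^ Nat.card L = 1 := pow_card_eq_one'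
      rw [hL] at h1
      have := congrArg (fun y : L => ((y : A) : R)) h1
      simpa using this
    have hcardmap : ∀ L : Subgroup A, Nat.card (L.map A.subtype) = Nat.card L := fun L =>
      Subgroup.card_map_of_injective (Subgroup.subtype_injective A)
    have hEnot : ∀ B₁ : Subgroup R, Nat.card B₁ = p →
        B₁ ≠ Subgroup.closure {a : R | a ∈ A ∧ a ^ p = 1} := by
      intro B₁ hB₁ heq
      apply hHK
      have e1 : H.map A.subtype = Subgroup.closure {a : R | a ∈ A ∧ a ^ p = 1} :=
        Subgroup.eq_of_le_of_card_ge (hsub H hH) (by rw [hcardmap, hH, ← heq, hB₁])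
      have e2 : K.map A.subtype = Subgroup.closure {a : R | a ∈ A ∧ a ^ p = 1} :=
        Subgroup.eq_of_le_of_card_ge (hsub K hK) (by rw [hcardmap, hK, ← heq, hB₁])
      exact Subgroup.map_injective (Subgroup.subtype_injective A) (e1.trans e2.symm)
    have hEbot : (⊥ : Subgroup R) ≠ Subgroup.closure {a : R | a ∈ A ∧ a ^ p = 1} := by
      intro heq
      have h1 := hsub H hH
      rw [← heq, le_bot_iff] at h1
      have h2 := hcardmap H
      rw [h1, Subgroup.card_bot, hH] at h2
      exact hp.out.one_lt.ne h2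
    obtain ⟨B₁, hB₁n, -, hB₁E, hrel₁⟩ := exists_normal_step hR ⊥
      (Subgroup.closure {a : R | a ∈ A ∧ a ^ p = 1}) inferInstance hEn bot_le hEbot
    rw [Subgroup.relIndex_bot_left] at hrel₁
    obtain ⟨B₂, hB₂n, hB₁₂, hB₂E, hrel₂⟩ := exists_normal_step hR B₁
      (Subgroup.closure {a : R | a ∈ A ∧ a ^ p = 1}) hB₁n hEn hB₁E (hEnot B₁ hrel₁)
    refine ⟨B₂, hB₂n, fun x hx y hy => hE1 x (hB₂E hx) y (hB₂E hy),
      fun x hx => hE2 x (hB₂E hx), ?_⟩
    rw [← Subgroup.relIndex_bot_left, ← Subgroup.relIndex_mul_relIndex ⊥ B₁ B₂ bot_le hB₁₂,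
      Subgroup.relIndex_bot_left, hrel₁, hrel₂, sq]

end Cfsg.Agent.Helper1
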