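import Mathlib
import Cfsg.Prelude.Def_PLocal
import Cfsg.Agent.Helper1.HeisP
import Cfsg.Agent.Helper9.Ico7

/-!
Helper library (seat helper1): the group `Qd(p)`: membership, order, and its Sylow
`p`-subgroups (Heisenberg groups of order `p^3`).
-/

set_option autoImplicit false

namespace Cfsg.Agent.Helper1.Qd

open Matrix Cfsg.Agent.Helper1

variable {p : ℕ}

/-- local abbreviation -/
abbrev SL3 (p : ℕ) := Matrix.SpecialLinearGroup (Fin 3) (ZMod p)

/-- the affine subgroup as an explicit subgroup -/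
def Q0 (p : ℕ) : Subgroup (SL3 p) where
  carrier := {M | (M : Matrix (Fin 3) (Fin 3) (ZMod p)) 2 0 = 0 ∧
    (M : Matrix (Fin 3) (Fin 3) (ZMod p)) 2 1 = 0 ∧ (M : Matrix (Fin 3) (Fin 3) (ZMod p)) 2 2 = 1}
  mul_mem' := by
    rintro M N ⟨h0, h1, h2⟩ ⟨k0, k1, k2⟩
    refine ⟨?_, ?_, ?_⟩
    · rw [Matrix.SpecialLinearGroup.coe_mul, Matrix.mul_apply, Fin.sum_univ_three, h0, h1, h2, k0]
      simp
    · rw [Matrix.SpecialLinearGroup.coe_mul, Matrix.mul_apply, Fin.sum_univ_three, h0, h1, h2, k1]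
      simp
    · rw [Matrix.SpecialLinearGroup.coe_mul, Matrix.mul_apply, Fin.sum_univ_three, h0, h1, h2, k2]
      simp
  one_mem' := by
    refine ⟨?_, ?_, ?_⟩ <;> simp
  inv_mem' := by
    rintro M ⟨h0, h1, h2⟩
    have hmul : (M * M⁻¹ : SL3 p) = 1 := mul_inv_cancel M
    have key : ∀ j : Fin 3, ((M⁻¹ : SL3 p) : Matrix (Fin 3) (Fin 3) (ZMod p)) 2 j =
        (1 : Matrix (Fin 3) (Fin 3) (ZMod p)) 2 j := by
      intro j
      have h := congrArg (fun X : SL3 p => (X : Matrix (Fin 3) (Fin 3) (ZMod p)) 2 j) hmul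
      simp only [Matrix.SpecialLinearGroup.coe_mul, Matrix.mul_apply, Fin.sum_univ_three, h0, h1,
        h2, Matrix.SpecialLinearGroup.coe_one] at h
      simpa using h
    refine ⟨?_, ?_, ?_⟩
    · rw [key]; simp
    · rw [key]; simp
    · rw [key]; simp

theorem qd_eq (p : ℕ) : Cfsg.qd p = Q0 p := by
  unfold Cfsg.qd
  exact Subgroup.closure_eq (Q0 p)

theorem mem_qd {M : SL3 p} : M ∈ Cfsg.qd p ↔ (M : Matrix (Fin 3) (Fin 3) (ZMod p)) 2 0 = 0 ∧
    (M : Matrix (Fin 3) (Fin 3) (ZMod p)) 2 1 = 0 ∧ (M : Matrix (Fin 3) (Fin 3) (ZMod p)) 2 2 = 1 := by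
  rw [qd_eq]; rfl

/-- the matrix with block `A` and translation `v` -/
def mk (A : Matrix (Fin 2) (Fin 2) (ZMod p)) (v : ZMod p × ZMod p) :
    Matrix (Fin 3) (Fin 3) (ZMod p) :=
  !![A 0 0, A 0 1, v.1; A 1 0, A 1 1, v.2; 0, 0, 1]

theorem det_mk (A : Matrix (Fin 2) (Fin 2) (ZMod p)) (v : ZMod p × ZMod p) :
    (mk A v).det = A.det := by
  rw [Matrix.det_fin_three, Matrix.det_fin_two]
  simp [mk]

theorem eq_mk {M : SL3 p} (hM : M ∈ Cfsg.qd p) :
    (M : Matrix (Fin 3) (Fin 3) (ZMod p)) =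
      mk !![(M : Matrix (Fin 3) (Fin 3) (ZMod p)) 0 0, (M : Matrix (Fin 3) (Fin 3) (ZMod p)) 0 1;
        (M : Matrix (Fin 3) (Fin 3) (ZMod p)) 1 0, (M : Matrix (Fin 3) (Fin 3) (ZMod p)) 1 1]
        ((M : Matrix (Fin 3) (Fin 3) (ZMod p)) 0 2, (M : Matrix (Fin 3) (Fin 3) (ZMod p)) 1 2) := by
  obtain ⟨h0, h1, h2⟩ := mem_qd.mp hM
  ext i j
  fin_cases i <;> fin_cases j <;> simp [mk, h0, h1, h2]

/-- `Qd(p)` as a set is `SL₂(p) × 𝔽_p²` -/
def qdEquiv (p : ℕ) : ↥(Cfsg.qd p) ≃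
    Matrix.SpecialLinearGroup (Fin 2) (ZMod p) × (ZMod p × ZMod p) where
  toFun M := (⟨!![(M.1 : Matrix (Fin 3) (Fin 3) (ZMod p)) 0 0, (M.1 : Matrix (Fin 3) (Fin 3) (ZMod p)) 0 1;
      (M.1 : Matrix (Fin 3) (Fin 3) (ZMod p)) 1 0, (M.1 : Matrix (Fin 3) (Fin 3) (ZMod p)) 1 1], by
        rw [← det_mk _ ((M.1 : Matrix (Fin 3) (Fin 3) (ZMod p)) 0 2,
          (M.1 : Matrix (Fin 3) (Fin 3) (ZMod p)) 1 2), ← eq_mk M.2]
        exact M.1.2⟩,
    ((M.1 : Matrix (Fin 3) (Fin 3) (ZMod p)) 0 2, (M.1 : Matrix (Fin 3) (Fin 3) (ZMod p)) 1 2))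
  invFun t := ⟨⟨mk t.1.1 t.2, by rw [det_mk]; exact t.1.2⟩, by
    refine mem_qd.mpr ⟨?_, ?_, ?_⟩ <;> simp [mk]⟩
  left_inv M := by
    apply Subtype.ext
    apply Subtype.ext
    exact (eq_mk M.2).symm
  right_inv t := by
    obtain ⟨⟨A, hA⟩, v1, v2⟩ := t
    refine Prod.ext ?_ (Prod.ext ?_ ?_)
    · apply Subtype.ext
      ext i j
      fin_cases i <;> fin_cases j <;> simp [mk]
    · simp [mk]
    · simp [mk]

theorem card_qd [Fact p.Prime] : Nat.card ↥(Cfsg.qd p) = p ^ 3 * ((p - 1) * (p + 1)) := by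
  have hp : p.Prime := Fact.out
  have : NeZero p := ⟨hp.ne_zero⟩
  rw [Nat.card_congr (qdEquiv p), Nat.card_prod, Nat.card_prod, Nat.card_zmod]
  have hc : Fintype.card (ZMod p) = (p - 1) + 1 := by
    rw [ZMod.card]; have := hp.one_lt; omega
  rw [Cfsg.Agent.Helper9.sl2_card_h9 (p - 1) hc]
  have h1 : p - 1 + 1 = p := by have := hp.one_lt; omega
  have h2 : p - 1 + 2 = p + 1 := by have := hp.one_lt; omega
  rw [h1, h2]; ring

/-- the Heisenberg matrices -/
def hmat (h : HeisP p 1) : Matrix (Fin 3) (Fin 3) (ZMod p) :=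
  !![1, h.a 0, h.c; 0, 1, h.b 0; 0, 0, 1]

theorem det_hmat (h : HeisP p 1) : (hmat h).det = 1 := by
  rw [Matrix.det_fin_three]
  simp [hmat]

theorem hmat_mul (h h' : HeisP p 1) : hmat (h * h') = hmat h * hmat h' := by
  ext i j
  fin_cases i <;> fin_cases j <;>
    simp [hmat, Matrix.mul_apply, Fin.sum_univ_three, dotProduct] <;> ring

theorem hmat_one : hmat (1 : HeisP p 1) = 1 := by
  ext i j
  fin_cases i <;> fin_cases j <;> simp [hmat]

/-- the Heisenberg group inside `Qd(p)` -/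
def heisHom (p : ℕ) : HeisP p 1 →* ↥(Cfsg.qd p) where
  toFun h := ⟨⟨hmat h, det_hmat h⟩, by
    refine mem_qd.mpr ⟨?_, ?_, ?_⟩ <;> simp [hmat]⟩
  map_one' := by
    apply Subtype.ext
    apply Subtype.ext
    exact hmat_one
  map_mul' h h' := by
    apply Subtype.ext
    apply Subtype.ext
    exact hmat_mul h h'

theorem heisHom_injective : Function.Injective (heisHom p) := by
  intro h h' hh
  have h1 : hmat h = hmat h' := congrArg (fun X : ↥(Cfsg.qd p) => (X.1 : Matrix (Fin 3) (Fin 3) (ZMod p))) hh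
  have ha := congrFun (congrFun h1 0) 1
  have hb := congrFun (congrFun h1 1) 2
  have hc := congrFun (congrFun h1 0) 2
  simp [hmat] at ha hb hc
  ext1
  · ext i; fin_cases i; exact ha
  · ext i; fin_cases i; exact hb
  · exact hc

theorem card_range [Fact p.Prime] : Nat.card (heisHom p).range = p ^ 3 := by
  have hp : p.Prime := Fact.out
  have : NeZero p := ⟨hp.ne_zero⟩
  rw [← Nat.card_congr (MonoidHom.ofInjective (heisHom_injective (p := p))).toEquiv, HeisP.card]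

theorem factorization_card [Fact p.Prime] : (Nat.card ↥(Cfsg.qd p)).factorization p = 3 := by
  have hp : p.Prime := Fact.out
  have h1 : ¬ p ∣ (p - 1) * (p + 1) := by
    intro h
    rcases (Nat.Prime.dvd_mul hp).mp h with h | h
    · have := Nat.le_of_dvd (by have := hp.one_lt; omega) h
      have := hp.one_lt; omega
    · have : p ∣ 1 := (Nat.dvd_add_right (dvd_refl p)).mp h
      exact hp.one_lt.ne' (Nat.dvd_one.mp this)
  have h2 : (p - 1) * (p + 1) ≠ 0 := by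
    have := hp.one_lt
    exact Nat.mul_ne_zero (by omega) (by omega)
  rw [card_qd, Nat.factorization_mul (pow_ne_zero 3 hp.ne_zero) h2, Nat.Prime.factorization_pow hp]
  simp [Nat.factorization_eq_zero_of_not_dvd h1]

/-- the Heisenberg subgroup as a Sylow subgroup -/
noncomputable def heisSylow (p : ℕ) [Fact p.Prime] : Sylow p ↥(Cfsg.qd p) :=
  haveI : Finite ↥(Cfsg.qd p) := by
    have hp : p.Prime := Fact.out
    have : NeZero p := ⟨hp.ne_zero⟩
    infer_instance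
  Sylow.ofCard (heisHom p).range (by rw [card_range, factorization_card])

theorem heisSylow_coe [Fact p.Prime] : ((heisSylow p : Sylow p ↥(Cfsg.qd p)) : Subgroup ↥(Cfsg.qd p)) =
    (heisHom p).range := rfl

/-- every Sylow `p`-subgroup of `Qd(p)` is a Heisenberg group -/
theorem sylow_iso [Fact p.Prime] (P : Sylow p ↥(Cfsg.qd p)) :
    Nonempty (HeisP p 1 ≃* ↥(P : Subgroup ↥(Cfsg.qd p))) := by
  have hp : p.Prime := Fact.out
  have : NeZero p := ⟨hp.ne_zero⟩
  have : Finite ↥(Cfsg.qd p) := inferInstance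
  have e1 : HeisP p 1 ≃* (heisHom p).range := MonoidHom.ofInjective heisHom_injective
  exact ⟨e1.trans (Sylow.equiv (heisSylow p) P)⟩

/-- Sylow `p`-subgroups of `Qd(p)`, `p` odd -/
theorem sylow_extraspecial (p : ℕ) [Fact p.Prime] (hp2 : p ≠ 2) (P : Sylow p ↥(Cfsg.qd p)) :
    Cfsg.IsExtraspecial p ↥P ∧ Nat.card P = p ^ 3 ∧ Monoid.exponent ↥P = p := by
  have hp : p.Prime := Fact.out
  have : NeZero p := ⟨hp.ne_zero⟩
  have : Finite ↥(Cfsg.qd p) := inferInstance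
  obtain ⟨e⟩ := sylow_iso P
  have hcard : Nat.card P = p ^ 3 := by
    rw [← Nat.card_congr e.toEquiv, HeisP.card]
  refine ⟨?_, hcard, ?_⟩
  · obtain ⟨x, hx⟩ := HeisP.exists_noncentral (p := p) (n := 1) le_rfl
    apply extraspecial_of_esdata ((HeisP.esdata hp2).map e)
    refine ⟨e x, ?_⟩
    intro hc
    apply hx
    rw [Subgroup.mem_center_iff] at hc ⊢
    intro g
    apply e.injective
    rw [map_mul, map_mul]
    exact hc (e g)
  · have h1 : Monoid.exponent ↥P ∣ p := by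
      apply Monoid.exponent_dvd_of_forall_pow_eq_one
      intro g
      have := HeisP.pow_p hp2 (e.symm g)
      have h2 := congrArg e this
      rwa [map_pow, e.apply_symm_apply, map_one] at h2
    rcases (Nat.dvd_prime hp).mp h1 with h | h
    · exfalso
      rw [Monoid.exp_eq_one_iff] at h
      have : Nat.card P = 1 := Nat.card_eq_one_iff_unique.mpr ⟨h, ⟨1⟩⟩
      rw [hcard] at this
      have := Nat.one_lt_pow (n := 3) (by norm_num) hp.one_lt
      omega
    · exact h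

end Cfsg.Agent.Helper1.Qd
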