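import Mathlib
import Cfsg.Prelude.Def_Transfer
import Cfsg.Agent.Helper13.NPC
import Cfsg.Agent.Helper1.NC
import Cfsg.Agent.Helper1.NC2
import Cfsg.Agent.Helper1.Hall
import Cfsg.Agent.Helper1.Coprime
import Cfsg.Agent.S3743

/-!
# S4016: reduction of a minimal counterexample to the simple case, and the transfer lemma
(helper1)
-/

set_option autoImplicit false

namespace Cfsg.Agent.Helper1.S16

open Cfsg.Agent.Helper13 Cfsg.Agent.Helper17

open scoped commutatorElement

universe u

/-- the statement of S4016 for one group -/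
abbrev Good (p : ℕ) (G : Type u) [Group G] : Prop :=
  ∀ P : Sylow p G, IsCyclic P → (∀ H : Subgroup G, ¬ p ∣ Nat.card H → IsMulCommutative H) →
    Cfsg.HasNormalPComplement p G ∨ (P : Subgroup G).Normal

section basic

variable {G : Type u} [Group G] [Finite G] {p : ℕ} [Fact p.Prime]

theorem r_orderOf_conj (x y : G) : orderOf (x * y * x⁻¹) = orderOf y :=
  (MulAut.conj x).orderOf_eq y

/-- finite criterion for the normaliser -/
theorem r_mem_normalizer (U : Subgroup G) (g : G) (h : ∀ x ∈ U, g * x * g⁻¹ ∈ U) :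
    g ∈ Subgroup.normalizer (U : Set G) := by
  rw [Subgroup.mem_normalizer_iff]
  intro x
  refine ⟨h x, fun hx => ?_⟩
  let f : U → U := fun y => ⟨g * y * g⁻¹, h y y.2⟩
  have hinj : Function.Injective f := by
    intro a b hab
    have h1 : g * (a : G) * g⁻¹ = g * (b : G) * g⁻¹ := congrArg Subtype.val hab
    exact Subtype.ext (mul_left_cancel (mul_right_cancel h1))
  obtain ⟨y, hy⟩ := (Finite.injective_iff_surjective.mp hinj) ⟨g * x * g⁻¹, hx⟩
  have h2 : g * (y : G) * g⁻¹ = g * x * g⁻¹ := congrArg Subtype.val hy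
  have h3 : (y : G) = x := mul_left_cancel (mul_right_cancel h2)
  rw [← h3]; exact y.2

theorem r_not_dvd_card (K : Subgroup G) (hK : ∀ y ∈ K, (orderOf y).Coprime p) :
    ¬ p ∣ Nat.card K := by
  intro hdvd
  obtain ⟨y, hy⟩ := exists_prime_orderOf_dvd_card' p hdvd
  have h1 := hK y y.2
  rw [Subgroup.orderOf_coe, hy] at h1
  exact (Fact.out : p.Prime).ne_one ((Nat.coprime_self p).mp h1)

/-- the transfer lemma: in a nonabelian simple group an element of an abelian Sylow subgroup
`Q` that is central in `N(Q)` is trivial -/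
theorem transfer_T [IsSimpleGroup G] (hna : ∃ a b : G, a * b ≠ b * a) (q : ℕ) [Fact q.Prime]
    (Q : Sylow q G) (hQ : IsMulCommutative Q) (y : G) (hy : y ∈ Q)
    (hyn : ∀ n ∈ Subgroup.normalizer ((Q : Subgroup G) : Set G), n * y = y * n) : y = 1 := by
  have := hQ
  obtain ⟨N, hN, ⟨e⟩⟩ := abelian_sylow_quotient Q
  have hyZ : y ∈ ((Q : Subgroup G) ⊓
      Subgroup.centralizer (Subgroup.normalizer ((Q : Subgroup G) : Set G) : Set G) :
        Subgroup G) := by
    refine Subgroup.mem_inf.mpr ⟨hy, ?_⟩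
    rw [Subgroup.mem_centralizer_iff]
    intro n hn
    exact hyn n hn
  rcases hN.eq_bot_or_eq_top with hb | ht
  · exfalso
    obtain ⟨a, b, hab⟩ := hna
    apply hab
    have h1 := (e (QuotientGroup.mk' N a)).2
    have h2 := (e (QuotientGroup.mk' N b)).2
    have hc := hQ.is_comm.comm (⟨_, (Subgroup.mem_inf.mp h1).1⟩ : Q)
      ⟨_, (Subgroup.mem_inf.mp h2).1⟩
    have hc' : ((e (QuotientGroup.mk' N a)) : G) * ((e (QuotientGroup.mk' N b)) : G) =
        ((e (QuotientGroup.mk' N b)) : G) * ((e (QuotientGroup.mk' N a)) : G) :=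
      congrArg Subtype.val hc
    have hc2 : e (QuotientGroup.mk' N a) * e (QuotientGroup.mk' N b) =
        e (QuotientGroup.mk' N b) * e (QuotientGroup.mk' N a) := Subtype.ext hc'
    have hc3 : e (QuotientGroup.mk' N (a * b)) = e (QuotientGroup.mk' N (b * a)) := by
      rw [map_mul, map_mul, map_mul, map_mul]; exact hc2
    have h3 := e.injective hc3
    have h4 : (a * b)⁻¹ * (b * a) ∈ N := QuotientGroup.eq.mp h3
    rw [hb, Subgroup.mem_bot] at h4
    exact inv_mul_eq_one.mp h4
  · subst ht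
    haveI : Subsingleton (G ⧸ (⊤ : Subgroup G)) := QuotientGroup.subsingleton_quotient_top
    have hs : Subsingleton ↥((Q : Subgroup G) ⊓
      Subgroup.centralizer (Subgroup.normalizer ((Q : Subgroup G) : Set G) : Set G) :
        Subgroup G) := e.symm.injective.subsingleton
    have h1 := @Subsingleton.elim _ hs ⟨y, hyZ⟩ 1
    exact congrArg Subtype.val h1

/-- abelian `p'`-subgroups pass to subgroups -/
theorem r_sub_ab {H : Subgroup G}
    (hab : ∀ K : Subgroup G, ¬ p ∣ Nat.card K → IsMulCommutative K) :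
    ∀ K : Subgroup H, ¬ p ∣ Nat.card K → IsMulCommutative K := by
  intro K hK
  have h1 : Nat.card (K.map H.subtype) = Nat.card K :=
    Subgroup.card_map_of_injective H.subtype_injective
  have h2 := hab (K.map H.subtype) (by rw [h1]; exact hK)
  refine ⟨⟨fun a b => ?_⟩⟩
  have ha : ((a : H) : G) ∈ K.map H.subtype := Subgroup.mem_map_of_mem H.subtype a.2
  have hb : ((b : H) : G) ∈ K.map H.subtype := Subgroup.mem_map_of_mem H.subtype b.2
  have hc : ((a : H) : G) * ((b : H) : G) = ((b : H) : G) * ((a : H) : G) :=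
    congrArg Subtype.val (h2.is_comm.comm ⟨_, ha⟩ ⟨_, hb⟩)
  apply Subtype.ext
  apply Subtype.ext
  exact hc

/-- all Sylow `p`-subgroups are cyclic when one is -/
theorem r_all_cyc (P : Sylow p G) (hcyc : IsCyclic P) (P' : Sylow p G) : IsCyclic P' := by
  obtain ⟨g, rfl⟩ := MulAction.exists_smul_eq G P P'
  haveI := hcyc
  exact isCyclic_of_surjective (Sylow.equivSMul P g).toMonoidHom (Sylow.equivSMul P g).surjective

/-- Sylow subgroups of subgroups are cyclic -/
theorem r_sub_cyc (P : Sylow p G) (hcyc : IsCyclic P) (H : Subgroup G) (P1 : Sylow p H) :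
    IsCyclic P1 := by
  have hp1 : IsPGroup p ((P1 : Subgroup H).map H.subtype) := P1.2.map H.subtype
  obtain ⟨P', hP'⟩ := hp1.exists_le_sylow
  haveI := r_all_cyc P hcyc P'
  let f : (P1 : Subgroup H) →* (P' : Subgroup G) :=
    (H.subtype.comp (P1 : Subgroup H).subtype).codRestrict (P' : Subgroup G)
      (fun x => hP' (Subgroup.mem_map_of_mem H.subtype x.2))
  have hf : Function.Injective f := by
    intro a b hab
    have h0 : ((f a : (P' : Subgroup G)) : G) = ((f b : (P' : Subgroup G)) : G) :=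
      congrArg Subtype.val hab
    have h1 : ((a : H) : G) = ((b : H) : G) := h0
    exact Subtype.ext (Subtype.ext h1)
  exact isCyclic_of_injective f hf

end basic

section red

variable {G : Type u} [Group G] [Finite G] {p : ℕ} [Fact p.Prime]

/-- the induction hypothesis applied to a proper subgroup -/
theorem r_ih_sub
    (IH : ∀ (G' : Type u) [Group G'] [Finite G'], Nat.card G' < Nat.card G → Good p G')
    (P : Sylow p G) (hcyc : IsCyclic P)
    (hab : ∀ H : Subgroup G, ¬ p ∣ Nat.card H → IsMulCommutative H)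
    (H : Subgroup G) (hH : H ≠ ⊤) (P1 : Sylow p H) :
    Cfsg.HasNormalPComplement p H ∨ (P1 : Subgroup H).Normal := by
  have hlt : Nat.card H < Nat.card G :=
    lt_of_le_of_ne (Subgroup.card_le_card_group (H := H))
      (fun h => hH ((Subgroup.card_eq_iff_eq_top H).mp h))
  exact IH H hlt P1 (r_sub_cyc P hcyc H P1) (r_sub_ab hab)

/-- consequences of the induction hypothesis for a proper normal subgroup -/
theorem r_normal_cases
    (IH : ∀ (G' : Type u) [Group G'] [Finite G'], Nat.card G' < Nat.card G → Good p G')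
    (P : Sylow p G) (hcyc : IsCyclic P)
    (hab : ∀ H : Subgroup G, ¬ p ∣ Nat.card H → IsMulCommutative H)
    (M : Subgroup G) (hMn : M.Normal) (hM : M ≠ ⊤) :
    (∃ K : Subgroup G, K.Normal ∧ ¬ p ∣ Nat.card K ∧
      ∀ y ∈ M, (orderOf y).Coprime p → y ∈ K) ∨
    (∃ T : Subgroup G, T.Normal ∧ IsPGroup p T ∧ ∀ y ∈ M, ∀ k : ℕ, y ^ p ^ k = 1 → y ∈ T) := by
  obtain ⟨P1⟩ : Nonempty (Sylow p M) := inferInstance
  rcases r_ih_sub IH P hcyc hab M hM P1 with h1 | h2
  · left
    obtain ⟨K, hK⟩ := npcin_of_npc_subgroup M h1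
    refine ⟨K, ⟨fun y hy g => ?_⟩, r_not_dvd_card K (fun y hy => ((hK y).mp hy).2),
      fun y hy ho => (hK y).mpr ⟨hy, ho⟩⟩
    have h3 := (hK y).mp hy
    exact (hK _).mpr ⟨hMn.conj_mem y h3.1 g, by rw [r_orderOf_conj]; exact h3.2⟩
  · right
    have key : ∀ (y : G) (hy : y ∈ M) (k : ℕ), y ^ p ^ k = 1 → (⟨y, hy⟩ : M) ∈ P1 := by
      intro y hy k hk
      refine mem_sylow_of_mem_normalizer_of_pow_eq_one P1 _ ?_ k ?_
      · rw [Subgroup.normalizer_eq_top_iff.mpr h2]; exact Subgroup.mem_top _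
      · exact Subtype.ext (by simpa using hk)
    refine ⟨(P1 : Subgroup M).map M.subtype, ⟨fun y hy g => ?_⟩, P1.2.map M.subtype,
      fun y hy k hk => ⟨⟨y, hy⟩, key y hy k hk, rfl⟩⟩
    obtain ⟨z, hz, rfl⟩ := hy
    obtain ⟨k, hk⟩ := P1.2 ⟨z, hz⟩
    have hzk : (z : G) ^ p ^ k = 1 := by
      have h3 : (z : M) ^ p ^ k = 1 := by
        have := congrArg Subtype.val hk
        simpa using this
      have h4 := congrArg Subtype.val h3
      simpa using h4
    have hmem : g * (z : G) * g⁻¹ ∈ M := hMn.conj_mem _ z.2 g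
    have hpow : (g * (z : G) * g⁻¹) ^ p ^ k = 1 := by
      rw [conj_pow, hzk]; group
    exact ⟨⟨_, hmem⟩, key _ hmem k hpow, rfl⟩

/-- a `p'`-element of `N(P)` fixing a nontrivial element of the cyclic `P` centralises `P` -/
theorem r_fpf (P : Sylow p G) (hcyc : IsCyclic P) (x : G)
    (hx : x ∈ Subgroup.normalizer ((P : Subgroup G) : Set G)) (hxo : (orderOf x).Coprime p)
    (u : G) (hu : u ∈ (P : Subgroup G)) (hu1 : u ≠ 1) (hxu : x * u = u * x) :
    x ∈ Subgroup.centralizer ((P : Subgroup G) : Set G) := by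
  haveI := hcyc
  haveI : IsMulCommutative P := IsCyclic.isMulCommutative
  have hAN : Subgroup.zpowers x ≤ Subgroup.normalizer ((P : Subgroup G) : Set G) :=
    Subgroup.zpowers_le.mpr hx
  have hcop : (Nat.card (Subgroup.zpowers x)).Coprime (Nat.card (P : Subgroup G)) := by
    rw [Nat.card_zpowers]
    obtain ⟨k, hk⟩ := P.2.exists_card_eq
    rw [hk]; exact Nat.Coprime.pow_right k hxo
  have h1 := coprime_abelian_inf (Subgroup.zpowers x) (P : Subgroup G) hAN hcop
  rcases eq_bot_or_eq_bot_of_inf_eq_bot_of_isCyclic (P : Subgroup G) P.2 _ _ inf_le_left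
    (commutator_le_of_le_normalizer (Subgroup.zpowers x) (P : Subgroup G) hAN) h1 with hb | hb
  · exfalso
    apply hu1
    have h2 : u ∈ (P : Subgroup G) ⊓ Subgroup.centralizer (Subgroup.zpowers x : Set G) := by
      refine Subgroup.mem_inf.mpr ⟨hu, ?_⟩
      rw [Subgroup.mem_centralizer_iff]
      intro y hy
      obtain ⟨j, rfl⟩ := Subgroup.mem_zpowers_iff.mp hy
      exact (Commute.zpow_left (show Commute x u from hxu) j).eq
    rw [hb, Subgroup.mem_bot] at h2
    exact h2
  · have h3 : (P : Subgroup G) ≤ Subgroup.centralizer (Subgroup.zpowers x : Set G) :=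
      Subgroup.commutator_eq_bot_iff_le_centralizer.mp hb
    have h4 : Subgroup.zpowers x ≤ Subgroup.centralizer ((P : Subgroup G) : Set G) :=
      Subgroup.le_centralizer_iff.mp h3
    exact h4 (Subgroup.mem_zpowers x)

/-- a `p'`-element of `N(P)` not centralising `P`, when there is no normal `p`-complement -/
theorem r_exists_x (P : Sylow p G) (hcyc : IsCyclic P)
    (hnc : ¬ Cfsg.HasNormalPComplement p G) :
    ∃ x ∈ Subgroup.normalizer ((P : Subgroup G) : Set G), (orderOf x).Coprime p ∧
      x ∉ Subgroup.centralizer ((P : Subgroup G) : Set G) := by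
  haveI := hcyc
  haveI : IsMulCommutative P := IsCyclic.isMulCommutative
  exact exists_pprime_not_mem_centralizer P
    (fun hle => hnc (hasNormalPComplement_of_normalizer_le_centralizer P hle))

/-- Step 1: a normal `p'`-subgroup of a minimal counterexample is trivial -/
theorem r_step1
    (IH : ∀ (G' : Type u) [Group G'] [Finite G'], Nat.card G' < Nat.card G → Good p G')
    (P : Sylow p G) (hcyc : IsCyclic P)
    (hab : ∀ H : Subgroup G, ¬ p ∣ Nat.card H → IsMulCommutative H)
    (hnc : ¬ Cfsg.HasNormalPComplement p G) (hnn : ¬ (P : Subgroup G).Normal)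
    (R : Subgroup G) (hRn : R.Normal) (hR : ¬ p ∣ Nat.card R) : R = ⊥ := by
  by_contra hRne
  have hp : p.Prime := Fact.out
  haveI := hcyc
  haveI : IsMulCommutative P := IsCyclic.isMulCommutative
  obtain ⟨x, hxN, hxo, hxC⟩ := r_exists_x P hcyc hnc
  -- `x` centralises `R`
  have hxR : ∀ r ∈ R, x * r = r * x := by
    have hle : Subgroup.zpowers x ≤ Subgroup.normalizer (R : Set G) := by
      rw [Subgroup.normalizer_eq_top_iff.mpr hRn]; exact le_top
    have hd := Cfsg.Agent.S3743.card_sup_dvd (Subgroup.zpowers x) R hle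
    have hnd : ¬ p ∣ Nat.card (Subgroup.zpowers x ⊔ R : Subgroup G) := by
      intro h
      rcases (Nat.Prime.dvd_mul hp).mp (h.trans hd) with h3 | h3
      · exact hR h3
      · rw [Nat.card_zpowers] at h3
        exact (Nat.Prime.coprime_iff_not_dvd hp).mp hxo.symm h3
    intro r hr
    exact congrArg Subtype.val ((hab _ hnd).is_comm.comm
      (⟨x, Subgroup.mem_sup_left (Subgroup.mem_zpowers x)⟩ :
        (Subgroup.zpowers x ⊔ R : Subgroup G))
      ⟨r, Subgroup.mem_sup_right hr⟩)
  -- `P` centralises `R`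
  have hPR : ∀ u ∈ (P : Subgroup G), ∀ r ∈ R, u * r = r * u := by
    have hAN : Subgroup.zpowers x ≤ Subgroup.normalizer ((P : Subgroup G) : Set G) :=
      Subgroup.zpowers_le.mpr hxN
    have hcop : (Nat.card (Subgroup.zpowers x)).Coprime (Nat.card (P : Subgroup G)) := by
      rw [Nat.card_zpowers]
      obtain ⟨k, hk⟩ := P.2.exists_card_eq
      rw [hk]; exact Nat.Coprime.pow_right k hxo
    have h1 := coprime_abelian_inf (Subgroup.zpowers x) (P : Subgroup G) hAN hcop
    have h2 := coprime_abelian_sup (Subgroup.zpowers x) (P : Subgroup G) hAN hcop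
    have hcl : ⁅(P : Subgroup G), Subgroup.zpowers x⁆ ≤ Subgroup.centralizer (R : Set G) := by
      rw [Subgroup.commutator_le]
      intro a _ b hb
      have hbR : ∀ r ∈ R, b * r = r * b := by
        obtain ⟨j, rfl⟩ := Subgroup.mem_zpowers_iff.mp hb
        intro r hr
        exact (Commute.zpow_left (show Commute x r from hxR r hr) j).eq
      rw [Subgroup.mem_centralizer_iff]
      intro r hr
      have hr' : a⁻¹ * r * a ∈ R := by
        have h3 := hRn.conj_mem r hr a⁻¹
        rwa [inv_inv] at h3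
      have e1 := hbR r hr
      have e2 := hbR _ hr'
      have e3 : r * b⁻¹ = b⁻¹ * r := by
        calc r * b⁻¹ = b⁻¹ * (b * r) * b⁻¹ := by group
          _ = b⁻¹ * (r * b) * b⁻¹ := by rw [e1]
          _ = b⁻¹ * r := by group
      rw [commutatorElement_def]
      calc r * (a * b * a⁻¹ * b⁻¹) = a * ((a⁻¹ * r * a) * b) * a⁻¹ * b⁻¹ := by group
        _ = a * (b * (a⁻¹ * r * a)) * a⁻¹ * b⁻¹ := by rw [e2]
        _ = a * b * a⁻¹ * (r * b⁻¹) := by group
        _ = a * b * a⁻¹ * (b⁻¹ * r) := by rw [e3]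
        _ = a * b * a⁻¹ * b⁻¹ * r := by group
    rcases eq_bot_or_eq_bot_of_inf_eq_bot_of_isCyclic (P : Subgroup G) P.2 _ _ inf_le_left
      (commutator_le_of_le_normalizer (Subgroup.zpowers x) (P : Subgroup G) hAN) h1 with hb | hb
    · rw [hb, bot_sup_eq] at h2
      intro u hu r hr
      have h3 : u ∈ Subgroup.centralizer (R : Set G) := hcl (by rw [h2]; exact hu)
      exact ((Subgroup.mem_centralizer_iff.mp h3) r hr).symm
    · exfalso
      apply hxC
      have h3 : (P : Subgroup G) ≤ Subgroup.centralizer (Subgroup.zpowers x : Set G) :=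
        Subgroup.commutator_eq_bot_iff_le_centralizer.mp hb
      have h4 : Subgroup.zpowers x ≤ Subgroup.centralizer ((P : Subgroup G) : Set G) :=
        Subgroup.le_centralizer_iff.mp h3
      exact h4 (Subgroup.mem_zpowers x)
  -- `p`-elements of `P R` lie in `P`
  have hmemP : ∀ u ∈ (P : Subgroup G), ∀ r ∈ R, ∀ k : ℕ, (u * r) ^ p ^ k = 1 →
      u * r ∈ (P : Subgroup G) := by
    intro u hu r hr k hk
    have hrN : r ∈ Subgroup.normalizer ((P : Subgroup G) : Set G) := by
      apply r_mem_normalizer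
      intro v hv
      have h3 := hPR v hv r hr
      rw [← h3, mul_inv_cancel_right]
      exact hv
    exact mem_sylow_of_mem_normalizer_of_pow_eq_one P (u * r)
      (Subgroup.mul_mem _ (Subgroup.le_normalizer hu) hrN) k hk
  -- the quotient
  have hRcop : (Nat.card R).Coprime p := ((Nat.Prime.coprime_iff_not_dvd hp).mpr hR).symm
  haveI := hRn
  have hlt : Nat.card (G ⧸ R) < Nat.card G := by
    have h1 := Subgroup.card_eq_card_quotient_mul_card_subgroup R
    have h2 : 1 < Nat.card R := (Subgroup.one_lt_card_iff_ne_bot R).mpr hRne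
    have h3 : 0 < Nat.card (G ⧸ R) := Nat.card_pos
    nlinarith
  have hfs : Function.Surjective (QuotientGroup.mk' R) := QuotientGroup.mk'_surjective R
  have hPB : IsPGroup p ((P : Subgroup G).map (QuotientGroup.mk' R)) :=
    P.2.map (QuotientGroup.mk' R)
  have hidx : ¬ p ∣ ((P : Subgroup G).map (QuotientGroup.mk' R)).index := fun h =>
    P.not_dvd_index (h.trans (Subgroup.index_map_dvd (H := (P : Subgroup G)) hfs))
  have hcycB : IsCyclic (hPB.toSylow hidx) :=
    isCyclic_of_surjective ((QuotientGroup.mk' R).subgroupMap (P : Subgroup G))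
      ((QuotientGroup.mk' R).subgroupMap_surjective _)
  have habB : ∀ H : Subgroup (G ⧸ R), ¬ p ∣ Nat.card H → IsMulCommutative H := by
    intro Hb hHb
    have hcomap : ¬ p ∣ Nat.card (Hb.comap (QuotientGroup.mk' R)) := by
      apply r_not_dvd_card
      intro y hy
      have hy' : (QuotientGroup.mk' R) y ∈ Hb := hy
      have ho : (orderOf ((QuotientGroup.mk' R) y)).Coprime p :=
        Nat.Coprime.coprime_dvd_left (Subgroup.orderOf_dvd_natCard Hb hy')
          ((Nat.Prime.coprime_iff_not_dvd hp).mpr hHb).symm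
      have h1 : y ^ orderOf ((QuotientGroup.mk' R) y) ∈ R := by
        have h0 : (QuotientGroup.mk' R) (y ^ orderOf ((QuotientGroup.mk' R) y)) = 1 := by
          rw [map_pow, pow_orderOf_eq_one]
        exact (QuotientGroup.eq_one_iff _).mp h0
      have h2 : (y ^ orderOf ((QuotientGroup.mk' R) y)) ^ Nat.card R = 1 :=
        orderOf_dvd_iff_pow_eq_one.mp (Subgroup.orderOf_dvd_natCard R h1)
      have h3 : orderOf y ∣ orderOf ((QuotientGroup.mk' R) y) * Nat.card R :=
        orderOf_dvd_of_pow_eq_one (by rw [pow_mul]; exact h2)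
      exact Nat.Coprime.coprime_dvd_left h3 (Nat.Coprime.mul_left ho hRcop)
    have hH := hab _ hcomap
    refine ⟨⟨fun a b => ?_⟩⟩
    obtain ⟨a', ha'⟩ := hfs (a : G ⧸ R)
    obtain ⟨b', hb'⟩ := hfs (b : G ⧸ R)
    have hma : a' ∈ Hb.comap (QuotientGroup.mk' R) := by
      show (QuotientGroup.mk' R) a' ∈ Hb
      rw [ha']; exact a.2
    have hmb : b' ∈ Hb.comap (QuotientGroup.mk' R) := by
      show (QuotientGroup.mk' R) b' ∈ Hb
      rw [hb']; exact b.2
    have hc : a' * b' = b' * a' :=
      congrArg Subtype.val (hH.is_comm.comm ⟨a', hma⟩ ⟨b', hmb⟩)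
    apply Subtype.ext
    show (a : G ⧸ R) * (b : G ⧸ R) = (b : G ⧸ R) * (a : G ⧸ R)
    rw [← ha', ← hb', ← map_mul, ← map_mul, hc]
  rcases IH (G ⧸ R) hlt (hPB.toSylow hidx) hcycB habB with h1 | h1
  · exact hnc (npc_of_npcin_top (npcin_top_of_quotient R hRcop (npcin_top_of_npc h1)))
  · apply hnn
    have hn : ((P : Subgroup G).map (QuotientGroup.mk' R)).Normal := h1
    refine ⟨fun u hu g => ?_⟩
    have h2 : (QuotientGroup.mk' R) (g * u * g⁻¹) ∈ (P : Subgroup G).map (QuotientGroup.mk' R) := by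
      rw [map_mul, map_mul, map_inv]
      exact hn.conj_mem _ (Subgroup.mem_map_of_mem (QuotientGroup.mk' R) hu) _
    obtain ⟨u', hu', he⟩ := Subgroup.mem_map.mp h2
    have hr : u'⁻¹ * (g * u * g⁻¹) ∈ R := QuotientGroup.eq.mp he
    have h3 : g * u * g⁻¹ = u' * (u'⁻¹ * (g * u * g⁻¹)) := by group
    obtain ⟨k, hk⟩ := P.2 ⟨u, hu⟩
    have huk : u ^ p ^ k = 1 := by
      have := congrArg Subtype.val hk
      simpa using this
    rw [h3]
    apply hmemP u' hu' _ hr k
    rw [← h3, conj_pow, huk]; group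

/-- Step 2: a normal `p`-subgroup of a minimal counterexample is trivial -/
theorem r_step2
    (IH : ∀ (G' : Type u) [Group G'] [Finite G'], Nat.card G' < Nat.card G → Good p G')
    (P : Sylow p G) (hcyc : IsCyclic P)
    (hab : ∀ H : Subgroup G, ¬ p ∣ Nat.card H → IsMulCommutative H)
    (hnc : ¬ Cfsg.HasNormalPComplement p G) (hnn : ¬ (P : Subgroup G).Normal)
    (U : Subgroup G) (hUn : U.Normal) (hU : IsPGroup p U) : U = ⊥ := by
  by_contra hUne
  haveI := hcyc
  haveI : IsMulCommutative P := IsCyclic.isMulCommutative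
  obtain ⟨x, hxN, hxo, hxC⟩ := r_exists_x P hcyc hnc
  haveI := hUn
  have hUP : U ≤ (P : Subgroup G) := by
    have h1 : IsPGroup p (U ⊔ (P : Subgroup G) : Subgroup G) := hU.to_sup_of_normal_left P.2
    have h2 := P.is_maximal' h1 le_sup_right
    rw [← h2]; exact le_sup_left
  have hcommP : ∀ a ∈ (P : Subgroup G), ∀ b ∈ (P : Subgroup G), a * b = b * a := by
    intro a ha b hb
    have hc : IsMulCommutative P := inferInstance
    exact congrArg Subtype.val (hc.is_comm.comm (⟨a, ha⟩ : P) ⟨b, hb⟩)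
  have hDn : (Subgroup.centralizer (U : Set G)).Normal := inferInstance
  have hPD : (P : Subgroup G) ≤ Subgroup.centralizer (U : Set G) := by
    intro a ha
    rw [Subgroup.mem_centralizer_iff]
    intro h hh
    exact hcommP h (hUP hh) a ha
  have hD : Subgroup.centralizer (U : Set G) ≠ ⊤ := by
    intro htop
    obtain ⟨u0, hu0, hu01⟩ : ∃ u0 ∈ U, u0 ≠ 1 := by
      by_contra hall
      push Not at hall
      exact hUne ((Subgroup.eq_bot_iff_forall (H := U)).mpr hall)
    have hxD : x ∈ Subgroup.centralizer (U : Set G) := by rw [htop]; exact Subgroup.mem_top x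
    have hxu : x * u0 = u0 * x := ((Subgroup.mem_centralizer_iff.mp hxD) u0 hu0).symm
    exact hxC (r_fpf P hcyc x hxN hxo u0 (hUP hu0) hu01 hxu)
  rcases r_normal_cases IH P hcyc hab _ hDn hD with
    ⟨K, hKn, hKp, hKall⟩ | ⟨T, hTn, hTp, hTall⟩
  · have hK : K = ⊥ := r_step1 IH P hcyc hab hnc hnn K hKn hKp
    have hDp : IsPGroup p (Subgroup.centralizer (U : Set G)) := by
      apply isPGroup_of_coprime_trivial
      intro y hy ho
      have h3 := hKall y hy ho
      rwa [hK, Subgroup.mem_bot] at h3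
    have hDP := P.is_maximal' hDp hPD
    apply hnn
    rw [← hDP]; exact hDn
  · have hPT : (P : Subgroup G) ≤ T := by
      intro a ha
      obtain ⟨k, hk⟩ := P.2 ⟨a, ha⟩
      have hak : a ^ p ^ k = 1 := by
        have := congrArg Subtype.val hk
        simpa using this
      exact hTall a (hPD ha) k hak
    have hTP := P.is_maximal' hTp hPT
    apply hnn
    rw [← hTP]; exact hTn

/-- a minimal counterexample is simple -/
theorem r_simple
    (IH : ∀ (G' : Type u) [Group G'] [Finite G'], Nat.card G' < Nat.card G → Good p G')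
    (P : Sylow p G) (hcyc : IsCyclic P)
    (hab : ∀ H : Subgroup G, ¬ p ∣ Nat.card H → IsMulCommutative H)
    (hnc : ¬ Cfsg.HasNormalPComplement p G) (hnn : ¬ (P : Subgroup G).Normal) :
    IsSimpleGroup G := by
  haveI : Nontrivial G := by
    by_contra h
    rw [not_nontrivial_iff_subsingleton] at h
    apply hnn
    refine ⟨fun n hn g => ?_⟩
    have h1 : g * n * g⁻¹ = n := Subsingleton.elim _ _
    rw [h1]; exact hn
  refine ⟨fun M hMn => ?_⟩
  by_contra hcon
  rw [not_or] at hcon
  obtain ⟨hM1, hM2⟩ := hcon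
  rcases r_normal_cases IH P hcyc hab M hMn hM2 with
    ⟨K, hKn, hKp, hKall⟩ | ⟨T, hTn, hTp, hTall⟩
  · have hK : K = ⊥ := r_step1 IH P hcyc hab hnc hnn K hKn hKp
    have hMp : IsPGroup p M := by
      apply isPGroup_of_coprime_trivial
      intro y hy ho
      have h3 := hKall y hy ho
      rwa [hK, Subgroup.mem_bot] at h3
    exact hM1 (r_step2 IH P hcyc hab hnc hnn M hMn hMp)
  · have hT : T = ⊥ := r_step2 IH P hcyc hab hnc hnn T hTn hTp
    have hMp : ¬ p ∣ Nat.card M := by
      intro hdvd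
      obtain ⟨y, hy⟩ := exists_prime_orderOf_dvd_card' p hdvd
      have h0 : (y : G) ^ p = 1 := by
        rw [← hy, ← Subgroup.orderOf_coe]
        exact pow_orderOf_eq_one _
      have h1 : (y : G) ^ p ^ 1 = 1 := by simpa using h0
      have h2 := hTall y y.2 1 h1
      rw [hT, Subgroup.mem_bot] at h2
      have h3 : y = 1 := Subtype.ext h2
      rw [h3, orderOf_one] at hy
      exact (Fact.out : p.Prime).ne_one hy.symm
    exact hM1 (r_step1 IH P hcyc hab hnc hnn M hMn hMp)

end red

/-- S4016 from its simple case, by induction on the order -/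
theorem main_aux (p : ℕ) [Fact p.Prime]
    (SC : ∀ (G : Type u) [Group G] [Finite G] [IsSimpleGroup G], (∃ a b : G, a * b ≠ b * a) →
      (∀ P : Sylow p G, IsCyclic P) →
      (∀ H : Subgroup G, ¬ p ∣ Nat.card H → IsMulCommutative H) →
      (∀ H : Subgroup G, H ≠ ⊤ → ∀ P1 : Sylow p H,
        Cfsg.HasNormalPComplement p H ∨ (P1 : Subgroup H).Normal) →
      (∀ (q : ℕ) [Fact q.Prime] (Q : Sylow q G), IsMulCommutative Q → ∀ y ∈ Q,
        (∀ n ∈ Subgroup.normalizer ((Q : Subgroup G) : Set G), n * y = y * n) → y = 1) →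
      False) :
    ∀ (n : ℕ) (G : Type u) [Group G] [Finite G], Nat.card G = n → Good p G := by
  intro n
  induction n using Nat.strong_induction_on with
  | _ n ih =>
    intro G _ _ hn P hcyc hab
    by_contra hcon
    rw [not_or] at hcon
    obtain ⟨hnc, hnn⟩ := hcon
    have IH : ∀ (G' : Type u) [Group G'] [Finite G'], Nat.card G' < Nat.card G → Good p G' :=
      fun G' _ _ hlt => ih (Nat.card G') (hn ▸ hlt) G' rfl
    haveI hs : IsSimpleGroup G := r_simple IH P hcyc hab hnc hnn
    have hna : ∃ a b : G, a * b ≠ b * a := by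
      by_contra hall
      push Not at hall
      apply hnn
      exact ⟨fun u hu g => by rw [hall g u, mul_inv_cancel_right]; exact hu⟩
    refine SC G hna (r_all_cyc P hcyc) hab
      (fun H hH P1 => r_ih_sub IH P hcyc hab H hH P1) ?_
    intro q _ Q hQ y hy hyn
    exact transfer_T hna q Q hQ y hy hyn

end Cfsg.Agent.Helper1.S16
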