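import Mathlib
import Cfsg.Prelude.Def_Classical
import Cfsg.Agent.Helper3.Unitary

/-!
Helper library (seat helper1): in `SU₃` over the field with four elements every matrix has
cube one or fourth power a scalar (Cayley–Hamilton), so every element of `PSU₃(2)` has order
dividing `3` or `4`.
-/

set_option autoImplicit false

namespace Cfsg.Agent.Helper1.SU34

open Matrix Cfsg Cfsg.Agent.Helper3

variable {F : Type*} [Field F]

/-- Cayley–Hamilton for `3 × 3` matrices -/
theorem ch3 (M : Matrix (Fin 3) (Fin 3) F) :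
    M * M * M = M.trace • (M * M) - (M.adjugate.trace) • M +
      M.det • (1 : Matrix (Fin 3) (Fin 3) F) := by
  rw [Matrix.adjugate_fin_three]
  ext i j
  fin_cases i <;> fin_cases j <;>
    simp [Matrix.mul_apply, Fin.sum_univ_three, Matrix.det_fin_three, Matrix.trace_fin_three] <;>
    ring

variable [Fintype F]

/-- the adjugate of a unitary matrix of determinant one has trace the square of the trace -/
theorem trace_adj (hF : Fintype.card F = 2 ^ 2) (M : Matrix (Fin 3) (Fin 3) F)
    (hM : HPres 3 2 M) (hdet : M.det = 1) : M.adjugate.trace = M.trace ^ 2 := by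
  obtain ⟨φ, hφ, hφ2⟩ := exists_frob hF
  have h1 : Mᵀ * (φ.mapMatrix M) = 1 := by
    ext a b
    have h := hM (Pi.single a 1) (Pi.single b 1)
    rw [herm_single (by norm_num), Matrix.mulVec_single_one, Matrix.mulVec_single_one,
      herm_phi φ hφ] at h
    rw [Matrix.mul_apply, Matrix.one_apply, ← h]
    rfl
  have h2 : (φ.mapMatrix M)ᵀ * M = 1 := by
    have := congrArg Matrix.transpose h1
    rwa [Matrix.transpose_mul, Matrix.transpose_transpose, Matrix.transpose_one] at this
  have h3 : M.adjugate = (φ.mapMatrix M)ᵀ := by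
    calc M.adjugate = ((φ.mapMatrix M)ᵀ * M) * M.adjugate := by rw [h2, one_mul]
      _ = (φ.mapMatrix M)ᵀ * (M * M.adjugate) := by rw [mul_assoc]
      _ = (φ.mapMatrix M)ᵀ := by rw [Matrix.mul_adjugate, hdet, one_smul, mul_one]
  rw [h3, Matrix.trace_transpose, Matrix.trace_fin_three, Matrix.trace_fin_three]
  simp only [RingHom.mapMatrix_apply, Matrix.map_apply, hφ]
  rw [← hφ, ← hφ, ← hφ, ← map_add, ← map_add, hφ]

/-- the dichotomy for matrices -/
theorem cube_or_fourth (hF : Fintype.card F = 2 ^ 2) (M : Matrix (Fin 3) (Fin 3) F)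
    (hM : HPres 3 2 M) (hdet : M.det = 1) :
    M ^ 3 = 1 ∨ ∃ c : F, M ^ 4 = c • (1 : Matrix (Fin 3) (Fin 3) F) := by
  have hch := ch3 M
  rw [trace_adj hF M hM hdet, hdet, one_smul] at hch
  by_cases ht : M.trace = 0
  · left
    rw [ht] at hch
    rw [pow_succ, pow_two, hch]
    simp
  · right
    refine ⟨M.trace, ?_⟩
    have ht3 : M.trace ^ 3 = 1 := by
      have := FiniteField.pow_card_sub_one_eq_one M.trace ht
      rw [hF] at this
      exact this
    have h4 : M ^ 4 = M * (M * M * M) := by
      rw [pow_succ' M 3, pow_succ, pow_two]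
    have h5 : M * (M * M) = M * M * M := (mul_assoc M M M).symm
    rw [h4, hch, Matrix.mul_add, Matrix.mul_sub, Matrix.mul_smul, Matrix.mul_smul, mul_one, h5,
      hch]
    have key : M.trace • (M.trace • (M * M) - M.trace ^ 2 • M + 1) - M.trace ^ 2 • (M * M) + M
        = (1 - M.trace ^ 3) • M + M.trace • (1 : Matrix (Fin 3) (Fin 3) F) := by
      simp only [smul_add, smul_sub, smul_smul, sub_smul, one_smul]
      have e1 : M.trace * M.trace = M.trace ^ 2 := by ring
      have e2 : M.trace * M.trace ^ 2 = M.trace ^ 3 := by ring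
      rw [e1, e2]
      abel
    rw [key, ht3, sub_self, zero_smul, zero_add]

/-- every element of `PSU₃(2)` has order dividing three or four -/
theorem psu_exp (hF : Fintype.card F = 2 ^ 2) (g : Cfsg.PSU 3 F 2) : g ^ 3 = 1 ∨ g ^ 4 = 1 := by
  obtain ⟨A, rfl⟩ := QuotientGroup.mk_surjective g
  have hM : HPres 3 2 ((A : Matrix.SpecialLinearGroup (Fin 3) F) : Matrix (Fin 3) (Fin 3) F) :=
    (mem_SU_iff (A : Matrix.SpecialLinearGroup (Fin 3) F)).mp A.2
  have hdet : ((A : Matrix.SpecialLinearGroup (Fin 3) F) : Matrix (Fin 3) (Fin 3) F).det = 1 :=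
    (A : Matrix.SpecialLinearGroup (Fin 3) F).2
  rcases cube_or_fourth hF _ hM hdet with h | ⟨c, hc⟩
  · left
    rw [← QuotientGroup.mk_pow]
    have : A ^ 3 = 1 := by
      apply Subtype.ext
      apply Subtype.ext
      rw [Subgroup.coe_pow, Matrix.SpecialLinearGroup.coe_pow, h]
      rfl
    rw [this]
    rfl
  · right
    rw [← QuotientGroup.mk_pow]
    apply (QuotientGroup.eq_one_iff _).mpr
    rw [Subgroup.mem_center_iff]
    intro B
    apply Subtype.ext
    apply Subtype.ext
    rw [Subgroup.coe_mul, Subgroup.coe_mul, Matrix.SpecialLinearGroup.coe_mul,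
      Matrix.SpecialLinearGroup.coe_mul, Subgroup.coe_pow, Matrix.SpecialLinearGroup.coe_pow, hc,
      Matrix.mul_smul, Matrix.smul_mul, mul_one, one_mul]

end Cfsg.Agent.Helper1.SU34
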